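import Mathlib
import Cfsg.Agent.S4212
import Cfsg.Agent.Lib.SmallGroups.Counting
import Cfsg.Agent.Lib.SmallGroups.Action

/-!
# A group of order 443520 with the counts of M₂₂: the orders and their counts
-/

set_option autoImplicit false

namespace Cfsg.Agent.M22Nse38

open Finset

variable {G : Type*} [Group G] [Finite G]

/-- The number of elements of order `n`. -/
noncomputable def sn (G : Type*) [Group G] (n : ℕ) : ℕ := Nat.card {g : G // orderOf g = n}

/-- What the counts give. -/
structure Dat (G : Type*) [Group G] : Prop where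
  card : Nat.card G = 443520
  s2 : sn G 2 = 1155
  s3 : sn G 3 = 12320
  s5 : sn G 5 = 88704
  s6 : sn G 6 = 36960
  s7 : sn G 7 = 126720
  s11 : sn G 11 = 80640
  spec : ∀ g : G, orderOf g ∈ ([1, 2, 3, 4, 5, 6, 7, 8, 11] : List ℕ)
  cprime : ∀ g : G, orderOf g ∈ ([5, 7, 11] : List ℕ) →
    Nat.card (Subgroup.centralizer ({g} : Set G)) = orderOf g

theorem frob (n : ℕ) : Nat.gcd n (Nat.card G) ∣ Nat.card {x : G // x ^ n = 1} := by
  have h := Cfsg.Agent.S4212.result (1 : G) n
  have e1 : Nat.card {y : G // IsConj (1 : G) y} = 1 := by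
    rw [Nat.card_eq_one_iff_unique]
    refine ⟨⟨fun a b => Subtype.ext ?_⟩, ⟨⟨1, IsConj.refl 1⟩⟩⟩
    rw [isConj_one_right.1 a.2, isConj_one_right.1 b.2]
  rw [e1, one_mul] at h
  refine h.trans (dvd_of_eq (Nat.card_congr (Equiv.subtypeEquivRight fun x => ?_)))
  exact ⟨fun e => isConj_one_right.1 e, fun e => isConj_one_right.2 e⟩

theorem card_pow_eq_one {n : ℕ} (hn : n ≠ 0) :
    Nat.card {x : G // x ^ n = 1} = ∑ d ∈ n.divisors, sn G d := by
  classical
  have := Fintype.ofFinite G
  rw [Nat.card_eq_fintype_card, Fintype.card_subtype,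
    card_eq_sum_card_fiberwise (f := fun g : G => orderOf g) (t := n.divisors)
      (fun g hg => Nat.mem_divisors.2
        ⟨orderOf_dvd_of_pow_eq_one (by simpa using hg), hn⟩)]
  refine sum_congr rfl fun d hd => ?_
  rw [sn, Nat.card_eq_fintype_card, Fintype.card_subtype, filter_filter]
  congr 1
  ext g
  simp only [mem_filter, mem_univ, true_and, and_iff_right_iff_imp]
  intro e
  exact orderOf_dvd_iff_pow_eq_one.1 (e ▸ (Nat.mem_divisors.1 hd).1)

theorem sn_pos {n : ℕ} : 0 < sn G n ↔ ∃ g : G, orderOf g = n := by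
  rw [sn, Nat.card_pos_iff]
  exact ⟨fun ⟨⟨g⟩, _⟩ => ⟨g.1, g.2⟩, fun ⟨g, hg⟩ => ⟨⟨⟨g, hg⟩⟩, inferInstance⟩⟩

theorem sn_pos_of_dvd {n m : ℕ} (hm : m ∣ n) (h : 0 < sn G n) : 0 < sn G m := by
  obtain ⟨g, hg⟩ := sn_pos.1 h
  have hn : 0 < n := hg ▸ orderOf_pos g
  exact sn_pos.2 ⟨g ^ (n / m), by
    rw [orderOf_pow' g (Nat.div_pos (Nat.le_of_dvd hn hm) (Nat.pos_of_dvd_of_pos hm hn)).ne', hg,
      Nat.gcd_eq_right (Nat.div_dvd_of_dvd hm), Nat.div_div_self hm hn.ne']⟩

/-- Pairs of commuting elements of coprime orders. -/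
theorem sn_mul {p q : ℕ} (hpq : Nat.Coprime p q) [Fintype G] :
    sn G (p * q) =
      ∑ x : {x : G // orderOf x = p}, Nat.card {w : G // orderOf w = q ∧ Commute x.1 w} := by
  classical
  rw [← Nat.card_sigma]
  symm
  refine Nat.card_eq_of_bijective (fun z => ⟨z.1.1 * z.2.1, by
    rw [z.2.2.2.orderOf_mul_eq_mul_orderOf_of_coprime (by rw [z.1.2, z.2.2.1]; exact hpq), z.1.2,
      z.2.2.1]⟩) ⟨?_, ?_⟩
  · rintro ⟨⟨x, hx⟩, ⟨w, hw, hc⟩⟩ ⟨⟨x', hx'⟩, ⟨w', hw', hc'⟩⟩ e
    have e' : x * w = x' * w' := congrArg Subtype.val e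
    obtain ⟨k, hk1, hk2⟩ := Nat.chineseRemainder hpq 1 0
    have px : ∀ {x w : G}, orderOf x = p → orderOf w = q → Commute x w → (x * w) ^ k = x := by
      intro x w hx hw hc
      rw [hc.mul_pow, ← pow_mod_orderOf x, ← pow_mod_orderOf w, hx, hw, hk1, hk2, Nat.zero_mod,
        pow_zero, mul_one, ← hx, pow_mod_orderOf, pow_one]
    have ex : x = x' := by rw [← px hx hw hc, e', px hx' hw' hc']
    subst ex
    have ew : w = w' := mul_left_cancel e'
    subst ew
    rfl
  · rintro ⟨g, hg⟩
    obtain ⟨k, hk1, hk2⟩ := Nat.chineseRemainder hpq 1 0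
    obtain ⟨l, hl1, hl2⟩ := Nat.chineseRemainder hpq 0 1
    have hkl : g ^ (k + l) = g := by
      conv_rhs => rw [← pow_one g]
      rw [pow_eq_pow_iff_modEq, hg, ← Nat.modEq_and_modEq_iff_modEq_mul hpq]
      exact ⟨by simpa using hk1.add hl1, by simpa using hk2.add hl2⟩
    have hp : orderOf (g ^ k) ∣ p := orderOf_dvd_of_pow_eq_one (by
      rw [← pow_mul]; refine orderOf_dvd_iff_pow_eq_one.1 ?_
      rw [hg, mul_comm k p]; exact Nat.mul_dvd_mul_left p (Nat.modEq_zero_iff_dvd.1 hk2))
    have hq : orderOf (g ^ l) ∣ q := orderOf_dvd_of_pow_eq_one (by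
      rw [← pow_mul]; refine orderOf_dvd_iff_pow_eq_one.1 ?_
      rw [hg]; exact Nat.mul_dvd_mul_right (Nat.modEq_zero_iff_dvd.1 hl1) q)
    have hc : Commute (g ^ k) (g ^ l) := (Commute.refl g).pow_pow k l
    have hlcm : p * q ∣ orderOf (g ^ k) * orderOf (g ^ l) := by
      rw [← hg]
      have := hc.orderOf_mul_dvd_mul_orderOf
      rwa [← pow_add, hkl] at this
    have hpos : 0 < p * q := hg ▸ orderOf_pos g
    have e1 : orderOf (g ^ k) = p ∧ orderOf (g ^ l) = q := by
      have a := Nat.le_of_dvd (Nat.pos_of_mul_pos_right hpos) hp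
      have b := Nat.le_of_dvd (Nat.pos_of_mul_pos_left hpos) hq
      have c := Nat.le_of_dvd (Nat.mul_pos (orderOf_pos _) (orderOf_pos _)) hlcm
      constructor <;> nlinarith [orderOf_pos (g ^ k), orderOf_pos (g ^ l)]
    refine ⟨⟨⟨g ^ k, e1.1⟩, ⟨g ^ l, e1.2, hc⟩⟩, Subtype.ext ?_⟩
    show g ^ k * g ^ l = g
    rw [← pow_add, hkl]

/-- The values. -/
theorem image_arith : ∀ T ∈ ({41580, 55440, 36960} : Finset ℕ).powerset,
    128 ∣ 1156 + ∑ v ∈ T, v → T = {41580, 55440} := by
  decide +kernel

variable (hcard : Nat.card G = 443520)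
  (hnse : {c : ℕ | 0 < c ∧ ∃ n : ℕ, c = sn G n} =
    {c | c ∈ ([1, 1155, 12320, 41580, 88704, 36960, 126720, 55440, 80640] : List ℕ)})
include hcard hnse

theorem sn_inj {n m : ℕ} (hn : 0 < sn G n) (h : sn G n = sn G m) : n = m := by
  classical
  have := Fintype.ofFinite G
  set S : Finset ℕ := {1, 1155, 12320, 41580, 88704, 36960, 126720, 55440, 80640} with hS
  set D := (univ : Finset G).image fun g => orderOf g with hD
  have memD : ∀ {k}, k ∈ D ↔ 0 < sn G k := by
    intro k; rw [sn_pos]; simp [hD]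
  have hsum : ∑ k ∈ D, sn G k = 443520 := by
    rw [← hcard, Nat.card_eq_fintype_card, ← card_univ,
      card_eq_sum_card_image (fun g : G => orderOf g)]
    exact sum_congr rfl fun k _ => by rw [sn, Nat.card_eq_fintype_card, Fintype.card_subtype]
  have himg : D.image (sn G) = S := by
    ext v
    have := Set.ext_iff.1 hnse v
    simp only [Set.mem_setOf_eq] at this
    rw [show v ∈ S ↔ v ∈ ([1, 1155, 12320, 41580, 88704, 36960, 126720, 55440, 80640] : List ℕ) by
      simp [hS], ← this, mem_image]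
    constructor
    · rintro ⟨k, hk, rfl⟩; exact ⟨memD.1 hk, k, rfl⟩
    · rintro ⟨h0, k, rfl⟩; exact ⟨k, memD.2 h0, rfl⟩
  by_contra hne
  have hm : m ∈ D := memD.2 (h ▸ hn)
  have hn' : n ∈ D := memD.2 hn
  have hsub : (D.erase n).image (sn G) = S := by
    rw [← himg]
    refine le_antisymm (image_subset_image (erase_subset n D)) fun v hv => ?_
    obtain ⟨k, hk, rfl⟩ := mem_image.1 hv
    by_cases e : k = n
    · exact mem_image.2 ⟨m, mem_erase.2 ⟨Ne.symm hne, hm⟩, by rw [e, h]⟩
    · exact mem_image.2 ⟨k, mem_erase.2 ⟨e, hk⟩, rfl⟩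
  have hle : ∑ v ∈ S, v ≤ ∑ k ∈ D.erase n, sn G k := by
    rw [← hsub]
    exact Finset.sum_image_le_of_nonneg (g := sn G) (f := fun v : ℕ => v) (fun _ _ => Nat.zero_le _)
  rw [← add_sum_erase D _ hn'] at hsum
  rw [hS] at hle
  norm_num at hle
  omega

theorem sn_mem {n : ℕ} (hn : 0 < sn G n) :
    sn G n ∈ ([1, 1155, 12320, 41580, 88704, 36960, 126720, 55440, 80640] : List ℕ) :=
  (Set.ext_iff.1 hnse _).1 ⟨hn, n, rfl⟩

omit hcard hnse in
theorem sn_one : sn G 1 = 1 := by
  rw [sn, Nat.card_eq_one_iff_unique]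
  exact ⟨⟨fun a b => Subtype.ext ((orderOf_eq_one_iff.1 a.2).trans (orderOf_eq_one_iff.1 b.2).symm)⟩,
    ⟨⟨1, orderOf_one⟩⟩⟩

theorem sn_prime {p : ℕ} (hp : p.Prime) (hd : p ∣ 443520) :
    0 < sn G p ∧ sn G p ≠ 1 ∧ p ∣ 1 + sn G p := by
  have : Fact p.Prime := ⟨hp⟩
  obtain ⟨g, hg⟩ := exists_prime_orderOf_dvd_card' (G := G) p (hcard ▸ hd)
  have h0 : 0 < sn G p := sn_pos.2 ⟨g, hg⟩
  refine ⟨h0, fun e => hp.ne_one (sn_inj hcard hnse h0 (e.trans sn_one.symm)), ?_⟩
  have h := frob (G := G) p
  rwa [hcard, Nat.gcd_eq_left hd, card_pow_eq_one hp.ne_zero, hp.sum_divisors, add_comm, sn_one] at h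

theorem s_two : sn G 2 = 1155 := by
  obtain ⟨h0, h1, h2⟩ := sn_prime hcard hnse Nat.prime_two (by norm_num)
  have h := sn_mem hcard hnse h0
  simp only [List.mem_cons, List.not_mem_nil, or_false] at h
  omega

theorem s_three : sn G 3 = 12320 := by
  obtain ⟨h0, h1, h2⟩ := sn_prime hcard hnse Nat.prime_three (by norm_num)
  have h := sn_mem hcard hnse h0
  simp only [List.mem_cons, List.not_mem_nil, or_false] at h
  omega

theorem s_five : sn G 5 = 88704 := by
  obtain ⟨h0, h1, h2⟩ := sn_prime hcard hnse (p := 5) (by norm_num) (by norm_num)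
  have h := sn_mem hcard hnse h0
  simp only [List.mem_cons, List.not_mem_nil, or_false] at h
  omega

theorem s_seven : sn G 7 = 126720 := by
  obtain ⟨h0, h1, h2⟩ := sn_prime hcard hnse (p := 7) (by norm_num) (by norm_num)
  have h := sn_mem hcard hnse h0
  simp only [List.mem_cons, List.not_mem_nil, or_false] at h
  omega

theorem s_eleven : sn G 11 = 80640 := by
  obtain ⟨h0, h1, h2⟩ := sn_prime hcard hnse (p := 11) (by norm_num) (by norm_num)
  have h := sn_mem hcard hnse h0
  simp only [List.mem_cons, List.not_mem_nil, or_false] at h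
  omega

theorem s_big {p : ℕ} (hp : p ∈ ([5, 7, 11] : List ℕ)) :
    p.Prime ∧ p ∣ 443520 ∧ ¬ p ^ 2 ∣ 443520 ∧ 80640 ≤ sn G p ∧ sn G p ≤ 126720 := by
  simp only [List.mem_cons, List.not_mem_nil, or_false] at hp
  rcases hp with rfl | rfl | rfl
  · rw [s_five hcard hnse]; norm_num
  · rw [s_seven hcard hnse]; norm_num
  · rw [s_eleven hcard hnse]; norm_num

/-- No element of prime order other than `p` commutes with one of order `p = 5, 7, 11`. -/
theorem no_commute {p q : ℕ} (hp : p ∈ ([5, 7, 11] : List ℕ)) (hq : q.Prime) (hpq : q ≠ p)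
    {x w : G} (hx : orderOf x = p) (hw : orderOf w = q) : ¬ Commute x w := by
  classical
  intro hc
  have := Fintype.ofFinite G
  obtain ⟨pp, pd, pd2, plo, phi⟩ := s_big hcard hnse hp
  have : Fact p.Prime := ⟨pp⟩
  have hP : ∀ P : Sylow p G, Nat.card ↥(P : Subgroup G) = p := fun P => by
    rw [P.card_eq_multiplicity, hcard]
    have : (443520).factorization p = 1 := by
      refine le_antisymm ?_ ((pp.dvd_iff_one_le_factorization (by norm_num)).1 pd)
      by_contra hlt
      exact pd2 ((pp.pow_dvd_iff_le_factorization (by norm_num)).2 (by omega))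
    rw [this, pow_one]
  have key : ∀ y : {y : G // orderOf y = p},
      Nat.card {w : G // orderOf w = q ∧ Commute y.1 w} =
        Nat.card {w : G // orderOf w = q ∧ Commute x w} := by
    rintro ⟨y, hy⟩
    obtain ⟨P, hyP⟩ := SmallGroups.exists_mem_sylow hy
    obtain ⟨Q, hxQ⟩ := SmallGroups.exists_mem_sylow hx
    obtain ⟨g, rfl⟩ := MulAction.exists_smul_eq G P Q
    have hy1 : y ≠ 1 := fun e => pp.ne_one (by rw [← hy, e, orderOf_one])
    have hx1 : x ≠ 1 := fun e => pp.ne_one (by rw [← hx, e, orderOf_one])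
    have e1 := SmallGroups.zpowers_eq_of_card_prime (hP P) hyP hy1
    have e2 := SmallGroups.zpowers_eq_of_card_prime (hP _) hxQ hx1
    have hyx : g * y * g⁻¹ ∈ Subgroup.zpowers x := by
      rw [e2, Sylow.coe_subgroup_smul, Subgroup.mem_pointwise_smul_iff_inv_smul_mem]
      simpa [MulAut.smul_def, mul_assoc] using hyP
    have hxy : g⁻¹ * x * g ∈ Subgroup.zpowers y := by
      rw [e1]
      have := hxQ
      rw [Sylow.coe_subgroup_smul, Subgroup.mem_pointwise_smul_iff_inv_smul_mem] at this
      simpa [MulAut.smul_def, mul_assoc] using this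
    refine Nat.card_congr ((MulAut.conj g).toEquiv.subtypeEquiv fun w => and_congr ?_ ?_)
    · rw [show orderOf ((MulAut.conj g).toEquiv w) = orderOf w from
        orderOf_injective (MulAut.conj g).toMonoidHom (MulAut.conj g).injective w]
    · show Commute y w ↔ Commute x (g * w * g⁻¹)
      obtain ⟨i, hi⟩ := hxy
      obtain ⟨j, hj⟩ := hyx
      simp only at hi hj
      constructor
      · intro h
        have h' : Commute (y ^ i) w := h.zpow_left i
        rw [hi] at h'
        have := h'.map (MulAut.conj g).toMonoidHom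
        simpa [mul_assoc] using this
      · intro h
        have h' : Commute (x ^ j) (g * w * g⁻¹) := h.zpow_left j
        rw [hj] at h'
        have := h'.map (MulAut.conj g⁻¹).toMonoidHom
        simpa [mul_assoc] using this
  have hmul : sn G (p * q) = sn G p * Nat.card {w : G // orderOf w = q ∧ Commute x w} := by
    rw [sn_mul ((Nat.coprime_primes pp hq).2 (Ne.symm hpq)), sum_congr rfl (fun y _ => key y),
      sum_const, card_univ, smul_eq_mul, sn, ← Nat.card_eq_fintype_card]
  have hpos : 0 < Nat.card {w : G // orderOf w = q ∧ Commute x w} :=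
    Nat.card_pos_iff.2 ⟨⟨⟨w, hw, hc⟩⟩, inferInstance⟩
  have h0 : 0 < sn G (p * q) := hmul ▸ Nat.mul_pos (by omega) hpos
  have hmem := sn_mem hcard hnse h0
  have hne : sn G (p * q) ≠ sn G p := fun e => by
    have := sn_inj hcard hnse h0 e
    have := hq.two_le
    nlinarith [pp.pos]
  have : 2 ≤ Nat.card {w : G // orderOf w = q ∧ Commute x w} := by
    by_contra hlt
    exact hne (by rw [hmul, show Nat.card {w : G // orderOf w = q ∧ Commute x w} = 1 by omega, mul_one])
  simp only [List.mem_cons, List.not_mem_nil, or_false] at hmem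
  have : 2 * 80640 ≤ sn G (p * q) := by rw [hmul]; nlinarith
  omega

/-- The orders and the counts. -/
theorem dat : Dat G := by
  classical
  have := Fintype.ofFinite G
  have hC : ∀ g : G, orderOf g ∈ ([5, 7, 11] : List ℕ) →
      Nat.card (Subgroup.centralizer ({g} : Set G)) = orderOf g := by
    intro g hg
    obtain ⟨pp, pd, pd2, -, -⟩ := s_big hcard hnse hg
    set C := Subgroup.centralizer ({g} : Set G)
    have hd : orderOf g ∣ Nat.card C := by
      rw [← Nat.card_zpowers]
      exact Subgroup.card_dvd_of_le (Subgroup.zpowers_le.2 (Subgroup.mem_centralizer_singleton_iff.2 rfl))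
    obtain ⟨m, hm⟩ := hd
    by_contra hne
    obtain ⟨q, hq, hqm⟩ := Nat.exists_prime_and_dvd (n := m) (fun e => hne (by rw [hm, e, mul_one]))
    have hqp : q ≠ orderOf g := fun e => pd2 (by
      refine dvd_trans ?_ (hcard ▸ Subgroup.card_subgroup_dvd_card C)
      rw [pow_two, hm]
      exact Nat.mul_dvd_mul_left _ (e ▸ hqm))
    have : Fact q.Prime := ⟨hq⟩
    obtain ⟨w, hw⟩ := exists_prime_orderOf_dvd_card' (G := C) q (hm ▸ dvd_mul_of_dvd_right hqm _)
    exact no_commute hcard hnse hg hq hqp rfl (w := w.1) (by rw [Subgroup.orderOf_coe, hw])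
      (Subgroup.mem_centralizer_singleton_iff.1 w.2).symm
  -- an element of order 6
  have h6 : 0 < sn G 6 := by
    obtain ⟨x, hx⟩ := sn_pos.1 (sn_prime hcard hnse Nat.prime_three (by norm_num)).1
    set C := Subgroup.centralizer ({x} : Set G)
    have hle : Nat.card {y : G // IsConj x y} ≤ 12320 := by
      rw [← s_three hcard hnse]
      refine Nat.card_le_card_of_injective (fun y => ⟨y.1, ?_⟩) fun a b e => ?_
      · obtain ⟨c, hc⟩ := isConj_iff.1 y.2
        rw [← hc, ← hx]
        exact orderOf_injective (MulAut.conj c).toMonoidHom (MulAut.conj c).injective x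
      · exact Subtype.ext (congrArg Subtype.val e :)
    have hmul : Nat.card {y : G // IsConj x y} * Nat.card C = Nat.card G :=
      SmallGroups.card_conj_mul_centralizer x
    have hdC : Nat.card C ∣ 443520 := hcard ▸ Subgroup.card_subgroup_dvd_card C
    have noq : ∀ q ∈ ([5, 7, 11] : List ℕ), ¬ q ∣ Nat.card C := by
      intro q hq hqd
      obtain ⟨qq, -, -, -, -⟩ := s_big hcard hnse hq
      have : Fact q.Prime := ⟨qq⟩
      obtain ⟨w, hw⟩ := exists_prime_orderOf_dvd_card' (G := C) q hqd
      refine no_commute hcard hnse hq Nat.prime_three ?_ (x := w.1) (by rw [Subgroup.orderOf_coe, hw]) hx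
        (Subgroup.mem_centralizer_singleton_iff.1 w.2)
      rintro rfl; norm_num at hq
    have heven : 2 ∣ Nat.card C := by
      by_contra hodd
      have hsmall : Nat.card C ∣ 9 := by
        have c : Nat.Coprime (Nat.card C) 49280 := by
          rw [show 49280 = 2 ^ 7 * 5 * 7 * 11 by norm_num]
          refine ((Nat.Coprime.mul_right (Nat.Coprime.mul_right ?_ ?_) ?_)).mul_right ?_
          · exact ((Nat.Prime.coprime_iff_not_dvd Nat.prime_two).2 hodd).symm.pow_right 7
          all_goals exact ((Nat.Prime.coprime_iff_not_dvd (by norm_num)).2 (noq _ (by simp))).symm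
        exact c.dvd_of_dvd_mul_right (show Nat.card C ∣ 9 * 49280 by rw [show (9 * 49280 : ℕ) = 443520 by norm_num]; exact hdC)
      have := Nat.le_of_dvd (by norm_num) hsmall
      rw [hcard] at hmul
      nlinarith
    obtain ⟨w, hw⟩ := exists_prime_orderOf_dvd_card' (G := C) 2 heven
    refine sn_pos.2 ⟨x * w.1, ?_⟩
    have hc : Commute x w.1 := (Subgroup.mem_centralizer_singleton_iff.1 w.2).symm
    rw [hc.orderOf_mul_eq_mul_orderOf_of_coprime] <;> rw [hx, Subgroup.orderOf_coe, hw]
    norm_num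
  have h6' : sn G 6 ∈ ({41580, 55440, 36960} : Finset ℕ) := by
    have hm := sn_mem hcard hnse h6
    have ne : ∀ k v, sn G k = v → k ≠ 6 → sn G 6 ≠ v := fun k v hk h e =>
      h (sn_inj hcard hnse h6 (e.trans hk.symm)).symm
    have := ne 1 _ sn_one (by norm_num)
    have := ne 2 _ (s_two hcard hnse) (by norm_num)
    have := ne 3 _ (s_three hcard hnse) (by norm_num)
    have := ne 5 _ (s_five hcard hnse) (by norm_num)
    have := ne 7 _ (s_seven hcard hnse) (by norm_num)
    have := ne 11 _ (s_eleven hcard hnse) (by norm_num)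
    simp only [List.mem_cons, List.not_mem_nil, or_false] at hm
    simp only [mem_insert, mem_singleton]
    omega
  set A := ({4, 8, 16, 32, 64, 128} : Finset ℕ).filter fun n => 0 < sn G n with hA
  have hAimg : A.image (sn G) ⊆ ({41580, 55440, 36960} : Finset ℕ) := by
    intro v hv
    obtain ⟨k, hk, rfl⟩ := mem_image.1 hv
    obtain ⟨hk1, hk2⟩ := mem_filter.1 hk
    have hm := sn_mem hcard hnse hk2
    have ne : ∀ j v, sn G j = v → ¬ 4 ∣ j → sn G k ≠ v := fun j v hj h e => h (by
      rw [← sn_inj hcard hnse hk2 (e.trans hj.symm)]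
      simp only [mem_insert, mem_singleton] at hk1
      rcases hk1 with rfl | rfl | rfl | rfl | rfl | rfl <;> norm_num)
    have := ne 1 _ sn_one (by norm_num)
    have := ne 2 _ (s_two hcard hnse) (by norm_num)
    have := ne 3 _ (s_three hcard hnse) (by norm_num)
    have := ne 5 _ (s_five hcard hnse) (by norm_num)
    have := ne 7 _ (s_seven hcard hnse) (by norm_num)
    have := ne 11 _ (s_eleven hcard hnse) (by norm_num)
    simp only [List.mem_cons, List.not_mem_nil, or_false] at hm
    simp only [mem_insert, mem_singleton]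
    omega
  have hAinj : Set.InjOn (sn G) A := fun a ha b _ e => sn_inj hcard hnse (mem_filter.1 ha).2 e
  have hT : A.image (sn G) = {41580, 55440} := by
    refine image_arith _ (mem_powerset.2 hAimg) ?_
    rw [sum_image hAinj, hA, sum_filter_of_ne fun n _ h => Nat.pos_of_ne_zero h]
    have h := frob (G := G) 128
    rw [hcard, show Nat.gcd 128 443520 = 128 by norm_num, card_pow_eq_one (by norm_num),
      show (128 : ℕ).divisors = {1, 2, 4, 8, 16, 32, 64, 128} by decide +kernel] at h
    rw [sum_insert (by simp), sum_insert (by simp), sn_one, s_two hcard hnse] at h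
    rw [show 1156 = 1 + 1155 by norm_num, add_assoc]
    exact h
  have h6A : sn G 6 = 36960 := by
    have hn : sn G 6 ∉ A.image (sn G) := by
      rw [mem_image]
      rintro ⟨k, hk, e⟩
      have := sn_inj hcard hnse h6 e.symm
      subst this
      exact absurd (mem_filter.1 hk).1 (by simp)
    rw [hT] at hn
    simp only [mem_insert, mem_singleton] at h6' hn
    omega
  refine ⟨hcard, s_two hcard hnse, s_three hcard hnse, s_five hcard hnse, h6A, s_seven hcard hnse,
    s_eleven hcard hnse, fun g => ?_, hC⟩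
  have hpos : 0 < sn G (orderOf g) := sn_pos.2 ⟨g, rfl⟩
  have hAc : A.card = 2 := by rw [← card_image_of_injOn hAinj, hT]; rfl
  have h4 : 4 ∈ A := by
    obtain ⟨k, hk⟩ : A.Nonempty := card_pos.1 (by omega)
    refine mem_filter.2 ⟨by simp, sn_pos_of_dvd ?_ (mem_filter.1 hk).2⟩
    have := (mem_filter.1 hk).1
    simp only [mem_insert, mem_singleton] at this
    omega
  have h8 : 8 ∈ A := by
    obtain ⟨k, hk, hk4⟩ := exists_mem_ne (s := A) (by omega) 4
    refine mem_filter.2 ⟨by simp, sn_pos_of_dvd ?_ (mem_filter.1 hk).2⟩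
    have := (mem_filter.1 hk).1
    simp only [mem_insert, mem_singleton] at this
    omega
  have hm := sn_mem hcard hnse hpos
  simp only [List.mem_cons, List.not_mem_nil, or_false] at hm ⊢
  rcases hm with e | e | e | e | e | e | e | e | e
  · exact Or.inl (sn_inj hcard hnse hpos (e.trans sn_one.symm))
  · have := sn_inj hcard hnse hpos (e.trans (s_two hcard hnse).symm); omega
  · have := sn_inj hcard hnse hpos (e.trans (s_three hcard hnse).symm); omega
  · have hv : sn G (orderOf g) ∈ A.image (sn G) := by rw [hT, e]; simp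
    obtain ⟨k, hk, e'⟩ := mem_image.1 hv
    have := sn_inj hcard hnse hpos e'.symm
    have hA2 : A = {4, 8} := (eq_of_subset_of_card_le (by simp [insert_subset_iff, h4, h8])
      (by rw [hAc]; rfl)).symm
    rw [hA2] at hk
    simp only [mem_insert, mem_singleton] at hk
    omega
  · have := sn_inj hcard hnse hpos (e.trans (s_five hcard hnse).symm); omega
  · have := sn_inj hcard hnse hpos (e.trans h6A.symm); omega
  · have := sn_inj hcard hnse hpos (e.trans (s_seven hcard hnse).symm); omega
  · have hv : sn G (orderOf g) ∈ A.image (sn G) := by rw [hT, e]; simp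
    obtain ⟨k, hk, e'⟩ := mem_image.1 hv
    have := sn_inj hcard hnse hpos e'.symm
    have hA2 : A = {4, 8} := (eq_of_subset_of_card_le (by simp [insert_subset_iff, h4, h8])
      (by rw [hAc]; rfl)).symm
    rw [hA2] at hk
    simp only [mem_insert, mem_singleton] at hk
    omega
  · have := sn_inj hcard hnse hpos (e.trans (s_eleven hcard hnse).symm); omega

end Cfsg.Agent.M22Nse38
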