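import Cfsg.Agent.M22Nse38.Sylow

/-!
# The centraliser of an involution
-/

set_option autoImplicit false

namespace Cfsg.Agent.M22Nse38

open Subgroup
open scoped Pointwise

local instance : Fact (Nat.Prime 3) := ⟨Nat.prime_three⟩
local instance : Fact (Nat.Prime 2) := ⟨Nat.prime_two⟩

variable {G : Type*} [Group G] [Finite G]

/-- A Sylow 3-subgroup, two generators, an inverting involution and a four group. -/
structure Cfg (G : Type*) [Group G] where
  P : Sylow 3 G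
  x : G
  y : G
  s : G
  t : G
  u : G
  hxP : x ∈ (P : Subgroup G)
  hx : orderOf x = 3
  hyP : y ∈ (P : Subgroup G)
  hy : y ∉ zpowers x
  hs : orderOf s = 2
  sP : ∀ r ∈ (P : Subgroup G), s * r * s⁻¹ = r⁻¹
  ht : t ∈ fourOf x
  hu : u ∈ fourOf x
  ht1 : t ≠ 1
  hu1 : u ≠ 1
  hut : u ≠ t
  st : s * t * s⁻¹ = t
  su : s * u * s⁻¹ = t * u
  yt : y * t * y⁻¹ = u
  yu : y * u * y⁻¹ = t * u

theorem four_cases (hd : Dat G) {x : G} (hx : orderOf x = 3) {a b v : G} (ha : a ∈ fourOf x)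
    (hb : b ∈ fourOf x) (ha1 : a ≠ 1) (hb1 : b ≠ 1) (hab : b ≠ a) (hv : v ∈ fourOf x) :
    v = 1 ∨ v = a ∨ v = b ∨ v = a * b := by
  classical
  have := Fintype.ofFinite G
  have ha2 : a * a = 1 := by rw [← pow_two]; exact ((mem_fourOf hd hx).1 ha).1
  have key : ({1, a, b, a * b} : Finset G) = (Finset.univ.filter fun w => w ∈ fourOf x) := by
    refine Finset.eq_of_subset_of_card_le (fun w hw => ?_) ?_
    · simp only [Finset.mem_insert, Finset.mem_singleton] at hw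
      rw [Finset.mem_filter]
      rcases hw with rfl | rfl | rfl | rfl
      exacts [⟨Finset.mem_univ _, one_mem _⟩, ⟨Finset.mem_univ _, ha⟩, ⟨Finset.mem_univ _, hb⟩,
        ⟨Finset.mem_univ _, mul_mem ha hb⟩]
    · rw [← Fintype.card_subtype, ← Nat.card_eq_fintype_card]
      refine (card_fourOf hd hx).le.trans ?_
      have h4 : (1 : G) ≠ a * b := fun e => hab (by
        have := congrArg (a * ·) e
        simp only [mul_one, ← mul_assoc, ha2, one_mul] at this
        exact this.symm)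
      rw [Finset.card_insert_of_notMem (by simp [Ne.symm ha1, Ne.symm hb1, h4]),
        Finset.card_insert_of_notMem (by simp [Ne.symm hab, hb1]),
        Finset.card_insert_of_notMem (by simp [ha1]), Finset.card_singleton]
  have : v ∈ ({1, a, b, a * b} : Finset G) := key ▸ Finset.mem_filter.2 ⟨Finset.mem_univ _, hv⟩
  simpa using this

theorem exists_cfg (hd : Dat G) : Nonempty (Cfg G) := by
  classical
  obtain ⟨x, hx⟩ := sn_pos.1 (show 0 < sn G 3 by rw [hd.s3]; norm_num)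
  obtain ⟨P, hxP⟩ := SmallGroups.exists_mem_sylow (p := 3) hx
  have hx1 : x ≠ 1 := fun e => by simp [e] at hx
  obtain ⟨g0, hg0⟩ := conj_three hd hx ((orderOf_inv x).trans hx)
  have hxP' : x ∈ ((g0 • P : Sylow 3 G) : Subgroup G) := by
    rw [Sylow.coe_subgroup_smul, mem_pointwise_smul_iff_inv_smul_mem]
    have e : g0⁻¹ * x * g0 = x⁻¹ := by
      rw [show g0⁻¹ * x * g0 = (g0⁻¹ * (g0 * x * g0⁻¹) * g0)⁻¹ by rw [hg0]; group]
      group
    simp only [MulAut.smul_def, MulAut.inv_apply, MulAut.conj_symm_apply]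
    rw [e]; exact inv_mem hxP
  have l1 := sylow_le_cz hd P hxP
  have l2 := sylow_le_cz hd (g0 • P) hxP'
  obtain ⟨c, hc⟩ := MulAction.exists_smul_eq (cz x) ((g0 • P).subtype l2) (P.subtype l1)
  rw [Sylow.smul_subtype] at hc
  have hgP : ((c : G) * g0) • P = P := by
    rw [mul_smul]; exact Sylow.subtype_injective hc
  set g := (c : G) * g0 with hg
  have hgn := Sylow.smul_eq_iff_mem_normalizer.1 hgP
  have hgx : g * x * g⁻¹ = x⁻¹ := by
    rw [hg, show (c : G) * g0 * x * ((c : G) * g0)⁻¹ = (c : G) * (g0 * x * g0⁻¹) * (c : G)⁻¹ by group,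
      hg0, show (c : G) * x⁻¹ * (c : G)⁻¹ = ((c : G) * x * (c : G)⁻¹)⁻¹ by group, mem_cz'.1 c.2]
  have hg2P : g * g ∈ (P : Subgroup G) := by
    refine self_norm hd hxP hx1 (mem_cz'.2 ?_) (mul_mem hgn hgn)
    rw [show g * g * x * (g * g)⁻¹ = g * (g * x * g⁻¹) * g⁻¹ by group, hgx,
      show g * x⁻¹ * g⁻¹ = (g * x * g⁻¹)⁻¹ by group, hgx, inv_inv]
  set s := g * g * g with hs
  have hsx : s * x * s⁻¹ = x⁻¹ := by
    rw [hs, show g * g * g * x * (g * g * g)⁻¹ = g * ((g * g) * x * (g * g)⁻¹) * g⁻¹ by group,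
      mem_cz'.1 (sylow_le_cz hd P hxP hg2P), hgx]
  have hs2 : s ^ 2 = 1 := by
    rw [hs, show (g * g * g) ^ 2 = (g * g) ^ 3 by simp only [pow_succ, pow_zero, one_mul, mul_assoc]]
    by_cases h : g * g = 1
    · rw [h, one_pow]
    · exact orderOf_dvd_iff_pow_eq_one.1 (dvd_of_eq (sylow3_orderOf hd P hg2P h))
  have hso : orderOf s = 2 := orderOf_eq_prime hs2 fun e => by
    rw [e, one_mul, inv_one, mul_one] at hsx
    have h2 : x ^ 2 = 1 := by rw [pow_two]; nth_rw 2 [hsx]; group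
    have := orderOf_dvd_of_pow_eq_one h2
    rw [hx] at this; omega
  have hsn : s ∈ normalizer ((P : Subgroup G) : Set G) := mul_mem (mul_mem hgn hgn) hgn
  have sP : ∀ r ∈ (P : Subgroup G), s * r * s⁻¹ = r⁻¹ := by
    intro r hr
    have hr' : s * r * s⁻¹ ∈ (P : Subgroup G) := (mem_normalizer_iff.1 hsn r).1 hr
    by_contra hne
    have ha1 : r * (s * r * s⁻¹) ≠ 1 := fun e => hne (eq_inv_of_mul_eq_one_right e)
    have hfix : s ∈ cz (r * (s * r * s⁻¹)) := mem_cz'.2 (by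
      have e : s * s = 1 := by rw [← pow_two]; exact hs2
      rw [show s * (r * (s * r * s⁻¹)) * s⁻¹ = (s * r * s⁻¹) * ((s * s) * r * (s * s)⁻¹) by group, e,
        one_mul, inv_one, mul_one]
      exact (sylow3_comm hd P hr' hr).eq)
    have hsP := self_norm hd (mul_mem hr hr') ha1 hfix hsn
    have := sylow3_orderOf hd P hsP (fun e => by rw [e, orderOf_one] at hso; omega)
    omega
  obtain ⟨y, hyP, hy⟩ : ∃ y ∈ (P : Subgroup G), y ∉ zpowers x := by
    by_contra hc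
    push Not at hc
    have := card_le_of_le (show (P : Subgroup G) ≤ zpowers x from hc)
    rw [card_sylow3 hd, Nat.card_zpowers, hx] at this
    omega
  set S : Set G := {v | v ∈ fourOf x ∧ v ≠ 1} with hS
  have hSs : ∀ v ∈ S, s * v * s⁻¹ ∈ S := fun v hv =>
    ⟨fourOf_inv hd hx (Or.inr hsx) hv.1, fun e => hv.2 (by
      rwa [mul_inv_eq_one, mul_eq_left] at e)⟩
  have hfix := fix_mod hso S hSs
  rw [show Nat.card S = 3 from card_fourOf_sdiff hd hx] at hfix
  obtain ⟨⟨t, ⟨ht, ht1⟩, hts⟩⟩ : Nonempty {v : G // v ∈ S ∧ v ∈ cz s} := by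
    by_contra hc
    rw [not_nonempty_iff] at hc
    rw [Nat.card_of_isEmpty] at hfix
    simp [Nat.ModEq] at hfix
  have st : s * t * s⁻¹ = t := by rw [mul_inv_eq_iff_eq_mul]; exact (mem_cz.1 hts).symm
  have hycz : y ∈ cz x := sylow_le_cz hd P hxP hyP
  have hyc : y * x * y⁻¹ = x := mem_cz'.1 hycz
  have hyc' : y⁻¹ * x * y⁻¹⁻¹ = x := mem_cz'.1 (inv_mem hycz)
  have hu : y * t * y⁻¹ ∈ fourOf x := fourOf_inv hd hx (Or.inl hyc) ht
  have hw : y⁻¹ * t * y⁻¹⁻¹ ∈ fourOf x := fourOf_inv hd hx (Or.inl hyc') ht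
  have hnc : ¬ Commute y t := fun h => ht1 (no_fix hd hxP hx1 hyP hy ht h)
  have hy3 : y * y * y = 1 := by
    rw [← pow_three', ← sylow3_orderOf hd P hyP (fun e => hy (e ▸ one_mem _)), pow_orderOf_eq_one]
  have hut : y * t * y⁻¹ ≠ t := fun e => hnc (mul_inv_eq_iff_eq_mul.1 e)
  have hwt : y⁻¹ * t * y⁻¹⁻¹ ≠ t := fun e => hnc (by
    have h : Commute y⁻¹ t := mul_inv_eq_iff_eq_mul.1 e
    simpa using h.inv_left)
  have hwu : y⁻¹ * t * y⁻¹⁻¹ ≠ y * t * y⁻¹ := fun e => by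
    refine hut ?_
    have h2 : (y * y) * t * (y * y)⁻¹ = t := by
      rw [show (y * y) * t * (y * y)⁻¹ = y * (y * t * y⁻¹) * y⁻¹ by group, ← e]; group
    have h := congrArg (fun z => y * z * y⁻¹) h2
    beta_reduce at h
    rw [show y * ((y * y) * t * (y * y)⁻¹) * y⁻¹ = (y * y * y) * t * (y * y * y)⁻¹ by group, hy3,
      one_mul, inv_one, mul_one] at h
    exact h.symm
  have hu1 : y * t * y⁻¹ ≠ 1 := fun e => ht1 (by rwa [mul_inv_eq_one, mul_eq_left] at e)
  have hwval : y⁻¹ * t * y⁻¹⁻¹ = t * (y * t * y⁻¹) := by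
    rcases four_cases hd hx ht hu ht1 hu1 hut hw with h | h | h | h
    · exact absurd (by rwa [mul_inv_eq_one, mul_eq_left] at h) ht1
    · exact absurd h hwt
    · exact absurd h hwu
    · exact h
  refine ⟨⟨P, x, y, s, t, y * t * y⁻¹, hxP, hx, hyP, hy, hso, sP, ht, hu, ht1, hu1, hut, st, ?_, rfl, ?_⟩⟩
  · rw [show s * (y * t * y⁻¹) * s⁻¹ = (s * y * s⁻¹) * (s * t * s⁻¹) * (s * y * s⁻¹)⁻¹ by group, st,
      sP y hyP, hwval]
  · rw [← hwval, show y * (y * t * y⁻¹) * y⁻¹ = (y * y) * t * (y * y)⁻¹ by group,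
      show y * y = y⁻¹ from eq_inv_of_mul_eq_one_left hy3]

namespace Cfg

variable (c : Cfg G)

/-- The intersection of the normalisers of the Sylow 2-subgroups of `C(t)`. -/
def O : Subgroup G := (MulAction.toPermHom (cz c.t) (Sylow 2 (cz c.t))).ker.map (cz c.t).subtype

theorem t_ord (hd : Dat G) : orderOf c.t = 2 :=
  orderOf_eq_prime ((mem_fourOf hd c.hx).1 c.ht).1 c.ht1

theorem x_ne : c.x ≠ 1 := fun e => by simpa [e] using c.hx

theorem V_le_cz (hd : Dat G) {v : G} (hv : v ∈ fourOf c.x) : v ∈ cz c.t :=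
  mem_cz.2 (fourOf_comm hd c.hx hv c.ht)

theorem x_cz (hd : Dat G) : c.x ∈ cz c.t := mem_cz.2 ((mem_fourOf hd c.hx).1 c.ht).2.eq

theorem s_cz : c.s ∈ cz c.t := mem_cz'.2 c.st

theorem O_le : c.O ≤ cz c.t := map_subtype_le _

theorem O_normal {g o : G} (hg : g ∈ cz c.t) (ho : o ∈ c.O) : g * o * g⁻¹ ∈ c.O := by
  obtain ⟨o', ho', rfl⟩ := ho
  exact ⟨⟨g, hg⟩ * o' * ⟨g, hg⟩⁻¹, (MonoidHom.normal_ker _).conj_mem o' ho' ⟨g, hg⟩, rfl⟩

omit [Finite G] in
theorem perm_three : ∀ a b : Equiv.Perm (Fin 3), a ^ 3 = 1 → b ^ 2 = 1 → a * b = b * a → a ≠ 1 → b = 1 := by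
  decide +kernel

theorem O_facts (hd : Dat G) : Nat.card c.O = 64 ∧ c.s ∉ c.O ∧ fourOf c.x ≤ c.O := by
  classical
  set C := cz c.t with hC
  have hCc : Nat.card C = 384 := cz_two hd (c.t_ord hd)
  set φ := MulAction.toPermHom C (Sylow 2 C) with hφ
  set X : C := ⟨c.x, c.x_cz hd⟩
  set S : C := ⟨c.s, c.s_cz⟩
  obtain ⟨T₀⟩ : Nonempty (Sylow 2 C) := inferInstance
  have hT : ∀ T : Sylow 2 C, Nat.card (T : Subgroup C) = 128 := fun T => by
    rw [T.card_eq_multiplicity, hCc, show (384 : ℕ) = 2 ^ 7 * 3 from by norm_num,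
      Nat.factorization_mul (by norm_num) (by norm_num), Finsupp.add_apply,
      Nat.Prime.factorization_pow Nat.prime_two, Finsupp.single_eq_same,
      Nat.factorization_eq_zero_of_not_dvd (by norm_num)]
    norm_num
  -- a normal 2-subgroup cannot contain s
  have hnos : ∀ K : Subgroup C, K.Normal → IsPGroup 2 K → S ∉ K := by
    intro K hK hK2 hS
    have h : X * S * X⁻¹ * S⁻¹ ∈ K := mul_mem (hK.conj_mem S hS X) (inv_mem hS)
    obtain ⟨i, hi⟩ := hK2 ⟨_, h⟩
    have e : ((X * S * X⁻¹ * S⁻¹ : C) : G) = c.x * c.x := by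
      show c.x * c.s * c.x⁻¹ * c.s⁻¹ = _
      rw [show c.x * c.s * c.x⁻¹ * c.s⁻¹ = c.x * (c.s * c.x * c.s⁻¹)⁻¹ by group, c.sP _ c.hxP, inv_inv]
    have h2 : (c.x * c.x) ^ 2 ^ i = 1 := by
      rw [← e]
      exact congrArg (fun z : K => ((z : C) : G)) hi
    rw [← pow_two, ← pow_mul] at h2
    have := orderOf_dvd_of_pow_eq_one h2
    rw [c.hx, ← pow_succ'] at this
    exact not_dvd_of_pgroup Nat.prime_three Nat.prime_two (by norm_num) this
  have hn2 : Nat.card (Sylow 2 C) = 3 := by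
    have h := T₀.card_dvd_index
    have hi := (T₀ : Subgroup C).index_mul_card
    rw [hT, hCc] at hi
    rw [show (T₀ : Subgroup C).index = 3 by omega] at h
    rcases (Nat.dvd_prime Nat.prime_three).1 h with h1 | h3
    · exfalso
      have hz : IsPGroup 2 (zpowers S) := IsPGroup.of_card (n := 1) (by
        rw [Nat.card_zpowers, ← Subgroup.orderOf_coe, show (S : G) = c.s from rfl, c.hs, pow_one])
      obtain ⟨T, hST⟩ := hz.exists_le_sylow
      have hs : Subsingleton (Sylow 2 C) := (Nat.card_eq_one_iff_unique.1 h1).1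
      exact hnos T (T.normal_of_subsingleton) T.2 (hST (mem_zpowers S))
    · exact h3
  have hcardker : Nat.card φ.ker = 64 ∧ φ X ≠ 1 := by
    have h1 : Nat.card φ.range ∣ 6 := by
      refine (card_subgroup_dvd_card φ.range).trans (dvd_of_eq ?_)
      rw [Nat.card_perm, hn2]
      rfl
    have h2 := φ.ker.index_mul_card
    rw [index_ker, hCc] at h2
    have h3 : 3 ∣ Nat.card φ.range := by
      have ho : Nat.card (MulAction.orbit C T₀) = 3 := by
        rw [MulAction.orbit_eq_univ, Nat.card_univ, hn2]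
      rw [← ho, Nat.card_coe_set_eq, ← MulAction.index_stabilizer, ← index_ker]
      refine index_dvd_of_le ?_
      intro k hk
      rw [MulAction.mem_stabilizer_iff]
      simpa [φ] using Equiv.ext_iff.1 (MonoidHom.mem_ker.1 hk) T₀
    have hr : Nat.card φ.range = 6 := by
      by_contra hne
      have hle := Nat.le_of_dvd (by norm_num) h1
      have hr3 : Nat.card φ.range = 3 := by
        have := Nat.card_pos (α := φ.range)
        omega
      rw [hr3] at h2
      have hk2 : IsPGroup 2 φ.ker := IsPGroup.of_card (n := 7) (by omega)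
      obtain ⟨T, hT'⟩ := hk2.exists_le_sylow
      have heq := eq_of_le_of_card_ge hT' (by rw [hT]; omega)
      have : (T : Subgroup C).Normal := heq ▸ MonoidHom.normal_ker φ
      have := Sylow.unique_of_normal T this
      rw [Nat.card_unique] at hn2
      omega
    refine ⟨by rw [hr] at h2; omega, fun e => ?_⟩
    have hk : X ∈ φ.ker := e
    have := orderOf_dvd_natCard (⟨X, hk⟩ : φ.ker)
    rw [← Subgroup.orderOf_coe, ← Subgroup.orderOf_coe, show (X : G) = c.x from rfl, c.hx,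
      show Nat.card φ.ker = 64 by rw [hr] at h2; omega] at this
    omega
  have hker2 : IsPGroup 2 φ.ker := IsPGroup.of_card (n := 6) hcardker.1
  refine ⟨?_, ?_, ?_⟩
  · rw [O, card_map_of_injective (cz c.t).subtype_injective]
    exact hcardker.1
  · rintro ⟨S', hS', e⟩
    have : S' = S := Subtype.ext e
    exact hnos φ.ker (MonoidHom.normal_ker φ) hker2 (this ▸ hS')
  · intro v hv
    refine ⟨⟨v, c.V_le_cz hd hv⟩, MonoidHom.mem_ker.2 ?_, rfl⟩
    have e : Sylow 2 C ≃ Fin 3 := Finite.equivFinOfCardEq hn2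
    apply e.permCongrHom.injective
    rw [map_one]
    obtain ⟨hv2, hvc⟩ := (mem_fourOf hd c.hx).1 hv
    refine perm_three (e.permCongrHom (φ X)) _ ?_ ?_ ?_ ?_
    · rw [← map_pow, ← map_pow, show X ^ 3 = 1 from Subtype.ext
        (orderOf_dvd_iff_pow_eq_one.1 (dvd_of_eq c.hx)), map_one, map_one]
    · rw [← map_pow, ← map_pow, show (⟨v, c.V_le_cz hd hv⟩ : C) ^ 2 = 1 from Subtype.ext hv2,
        map_one, map_one]
    · rw [← map_mul, ← map_mul, ← map_mul, ← map_mul]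
      exact congrArg (fun z => e.permCongrHom (φ z)) (Subtype.ext hvc.eq)
    · rw [ne_eq, MulEquiv.map_eq_one_iff]
      exact hcardker.2

theorem O_pgroup (hd : Dat G) : IsPGroup 2 c.O := IsPGroup.of_card (n := 6) (c.O_facts hd).1

theorem sq_of_O {hd : Dat G} {r w : G} (hr : orderOf r = 3) (hw : w ∈ c.O) (hc : Commute r w) :
    w ∈ fourOf r := by
  refine (mem_fourOf hd hr).2 ⟨sq_eq_one hd hr hc (k := 6) ?_, hc⟩
  have := orderOf_dvd_natCard (⟨w, hw⟩ : c.O)
  rw [← Subgroup.orderOf_coe, (c.O_facts hd).1] at this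
  exact this

/-- `C(t)` is generated by `O`, `x` and `s`. -/
theorem gen_C (hd : Dat G) {K : Subgroup G} (hO : c.O ≤ K) (hx : c.x ∈ K) (hs : c.s ∈ K) :
    cz c.t ≤ K := by
  set C := cz c.t
  set M := K ⊓ C
  have hOM : c.O ≤ M := le_inf hO c.O_le
  have hn : ∀ h ∈ C, ∀ k ∈ c.O, h * k * h⁻¹ ∈ c.O := fun h hh k hk => c.O_normal hh hk
  have hMc : Nat.card M ∣ 384 := cz_two hd (c.t_ord hd) ▸ card_dvd_of_le inf_le_right
  have h64 : 64 ∣ Nat.card M := (c.O_facts hd).1 ▸ card_dvd_of_le hOM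
  have h3 : 3 ∣ Nat.card M := c.hx ▸ by
    have := orderOf_dvd_natCard (⟨c.x, hx, c.x_cz hd⟩ : M)
    rwa [← Subgroup.orderOf_coe] at this
  have h192 : 192 ∣ Nat.card M :=
    Nat.Coprime.mul_dvd_of_dvd_of_dvd (m := 64) (n := 3) (by norm_num) h64 h3
  obtain ⟨m, hm⟩ := h192
  have hm2 : m ∣ 2 := Nat.dvd_of_mul_dvd_mul_left (by norm_num : 0 < 192) (hm ▸ hMc)
  rcases (Nat.dvd_prime Nat.prime_two).1 hm2 with rfl | rfl
  · exfalso
    have hs64 : c.s ^ 64 = 1 := orderOf_dvd_iff_pow_eq_one.1 (by rw [c.hs]; norm_num)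
    exact (c.O_facts hd).2.1 (mem_of_index_three hOM (fun h hh k hk => hn h hh.2 k hk)
      (by rw [hm, (c.O_facts hd).1]) ⟨hs, c.s_cz⟩ hs64)
  · exact (eq_of_le_of_card_ge (inf_le_right : M ≤ C) (by rw [hm, cz_two hd (c.t_ord hd)])).ge.trans
      inf_le_left

end Cfg

end Cfsg.Agent.M22Nse38
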