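import Cfsg.Agent.M22Nse38.Tables

/-!
# The numbers of elements of each order of M₂₂
-/

set_option autoImplicit false

namespace Cfsg.Agent.M22Nse38

open Cfsg Cfsg.Agent.Golay Finset

theorem exists_tab (k : ℕ) : ∃ g ∈ Spor.M22,
    Tab g ((evalSLP [doubleTab, conj22Tab, idTab] prog22).getD k idTab) := by
  refine evalSLP_mem Spor.M22 prog22 _ ?_ k
  intro l hl
  simp only [List.mem_cons, List.not_mem_nil, or_false] at hl
  rcases hl with rfl | rfl | rfl
  · exact ⟨double, gens22_mem (by simp), tab_permOf _⟩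
  · exact ⟨conjDouble, gens22_mem (by simp), tab_permOf _⟩
  · exact ⟨1, one_mem _, tab_one⟩

theorem exists_row {T : List (List ℕ)} {R : List (ℕ × ℕ)}
    (hT : R.map (fun xk => (evalSLP [doubleTab, conj22Tab, idTab] prog22).getD xk.2 idTab) = T)
    {q : ℕ} (hq : q < T.length) : ∃ g ∈ Spor.M22, Tab g (T.getD q []) := by
  subst hT
  rw [List.getD_eq_getElem _ _ hq, List.getElem_map]
  exact exists_tab _

/-- A level of the chain: a permutation for each row. -/
structure Lev (T : List (List ℕ)) (i : ℕ) where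
  h : ℕ → Equiv.Perm GolayPt
  mem : ∀ q < T.length, h q ∈ Spor.M22
  tab : ∀ q < T.length, Tab (h q) (T.getD q [])
  fix : ∀ q < T.length, ∀ j < i, h q (bp j) = bp j
  inj : ∀ q < T.length, ∀ q' < T.length, h q (bp i) = h q' (bp i) → q = q'
  surj : ∀ g ∈ fixUpTo M24 i, ∃ q < T.length, h q (bp i) = g (bp i)

/-- The level from its checks. -/
noncomputable def mkLev {T : List (List ℕ)} {R : List (ℕ × ℕ)} {i : ℕ} (hi : i < 7)
    (hT : R.map (fun xk => (evalSLP [doubleTab, conj22Tab, idTab] prog22).getD xk.2 idTab) = T)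
    (hok : okLevel T i = true) (hnd : (orbN.getD i []).Nodup) : Lev T i := by
  classical
  have hex := fun q (hq : q < T.length) => exists_row hT hq
  choose g hg ht using hex
  simp only [okLevel, Bool.and_eq_true, decide_eq_true_eq, List.all_eq_true, List.mem_range,
    beq_iff_eq] at hok
  have key : ∀ q (hq : q < T.length),
      idx (g q hq (bp i)) = (T.map fun l => l.getD (baseN.getD i 0) 0)[q]'(by simpa using hq) := by
    intro q hq
    rw [List.getElem_map, (ht q hq).apply, idx_pt ((ht q hq).lt (idx_lt _)), idx_bp,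
      List.getD_eq_getElem _ _ hq]
  refine ⟨fun q => if hq : q < T.length then g q hq else 1, fun q hq => ?_, fun q hq => ?_,
    fun q hq j hj => ?_, fun q hq q' hq' e => ?_, fun x hx => ?_⟩
  · rw [dif_pos hq]; exact hg q hq
  · rw [dif_pos hq]; exact ht q hq
  · rw [dif_pos hq]
    apply idx_injective
    rw [(ht q hq).apply, idx_pt ((ht q hq).lt (idx_lt _)), idx_bp, List.getD_eq_getElem _ _ hq]
    exact hok.2 _ (List.getElem_mem hq) j hj
  · have e1 := congrArg idx e
    rw [dif_pos hq, dif_pos hq', key q hq, key q' hq'] at e1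
    exact ((hok.1 ▸ hnd).getElem_inj_iff).1 e1
  · have h1 := orbit_subset hi hx
    rw [← hok.1, List.mem_iff_getElem] at h1
    obtain ⟨q, hq, e⟩ := h1
    have hq' : q < T.length := by simpa using hq
    refine ⟨q, hq', idx_injective ?_⟩
    rw [dif_pos hq', key q hq', e]

noncomputable def lev4 : Lev t4Tab 4 :=
  mkLev (by norm_num) tab_ok.1 level_ok.1 level_ok.2.2.2.1

noncomputable def lev5 : Lev t5Tab 5 :=
  mkLev (by norm_num) tab_ok.2.1 level_ok.2.1 level_ok.2.2.2.2.1

noncomputable def lev6 : Lev t6Tab 6 :=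
  mkLev (by norm_num) tab_ok.2.2 level_ok.2.2.1 level_ok.2.2.2.2.2

theorem len_ok : t4Tab.length = 20 ∧ t5Tab.length = 3 ∧ t6Tab.length = 16 := by decide

/-- The elements of an order. -/
noncomputable def El (n : ℕ) : Finset (Equiv.Perm GolayPt) := by
  classical
  exact univ.filter fun g => g ∈ Spor.M22 ∧ orderOf g = n

theorem mem_El {n : ℕ} {g : Equiv.Perm GolayPt} :
    g ∈ El n ↔ g ∈ Spor.M22 ∧ orderOf g = n := by
  simp [El]

theorem fixes {g : Equiv.Perm GolayPt} (hg : g ∈ Spor.M22) {j : ℕ} (hj : j < 2) :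
    g (bp j) = bp j := by
  rw [M22_eq] at hg
  exact (mem_fixUpTo.1 hg).2 j hj

theorem countP_eq (L : List ℕ) (n : ℕ) :
    ((univ : Finset (Fin L.length)).filter fun q => L[q.1] = n).card = L.countP (Nat.beq n) := by
  induction L with
  | nil => simp
  | cons x L ih =>
    rw [List.countP_cons, ← ih, card_filter, card_filter]
    rw [show (∑ i : Fin (x :: L).length, if (x :: L)[i.1] = n then 1 else 0) =
      (∑ i : Fin (L.length + 1), if (x :: L)[i.1] = n then 1 else 0) from rfl,
      Fin.sum_univ_succ, add_comm]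
    congr 1
    by_cases h : x = n
    · simp [h]
    · have : Nat.beq n x = false := by
        rw [Bool.eq_false_iff]
        exact fun e => h (Nat.eq_of_beq_eq_true e).symm
      simp [h, this]

/-- The elements with prescribed images of two base points. -/
theorem card_two {s x y : ℕ} (hs : s < 4) (hpre : okPre s x y = true) (hord : okOrd s = true)
    (n : ℕ) :
    ((El n).filter fun g => g (bp 2) = pt x ∧ g (bp 3) = pt y).card = cnt s n := by
  classical
  simp only [okPre, Bool.and_eq_true, beq_iff_eq] at hpre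
  obtain ⟨⟨⟨⟨⟨hp, hc⟩, h23⟩, h0⟩, hx⟩, hy⟩ := hpre
  set u := permOf _ hp with hu
  have tu := tab_permOf hp
  have u24 : u ∈ Cfsg.M24 := tu.mem_M24 hc
  have uimg : ∀ j, u (bp j) = pt ((preTab.getD s []).getD (baseN.getD j 0) 0) := by
    intro j; rw [tu.apply, idx_bp]
  have hu0 : u (bp 0) = bp 0 := by
    rw [uimg 0]; simp only [baseN, List.getD_cons_zero, h23]; rfl
  have hu1 : u (bp 1) = bp 1 := by
    rw [uimg 1]; simp only [baseN, List.getD_cons_succ, List.getD_cons_zero, h0]; rfl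
  have hu2 : u (bp 2) = pt x := by
    rw [uimg 2]; simp only [baseN, List.getD_cons_succ, List.getD_cons_zero, hx]
  have hu3 : u (bp 3) = pt y := by
    rw [uimg 3]; simp only [baseN, List.getD_cons_succ, List.getD_cons_zero, hy]
  have uM : u ∈ Spor.M22 := by
    rw [M22_eq, mem_fixUpTo]
    refine ⟨u24, fun j hj => ?_⟩
    interval_cases j
    exacts [hu0, hu1]
  have hlen : (ordList s).length = 960 := by
    have := val_ok.2
    rw [List.all_eq_true] at this
    have := this s (List.mem_range.2 hs)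
    simp only [Bool.and_eq_true, beq_iff_eq] at this
    exact this.1
  obtain ⟨l4, l5, l6⟩ := len_ok
  let φ : Fin (ordList s).length → Equiv.Perm GolayPt := fun q =>
    u * (lev4.h (q.1 / 48) * (lev5.h (q.1 / 16 % 3) * lev6.h (q.1 % 16)))
  have hb : ∀ q : Fin (ordList s).length, q.1 / 48 < t4Tab.length ∧ q.1 / 16 % 3 < t5Tab.length ∧
      q.1 % 16 < t6Tab.length := fun q => by
    have := q.2
    omega
  have hφM : ∀ q, φ q ∈ Spor.M22 := fun q => mul_mem uM (mul_mem (lev4.mem _ (hb q).1)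
    (mul_mem (lev5.mem _ (hb q).2.1) (lev6.mem _ (hb q).2.2)))
  have hφ2 : ∀ q, φ q (bp 2) = pt x ∧ φ q (bp 3) = pt y := fun q => by
    simp only [φ, Equiv.Perm.mul_apply]
    rw [lev6.fix _ (hb q).2.2 2 (by norm_num), lev5.fix _ (hb q).2.1 2 (by norm_num),
      lev4.fix _ (hb q).1 2 (by norm_num), hu2,
      lev6.fix _ (hb q).2.2 3 (by norm_num), lev5.fix _ (hb q).2.1 3 (by norm_num),
      lev4.fix _ (hb q).1 3 (by norm_num), hu3]
    exact ⟨rfl, rfl⟩
  have hφord : ∀ q : Fin (ordList s).length, orderOf (φ q) = (ordList s)[q.1] := by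
    intro q
    obtain ⟨b4, b5, b6⟩ := hb q
    simp only [okOrd, List.all_eq_true, List.mem_range, Bool.and_eq_true, Bool.not_eq_true'] at hord
    have hq := q.2
    obtain ⟨e, e0⟩ := hord (q.1 / 16) (by omega) (q.1 % 16) (by omega)
    have e' := Nat.eq_of_beq_eq_true e
    rw [show 16 * (q.1 / 16) + q.1 % 16 = q.1 by omega, List.getD_eq_getElem _ _ q.2] at e' e0
    rw [← e']
    refine orderOf_eq_ordN (fun m hm => ?_) ?_
    · obtain ⟨hpk, h6⟩ := pack_ok
      simp only [okPack, okSix, List.all_eq_true, List.mem_range] at hpk h6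
      have t6 := lev6.tab _ b6
      have r6 := Nat.eq_of_beq_eq_true (h6 (q.1 % 16) (by omega) m hm)
      have hm6 : (t6Tab.getD (q.1 % 16) []).getD m 0 < 24 := t6.lt hm
      have r := Nat.eq_of_beq_eq_true (hpk s hs (q.1 / 48) (by omega) (q.1 / 16 % 3) (by omega) _ hm6)
      rw [fn, r6, show q.1 / 16 = 3 * (q.1 / 48) + q.1 / 16 % 3 by omega, r]
      simp only [φ, Equiv.Perm.mul_apply]
      rw [tu.apply, idx_pt (tu.lt (idx_lt _)), (lev4.tab _ b4).apply,
        idx_pt ((lev4.tab _ b4).lt (idx_lt _)), (lev5.tab _ b5).apply,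
        idx_pt ((lev5.tab _ b5).lt (idx_lt _)), t6 m hm]
    · intro z
      rw [e'] at z
      rw [z] at e0
      simp at e0
  rw [cnt, ← countP_eq]
  symm
  refine card_bij (fun q _ => φ q) (fun q hq => ?_) (fun q _ q' _ e => ?_) (fun g hg => ?_)
  · rw [mem_filter, mem_El]
    exact ⟨⟨hφM q, (hφord q).trans (mem_filter.1 hq).2⟩, hφ2 q⟩
  · obtain ⟨b4, b5, b6⟩ := hb q
    obtain ⟨b4', b5', b6'⟩ := hb q'
    have e1 := mul_left_cancel e
    have i4 : q.1 / 48 = q'.1 / 48 := lev4.inj _ b4 _ b4' (by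
      have := congrArg (fun g : Equiv.Perm GolayPt => g (bp 4)) e1
      simp only [Equiv.Perm.mul_apply] at this
      rwa [lev6.fix _ b6 4 (by norm_num), lev6.fix _ b6' 4 (by norm_num),
        lev5.fix _ b5 4 (by norm_num), lev5.fix _ b5' 4 (by norm_num)] at this)
    rw [i4] at e1
    have e2 := mul_left_cancel e1
    have i5 : q.1 / 16 % 3 = q'.1 / 16 % 3 := lev5.inj _ b5 _ b5' (by
      have := congrArg (fun g : Equiv.Perm GolayPt => g (bp 5)) e2
      simp only [Equiv.Perm.mul_apply] at this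
      rwa [lev6.fix _ b6 5 (by norm_num), lev6.fix _ b6' 5 (by norm_num)] at this)
    rw [i5] at e2
    have i6 : q.1 % 16 = q'.1 % 16 := lev6.inj _ b6 _ b6' (by rw [mul_left_cancel e2])
    apply Fin.ext
    omega
  · simp only [mem_filter, mem_El] at hg
    obtain ⟨⟨gM, gn⟩, g2, g3⟩ := hg
    have step : ∀ {T : List (List ℕ)} {i : ℕ} (L : Lev T i) (k : Equiv.Perm GolayPt),
        k ∈ fixUpTo Cfsg.M24 i → ∃ q < T.length, (L.h q)⁻¹ * k ∈ fixUpTo Cfsg.M24 (i + 1) := by
      intro T i L k hk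
      obtain ⟨q, hq, e⟩ := L.surj k hk
      obtain ⟨k24, kfix⟩ := mem_fixUpTo.1 hk
      have hh := L.mem q hq
      rw [M22_eq] at hh
      refine ⟨q, hq, mem_fixUpTo.2 ⟨mul_mem (inv_mem (mem_fixUpTo.1 hh).1) k24, fun j hj => ?_⟩⟩
      rw [Equiv.Perm.mul_apply, Equiv.Perm.coe_inv, Equiv.symm_apply_eq]
      rcases Nat.lt_succ_iff_lt_or_eq.1 hj with hj | rfl
      · rw [kfix j hj, L.fix q hq j hj]
      · exact e.symm
    have k4 : u⁻¹ * g ∈ fixUpTo Cfsg.M24 4 := by
      have g24 : g ∈ Cfsg.M24 := gM.1.1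
      refine mem_fixUpTo.2 ⟨mul_mem (inv_mem u24) g24, fun j hj => ?_⟩
      rw [Equiv.Perm.mul_apply, Equiv.Perm.coe_inv, Equiv.symm_apply_eq]
      interval_cases j
      · rw [fixes gM (by norm_num), hu0]
      · rw [fixes gM (by norm_num), hu1]
      · rw [g2, hu2]
      · rw [g3, hu3]
    obtain ⟨i, hi, k5⟩ := step lev4 _ k4
    obtain ⟨j, hj, k6⟩ := step lev5 _ k5
    obtain ⟨k, hk, k7⟩ := step lev6 _ k6
    rw [fixUpTo_seven, Subgroup.mem_bot, inv_mul_eq_one] at k7
    have hg' : g = u * (lev4.h i * (lev5.h j * lev6.h k)) := by rw [k7]; group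
    rw [l4] at hi
    rw [l5] at hj
    rw [l6] at hk
    refine ⟨⟨48 * i + 16 * j + k, by omega⟩, ?_, ?_⟩
    all_goals
      have ei : (48 * i + 16 * j + k) / 48 = i := by omega
      have ej : (48 * i + 16 * j + k) / 16 % 3 = j := by omega
      have ek : (48 * i + 16 * j + k) % 16 = k := by omega
      have hφg : φ ⟨48 * i + 16 * j + k, by omega⟩ = g := by simp only [φ, ei, ej, ek]; exact hg'.symm
    · refine mem_filter.2 ⟨mem_univ _, ?_⟩
      rw [← hφord, hφg, gn]
    · exact hφg

end Cfsg.Agent.M22Nse38
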