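import Cfsg.Agent.M22Nse38.Ext

/-!
# The four group is not centralised by `O`
-/

set_option autoImplicit false

namespace Cfsg.Agent.M22Nse38

open Subgroup
open scoped Pointwise

local instance : Fact (Nat.Prime 3) := ⟨Nat.prime_three⟩
local instance : Fact (Nat.Prime 2) := ⟨Nat.prime_two⟩

variable {G : Type*} [Group G] [Finite G] (hd : Dat G)
include hd

/-- No subgroup of order 1152 has index five in a group of order 5760. -/
theorem no_index_five {H L : Subgroup G} (hLH : L ≤ H) (hH : Nat.card H = 5760)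
    (hL : Nat.card L = 1152) : False := by
  classical
  have : Fact (Nat.Prime 5) := ⟨by norm_num⟩
  set L' := L.subgroupOf H
  set φ := MulAction.toPermHom H (H ⧸ L')
  have hidx : L'.index = 5 := by
    have h := L'.index_mul_card
    rw [Nat.card_congr (subgroupOfEquivOfLe hLH).toEquiv, hL, hH] at h
    omega
  have hr : Nat.card φ.range ∣ 120 := by
    refine (card_subgroup_dvd_card φ.range).trans (dvd_of_eq ?_)
    rw [Nat.card_perm, ← index_eq_card, hidx]
    rfl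
  have h2 := φ.ker.index_mul_card
  rw [index_ker, hH] at h2
  have h3 : 3 ∣ Nat.card φ.ker := by
    obtain ⟨k, hk⟩ := hr
    have e : Nat.card φ.range * Nat.card φ.ker = Nat.card φ.range * (k * 48) := by
      rw [h2, ← mul_assoc, ← hk]; norm_num
    rw [Nat.eq_of_mul_eq_mul_left Nat.card_pos e]
    exact dvd_mul_of_dvd_right (by norm_num) k
  have hK5 : ¬ 5 ∣ Nat.card φ.ker := by
    have hle : φ.ker ≤ L' := fun k hk => by
      have h := Equiv.ext_iff.1 (MonoidHom.mem_ker.1 hk) ((1 : H) : H ⧸ L')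
      simpa [φ, MulAction.toPermHom_apply, MulAction.toPerm_apply, QuotientGroup.eq, inv_mem_iff] using h
    have := card_dvd_of_le hle
    rw [Nat.card_congr (subgroupOfEquivOfLe hLH).toEquiv, hL] at this
    intro h5
    have := h5.trans this
    omega
  obtain ⟨T⟩ : Nonempty (Sylow 3 φ.ker) := inferInstance
  set M := normalizer ((((T : Subgroup φ.ker).map φ.ker.subtype : Subgroup H)) : Set H)
  have hsup : M ⊔ φ.ker = ⊤ := Sylow.normalizer_sup_eq_top T
  have h5 : 5 ∣ Nat.card M := by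
    have hprod : Nat.card H ∣ Nat.card M * Nat.card φ.ker := by
      have h1 := φ.ker.relIndex_sup_right (H := M)
      rw [hsup, relIndex_top_right] at h1
      have h4 := φ.ker.index_mul_card
      rw [h1] at h4
      rw [← h4]
      exact Nat.mul_dvd_mul_right (relIndex_dvd_card _ _) _
    rw [hH] at hprod
    exact ((Nat.Prime.dvd_mul (by norm_num)).1 ((show 5 ∣ 5760 by norm_num).trans hprod)).resolve_right hK5
  obtain ⟨w, hw⟩ := exists_prime_orderOf_dvd_card' (G := M) 5 h5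
  have hw5 : orderOf ((w : H) : G) = 5 := by rw [Subgroup.orderOf_coe, Subgroup.orderOf_coe, hw]
  refine no5_norm hd hw5 (((T : Subgroup φ.ker).map φ.ker.subtype).map H.subtype)
    ((T.2.map _).map _) ?_ ?_
  · intro e
    have h1 := T.dvd_card_of_dvd_card h3
    rw [map_eq_bot_iff_of_injective _ H.subtype_injective,
      map_eq_bot_iff_of_injective _ φ.ker.subtype_injective] at e
    rw [e, card_bot] at h1
    norm_num at h1
  · rintro _ ⟨a, ha, rfl⟩
    exact ⟨w.1 * a * w.1⁻¹, (mem_normalizer_iff.1 w.2 a).1 ha, rfl⟩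

/-- A subgroup of order 128 contains only itself in its normaliser. -/
theorem normalizer_dvd_nine {S : Subgroup G} (hS : Nat.card S = 128) :
    Nat.card (normalizer (S : Set G)) ∣ 128 * 9 := by
  have h : Nat.card (normalizer (S : Set G)) ∣ 128 * 9 * (5 * 7 * 11) := by
    have := card_subgroup_dvd_card (normalizer (S : Set G))
    rw [hd.card] at this
    norm_num
    exact this
  refine Nat.Coprime.dvd_of_dvd_mul_right ?_ h
  have key : ∀ p ∈ ([5, 7, 11] : List ℕ), ¬ p ∣ Nat.card (normalizer (S : Set G)) := by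
    intro p hp hpd
    have hpp : p.Prime := by
      simp only [List.mem_cons, List.not_mem_nil, or_false] at hp
      rcases hp with rfl | rfl | rfl <;> norm_num
    have : Fact p.Prime := ⟨hpp⟩
    obtain ⟨w, hw⟩ := exists_prime_orderOf_dvd_card' (G := normalizer (S : Set G)) p hpd
    have hw' : orderOf w.1 = p := by rw [Subgroup.orderOf_coe, hw]
    have hf := fix_mod hw' (S : Set G) (fun a ha => conj_mem_of_normalizer w.2 ha)
    have h1 : Nat.card {a : G // a ∈ (S : Set G) ∧ a ∈ cz w.1} = 1 := by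
      rw [Nat.card_eq_one_iff_unique]
      have one : ∀ a : {a : G // a ∈ (S : Set G) ∧ a ∈ cz w.1}, a.1 = 1 := fun a => by
        have h5 := orderOf_dvd_natCard (⟨a.1, a.2.2⟩ : cz w.1)
        rw [hd.cprime w.1 (by rw [hw']; exact hp), hw', ← Subgroup.orderOf_coe] at h5
        have h2 := orderOf_dvd_natCard (⟨a.1, a.2.1⟩ : S)
        rw [hS, ← Subgroup.orderOf_coe] at h2
        refine orderOf_eq_one_iff.1 (Nat.eq_one_of_dvd_coprimes ?_ h5 h2)
        simp only [List.mem_cons, List.not_mem_nil, or_false] at hp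
        rcases hp with rfl | rfl | rfl <;> norm_num
      exact ⟨⟨fun a b => Subtype.ext ((one a).trans (one b).symm)⟩, ⟨⟨1, S.one_mem, one_mem _⟩⟩⟩
    rw [h1, show Nat.card (S : Set G) = 128 from hS, Nat.ModEq] at hf
    simp only [List.mem_cons, List.not_mem_nil, or_false] at hp
    rcases hp with rfl | rfl | rfl <;> simp at hf
  refine Nat.Coprime.mul_right (Nat.Coprime.mul_right ?_ ?_) ?_
  all_goals exact ((Nat.Prime.coprime_iff_not_dvd (by norm_num)).2 (key _ (by simp))).symm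

namespace Cfg

variable (c : Cfg G)

/-- A commuting elementary `O` is impossible. -/
theorem not_elementary (hsq : ∀ a ∈ c.O, a ^ 2 = 1) (hcomm : ∀ a ∈ c.O, ∀ b ∈ c.O, Commute a b) : False := by
  classical
  set C := cz c.t with hC
  set O' := c.O.subgroupOf C
  have hnor : O'.Normal := ⟨fun k hk h => c.O_normal h.2 hk⟩
  set sc : C := ⟨c.s, c.s_cz⟩
  set S' := (zpowers (QuotientGroup.mk' O' sc)).comap (QuotientGroup.mk' O')
  set S := S'.map C.subtype
  have hs2 : c.s * c.s = 1 := by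
    rw [← pow_two]; exact orderOf_dvd_iff_pow_eq_one.1 (dvd_of_eq c.hs)
  have hbar : orderOf (QuotientGroup.mk' O' sc) = 2 := by
    refine orderOf_eq_prime ?_ fun e => ?_
    · rw [← map_pow, show sc ^ 2 = 1 from Subtype.ext (orderOf_dvd_iff_pow_eq_one.1 (dvd_of_eq c.hs)),
        map_one]
    · exact (c.O_facts hd).2.1 (mem_subgroupOf.1 ((QuotientGroup.eq_one_iff sc).1 e))
  have hS : Nat.card S = 128 := by
    rw [card_map_of_injective C.subtype_injective]
    have h1 := S'.index_mul_card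
    rw [index_comap_of_surjective _ (QuotientGroup.mk'_surjective O'), cz_two hd (c.t_ord hd)] at h1
    have h2 := (zpowers (QuotientGroup.mk' O' sc)).index_mul_card
    have h3 := O'.index_mul_card
    rw [Nat.card_congr (subgroupOfEquivOfLe c.O_le).toEquiv, (c.O_facts hd).1,
      cz_two hd (c.t_ord hd), index_eq_card] at h3
    rw [Nat.card_zpowers, hbar] at h2
    have : Nat.card (C ⧸ O') = 6 := by omega
    rw [this] at h2
    rw [show (zpowers (QuotientGroup.mk' O' sc)).index = 3 by omega] at h1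
    omega
  have hmemS : ∀ w ∈ S, ∃ a ∈ c.O, w = a ∨ w = a * c.s := by
    rintro _ ⟨w, hw, rfl⟩
    obtain ⟨i, hi⟩ := mem_zpowers_iff.1 (mem_comap.1 hw)
    rcases Int.even_or_odd i with ⟨j, rfl⟩ | ⟨j, rfl⟩
    · refine ⟨w.1, ?_, Or.inl rfl⟩
      rw [← two_mul, zpow_mul, show (QuotientGroup.mk' O' sc) ^ (2 : ℤ) = 1 from
        (zpow_natCast _ 2).trans (orderOf_dvd_iff_pow_eq_one.1 (dvd_of_eq hbar)), one_zpow] at hi
      exact mem_subgroupOf.1 ((QuotientGroup.eq_one_iff w).1 hi.symm)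
    · refine ⟨w.1 * c.s⁻¹, ?_, Or.inr (inv_mul_cancel_right w.1 c.s).symm⟩
      rw [zpow_add_one, zpow_mul, show (QuotientGroup.mk' O' sc) ^ (2 : ℤ) = 1 from
        (zpow_natCast _ 2).trans (orderOf_dvd_iff_pow_eq_one.1 (dvd_of_eq hbar)), one_zpow, one_mul] at hi
      have : QuotientGroup.mk' O' (w * sc⁻¹) = 1 := by rw [map_mul, map_inv, ← hi, mul_inv_cancel]
      exact mem_subgroupOf.1 ((QuotientGroup.eq_one_iff _).1 this)
  have hOS : c.O ≤ S := fun a ha => ⟨⟨a, c.O_le ha⟩, by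
    refine mem_comap.2 ?_
    rw [show QuotientGroup.mk' O' (⟨a, c.O_le ha⟩ : C) = 1 from
      (QuotientGroup.eq_one_iff _).2 (mem_subgroupOf.2 ha)]
    exact one_mem _, rfl⟩
  -- the fixed points of s in O
  set F : Subgroup G := c.O ⊓ cz c.s
  have hF8 : 8 ≤ Nat.card F := by
    let φ : c.O →* c.O :=
      { toFun := fun a => ⟨a.1 * (c.s * a.1 * c.s⁻¹), mul_mem a.2 (c.O_normal c.s_cz a.2)⟩
        map_one' := Subtype.ext (by simp)
        map_mul' := fun a b => Subtype.ext (by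
          show a.1 * b.1 * (c.s * (a.1 * b.1) * c.s⁻¹) =
            a.1 * (c.s * a.1 * c.s⁻¹) * (b.1 * (c.s * b.1 * c.s⁻¹))
          rw [show c.s * (a.1 * b.1) * c.s⁻¹ = (c.s * a.1 * c.s⁻¹) * (c.s * b.1 * c.s⁻¹) by group,
            mul_assoc a.1 b.1, ← mul_assoc b.1 (c.s * a.1 * c.s⁻¹),
            (hcomm _ b.2 _ (c.O_normal c.s_cz a.2)).eq]
          simp only [mul_assoc]) }
    have hinv : ∀ a ∈ c.O, a⁻¹ = a := fun a ha => by
      rw [inv_eq_iff_mul_eq_one, ← pow_two]; exact hsq a ha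
    have hk : φ.ker.map c.O.subtype = F := by
      ext a
      constructor
      · rintro ⟨b, hb, rfl⟩
        refine mem_inf.2 ⟨b.2, mem_cz.2 ?_⟩
        have e : c.s * b.1 * c.s⁻¹ = b.1 := (eq_inv_of_mul_eq_one_right
          (congrArg Subtype.val hb :)).trans (hinv _ b.2)
        exact (mul_inv_eq_iff_eq_mul.1 e).symm
      · intro ha
        obtain ⟨haO, has⟩ := mem_inf.1 ha
        refine ⟨⟨a, haO⟩, Subtype.ext ?_, rfl⟩
        show a * (c.s * a * c.s⁻¹) = 1
        rw [mul_inv_eq_iff_eq_mul.2 (mem_cz.1 has).symm, ← pow_two]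
        exact hsq a haO
    have hr : φ.range.map c.O.subtype ≤ F := by
      rintro _ ⟨_, ⟨a, rfl⟩, rfl⟩
      refine mem_inf.2 ⟨(φ a).2, mem_cz'.2 ?_⟩
      show a.1 * (c.s * a.1 * c.s⁻¹) * c.s * (a.1 * (c.s * a.1 * c.s⁻¹))⁻¹ = c.s
      have e : c.s * (a.1 * (c.s * a.1 * c.s⁻¹)) * c.s⁻¹ = a.1 * (c.s * a.1 * c.s⁻¹) := by
        rw [show c.s * (a.1 * (c.s * a.1 * c.s⁻¹)) * c.s⁻¹ =
          (c.s * a.1 * c.s⁻¹) * ((c.s * c.s) * a.1 * (c.s * c.s)⁻¹) by group, hs2, one_mul, inv_one,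
          mul_one]
        exact (hcomm _ (c.O_normal c.s_cz a.2) _ a.2).eq
      rw [mul_inv_eq_iff_eq_mul] at e ⊢
      exact e.symm
    have h64 := φ.ker.index_mul_card
    rw [index_ker, (c.O_facts hd).1,
      show Nat.card φ.range = Nat.card (φ.range.map c.O.subtype) from
        (card_map_of_injective c.O.subtype_injective).symm,
      show Nat.card φ.ker = Nat.card F from
        (card_map_of_injective c.O.subtype_injective).symm.trans (by rw [hk])] at h64
    have hle := card_le_of_le hr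
    by_contra hlt
    have h7 : Nat.card F ≤ 7 := by omega
    have := Nat.mul_le_mul (hle.trans h7) h7
    omega
  have hFS : ∀ a ∈ F, ∀ w ∈ S, Commute a w := by
    intro a ha w hw
    obtain ⟨b, hb, rfl | rfl⟩ := hmemS w hw
    · exact hcomm a (mem_inf.1 ha).1 _ hb
    · exact (hcomm a (mem_inf.1 ha).1 _ hb).mul_right (mem_cz.1 (mem_inf.1 ha).2)
  -- the central elements of order at most two
  let W : Subgroup G :=
    { carrier := {a | a ∈ S ∧ a ^ 2 = 1 ∧ ∀ w ∈ S, Commute a w}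
      one_mem' := ⟨one_mem _, one_pow _, fun w _ => Commute.one_left w⟩
      mul_mem' := fun {a b} ha hb => ⟨mul_mem ha.1 hb.1, by
        rw [(ha.2.2 b hb.1).mul_pow, ha.2.1, hb.2.1, one_mul],
        fun w hw => (ha.2.2 w hw).mul_left (hb.2.2 w hw)⟩
      inv_mem' := fun {a} ha => ⟨inv_mem ha.1, by rw [inv_pow, ha.2.1, inv_one],
        fun w hw => (ha.2.2 w hw).inv_left⟩ }
  have hFW : F ≤ W := fun a ha => ⟨hOS (mem_inf.1 ha).1, hsq a (mem_inf.1 ha).1, hFS a ha⟩
  have h8 : 8 ≤ Nat.card W := hF8.trans (card_le_of_le hFW)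
  have hWp : IsPGroup 2 W := fun a => ⟨1, Subtype.ext a.2.2.1⟩
  obtain ⟨j, hj⟩ := hWp.exists_card_eq
  set N := normalizer (S : Set G) with hN
  let Ssyl : Sylow 2 G := Sylow.ofCard S (by
    rw [hS, hd.card, show (443520 : ℕ) = 2 ^ 7 * 3465 from by norm_num,
      Nat.factorization_mul (by norm_num) (by norm_num), Finsupp.add_apply,
      Nat.Prime.factorization_pow Nat.prime_two, Finsupp.single_eq_same,
      Nat.factorization_eq_zero_of_not_dvd (by norm_num)]
    norm_num)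
  have htF : c.t ∈ F := mem_inf.2 ⟨(c.O_facts hd).2.2 c.ht, mem_cz.2
    (mul_inv_eq_iff_eq_mul.1 c.st).symm⟩
  have h1 : ∀ k ∈ N, k * c.t * k⁻¹ ∈ {a : G | a ∈ W ∧ a ≠ 1} := by
    intro k hk
    obtain ⟨ht1, ht2, ht3⟩ := hFW htF
    refine ⟨⟨conj_mem_of_normalizer hk ht1, by rw [conj_pow, ht2]; group, fun w hw => ?_⟩, fun e =>
      c.ht1 (by rwa [mul_inv_eq_one, mul_eq_left] at e)⟩
    have hw' : k⁻¹ * w * k⁻¹⁻¹ ∈ S := conj_mem_of_normalizer (inv_mem hk) hw
    have := (ht3 _ hw').map (MulAut.conj k).toMonoidHom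
    simpa [mul_assoc] using this
  have h2 : ∀ a ∈ {a : G | a ∈ W ∧ a ≠ 1}, ∃ k ∈ N, k * c.t * k⁻¹ = a := by
    rintro a ⟨⟨-, ha2, ha3⟩, ha1⟩
    obtain ⟨g, hg⟩ := conj_two hd (c.t_ord hd) (orderOf_eq_prime ha2 ha1)
    obtain ⟨n, hn, e⟩ := Ssyl.conj_eq_normalizer_conj_of_mem_centralizer c.t g⁻¹
      (mem_centralizer_iff.2 fun w hw => ((hFW htF).2.2 w hw).eq.symm)
      (mem_centralizer_iff.2 fun w hw => by
        rw [inv_inv, hg]
        exact (ha3 w hw).eq.symm)
    refine ⟨n⁻¹, inv_mem hn, ?_⟩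
    rw [inv_inv] at e
    rw [inv_inv, ← e, hg]
  have hcount := card_orbit_conj N c.t _ h1 h2
  have h128 : 128 ∣ Nat.card ↥(N ⊓ cz c.t) := hS ▸ card_dvd_of_le (le_inf le_normalizer (map_subtype_le _))
  have hWcard : Nat.card {a : G | a ∈ W ∧ a ≠ 1} + 1 = Nat.card W := by
    have e : {a : G | a ∈ W ∧ a ≠ 1} = (W : Set G) \ {1} := rfl
    rw [e, Nat.card_coe_set_eq, Set.ncard_sdiff_singleton_add_one W.one_mem, ← Nat.card_coe_set_eq]
    rfl
  obtain ⟨m, hm⟩ := h128
  have hd9 : Nat.card {a : G | a ∈ W ∧ a ≠ 1} ∣ 9 := by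
    have h := normalizer_dvd_nine hd hS
    rw [← hN, ← hcount, hm, show ∀ a : ℕ, a * (128 * m) = 128 * (a * m) from fun a => by ring] at h
    exact dvd_trans (dvd_mul_right _ m) (Nat.dvd_of_mul_dvd_mul_left (by norm_num) h)
  have hj7 : Nat.card W ≤ 10 := by
    have := Nat.le_of_dvd (by norm_num) hd9
    omega
  have hdj : Nat.card {a : G | a ∈ W ∧ a ≠ 1} = 2 ^ j - 1 := by omega
  rw [hj] at h8 hj7
  have : j < 4 := by
    by_contra hge
    have := Nat.pow_le_pow_right two_pos (show 4 ≤ j by omega)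
    omega
  rw [hdj] at hd9
  interval_cases j
  all_goals first | (norm_num at h8; done) | (norm_num at hd9; done)

section Big

variable (hA : c.A = c.O)
include hA

/-- Some second four group is not central in `O`. -/
theorem exists_noncentral : ∃ r ∈ (c.P : Subgroup G), r ∉ zpowers c.x ∧ fourOf r ≤ c.A ∧
    ∃ w ∈ fourOf r, ∃ a ∈ c.O, ¬ Commute w a := by
  classical
  have := Fintype.ofFinite G
  by_contra hcon
  push Not at hcon
  obtain ⟨r, hrP, hr, hrA⟩ := c.exists_second hd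
  obtain ⟨hE, hEsq, hEc⟩ := c.E_facts hd hrP hr hrA
  have hEO : E c r ≤ c.O := (c.E_le_A hd hrP hr hrA).trans inf_le_left
  have hVc : ∀ v ∈ fourOf c.x, ∀ a ∈ c.O, Commute v a := fun v hv a ha =>
    (c.comm_four hd (c.O_le ha) (hA.ge ha).2 hv).symm
  have hEc' : ∀ e ∈ E c r, ∀ a ∈ c.O, Commute e a := by
    intro e he a ha
    obtain ⟨v, hv, w, hw, rfl⟩ := hE e he
    exact (hVc v hv a ha).mul_left (hcon r hrP hr hrA w hw a ha)
  have hOn : ∀ k ∈ (c.P : Subgroup G), ∀ a ∈ c.O, k * a * k⁻¹ ∈ c.O := fun k hk a ha =>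
    hA.le (c.P_norm_A hd hk (hA.ge ha))
  have h9 : ¬ 9 ∣ Nat.card {w : G | w ∈ c.O ∧ w ∉ (E c r : Set G)} := by
    have e : {w : G | w ∈ c.O ∧ w ∉ (E c r : Set G)} = (c.O : Set G) \ (E c r : Set G) := rfl
    rw [e, Nat.card_coe_set_eq, Set.ncard_sdiff hEO, ← Nat.card_coe_set_eq,
      ← Nat.card_coe_set_eq, SetLike.coe_sort_coe, SetLike.coe_sort_coe, hEc, (c.O_facts hd).1]
    norm_num
  obtain ⟨r', hr', hr1', w, hwO, hwE, hw, hw1⟩ := exists_fix hd c.P (c.O_pgroup hd) hOn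
    (E c r : Set G) (one_mem _)
    (fun k hk a ha => conj_mem_of_normalizer (c.P_norm_E hd hrP hr hrA hk) ha) h9
  have hrn := c.r_ne hrP hr
  have hnx : r' ∉ zpowers c.x := fun h => hwE
    (le_sup_left (b := fourOf r) (fourOf_eq_of_zpowers hd c.hxP c.x_ne h hr1' ▸ hw))
  have hnr : r' ∉ zpowers r := fun h => hwE
    (le_sup_right (a := fourOf c.x) (fourOf_eq_of_zpowers hd hrP hrn h hr1' ▸ hw))
  have hr'A : fourOf r' ≤ c.A := fix_in hd hr' hr1'
    (fun k hk a ha => c.P_norm_A hd hk ha) hw hw1 (hA.ge hwO)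
  have hZ : ∀ a ∈ fourOf r', ∀ b ∈ c.O, Commute a b := hcon r' hr' hnx hr'A
  have hr'O : fourOf r' ≤ c.O := hr'A.trans inf_le_left
  have hdis : ∀ e ∈ E c r, e ∈ fourOf r' → e = 1 := by
    intro e he he'
    obtain ⟨v, hv, a, ha, rfl⟩ := hE e he
    have h3 := c.r_ord hd hr' hnx
    have hc := ((mem_fourOf hd h3).1 he').2
    have hfix : (r' * v * r'⁻¹) * (r' * a * r'⁻¹) = v * a := by
      rw [show (r' * v * r'⁻¹) * (r' * a * r'⁻¹) = r' * (v * a) * r'⁻¹ by group,
        mul_inv_eq_iff_eq_mul]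
      exact hc
    obtain ⟨e1, e2⟩ := c.decomp_unique hd hrP hr hrA
      (fourOf_inv hd c.hx (Or.inl (mem_cz'.1 (sylow_le_cz hd c.P c.hxP hr'))) hv) hv
      (fourOf_inv hd (c.r_ord hd hrP hr) (Or.inl (mem_cz'.1 (sylow_le_cz hd c.P hrP hr'))) ha) ha hfix
    rw [no_fix hd c.hxP c.x_ne hr' hnx hv (mul_inv_eq_iff_eq_mul.1 e1),
      no_fix hd hrP hrn hr' hnr ha (mul_inv_eq_iff_eq_mul.1 e2), one_mul]
  let f : E c r × fourOf r' → c.O := fun p => ⟨p.1.1 * p.2.1, mul_mem (hEO p.1.2) (hr'O p.2.2)⟩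
  have hf : Function.Injective f := by
    rintro ⟨a, b⟩ ⟨a', b'⟩ e
    have e' : (a : G) * b = a' * b' := congrArg Subtype.val e
    have h1 : (a' : G)⁻¹ * a = b' * (b : G)⁻¹ := by rw [eq_mul_inv_iff_mul_eq, mul_assoc, e']; group
    have h2 := hdis _ (mul_mem (inv_mem a'.2) a.2) (h1 ▸ mul_mem b'.2 (inv_mem b.2))
    rw [inv_mul_eq_one] at h2
    have : a' = a := Subtype.ext h2
    subst this
    exact Prod.ext rfl (Subtype.ext (mul_left_cancel e'))
  have hsurj := ((Nat.bijective_iff_injective_and_card f).2 ⟨hf, by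
    rw [Nat.card_prod, hEc, card_fourOf hd (c.r_ord hd hr' hnx), (c.O_facts hd).1]⟩).2
  refine c.not_elementary hd (fun a ha => ?_) (fun a ha b hb => ?_)
  · obtain ⟨⟨e, v⟩, hev⟩ := hsurj ⟨a, ha⟩
    have e' : (e : G) * v = a := congrArg Subtype.val hev
    rw [← e', (hEc' e e.2 v (hr'O v.2)).mul_pow, hEsq e e.2,
      ((mem_fourOf hd (c.r_ord hd hr' hnx)).1 v.2).1, one_mul]
  · obtain ⟨⟨e, v⟩, hev⟩ := hsurj ⟨a, ha⟩
    have e' : (e : G) * v = a := congrArg Subtype.val hev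
    rw [← e']
    exact (hEc' e e.2 b hb).mul_left (hZ v v.2 b hb)

theorem A_ne_O : False := by
  classical
  obtain ⟨r, hrP, hr, hrA, w₀, hw₀, a₀, ha₀, hnc⟩ := c.exists_noncentral hd hA
  have hr3 := c.r_ord hd hrP hr
  obtain ⟨hE, hEsq, hEc⟩ := c.E_facts hd hrP hr hrA
  obtain ⟨g, hg⟩ := conj_three hd c.hx hr3
  have hVc : ∀ v ∈ fourOf c.x, ∀ a ∈ c.O, Commute v a := fun v hv a ha =>
    (c.comm_four hd (c.O_le ha) (hA.ge ha).2 hv).symm
  set O1 := c.O.map (MulAut.conj g).toMonoidHom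
  have hO1c : Nat.card O1 = 64 := by
    rw [card_map_of_injective (MulAut.conj g).injective, (c.O_facts hd).1]
  have hfour : ∀ v, v ∈ fourOf r → g⁻¹ * v * g⁻¹⁻¹ ∈ fourOf c.x := fun v hv => by
    have := fourOf_conj hd hr3 (g := g⁻¹) hv
    rwa [← hg, show g⁻¹ * (g * c.x * g⁻¹) * g⁻¹⁻¹ = c.x by group] at this
  have hO1cent : ∀ a ∈ O1, ∀ v ∈ fourOf r, Commute a v := by
    rintro _ ⟨a, ha, rfl⟩ v hv
    have := ((hVc _ (hfour v hv) a ha).symm).map (MulAut.conj g).toMonoidHom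
    simpa [mul_assoc] using this
  have hEO1 : E c r ≤ O1 := by
    intro e he
    refine ⟨g⁻¹ * e * g⁻¹⁻¹, hA.le ?_, by simp [mul_assoc]⟩
    obtain ⟨v, hv, w, hw, rfl⟩ := hE e he
    have hcen : ∀ z ∈ fourOf c.x, Commute (g⁻¹ * (v * w) * g⁻¹⁻¹) z := by
      intro z hz
      have hz' : g * z * g⁻¹ ∈ fourOf r := hg ▸ fourOf_conj hd c.hx hz
      have := (((c.comm_V1 hd hrP hr hrA hv hz')).mul_left
        (fourOf_comm hd hr3 hw hz' : Commute w _)).map (MulAut.conj g⁻¹).toMonoidHom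
      simpa [mul_assoc] using this
    refine c.mem_A_of_torsion hd (mem_cz.2 (hcen _ c.ht).eq) (mem_cz.2 (hcen _ c.hu).eq) ?_
    rw [conj_pow, show (64 : ℕ) = 2 * 32 from rfl, pow_mul,
      hEsq _ (mul_mem (le_sup_left (b := fourOf r) hv) (le_sup_right (a := fourOf c.x) hw)), one_pow]
    group
  -- O1 normalises E
  have hO1E : O1 ≤ normalizer (E c r : Set G) := by
    have hne : E c r ≠ O1 := fun e => by rw [← e, hEc] at hO1c; omega
    have hlt := lt_normalizer (IsPGroup.of_card (n := 6) hO1c) hEO1 hne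
    set B := O1 ⊓ normalizer (E c r : Set G) with hB
    have hO1r : ∀ a ∈ O1, r * a * r⁻¹ ∈ O1 := by
      rintro _ ⟨a, ha, rfl⟩
      refine ⟨c.x * a * c.x⁻¹, c.O_normal (c.x_cz hd) ha, ?_⟩
      rw [← hg]
      simp [mul_assoc]
    have hn := c.P_norm_E hd hrP hr hrA hrP
    have hBn : ∀ a ∈ B, r * a * r⁻¹ ∈ B := fun a ha => mem_inf.2
      ⟨hO1r a (mem_inf.1 ha).1, mul_mem (mul_mem hn (mem_inf.1 ha).2) (inv_mem hn)⟩
    have h := card_cases hd hr3 hO1c (Q := B) inf_le_left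
      ((le_sup_right (a := fourOf c.x) : fourOf r ≤ E c r).trans hlt.le) hBn
    have h16 : 16 < Nat.card B := by
      rw [← hEc]
      exact lt_of_le_of_ne (card_le_of_le hlt.le) fun e => hlt.ne (eq_of_le_of_card_ge hlt.le e.ge)
    have := eq_of_le_of_card_ge (inf_le_left : B ≤ O1) (show Nat.card O1 ≤ Nat.card B by rw [hO1c]; omega)
    exact this ▸ inf_le_right
  -- the normaliser of V inside N(E)
  set H := normalizer (E c r : Set G)
  set NV := H ⊓ normalizer (fourOf c.x : Set G) with hNV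
  have hVnorm : cz c.t ≤ normalizer (fourOf c.x : Set G) := by
    refine c.gen_C hd (fun a ha => mem_normalizer_of fun v hv => ?_)
      (mem_normalizer_of fun v hv => fourOf_inv hd c.hx (Or.inl (by group)) hv)
      (mem_normalizer_of fun v hv => fourOf_inv hd c.hx (Or.inr (c.sP _ c.hxP)) hv)
    rw [mul_inv_eq_iff_eq_mul.2 (hVc v hv a ha).symm]
    exact hv
  have hCN : cz c.t ≤ NV := le_inf (c.C_norm_E hd hrP hr hrA) hVnorm
  have hyN : c.y ∈ NV := mem_inf.2 ⟨c.P_norm_E hd hrP hr hrA c.hyP, mem_normalizer_of fun v hv =>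
    fourOf_inv hd c.hx (Or.inl (mem_cz'.1 (sylow_le_cz hd c.P c.hxP c.hyP))) hv⟩
  have horb : ∀ k ∈ NV, k * c.t * k⁻¹ ∈ {v : G | v ∈ fourOf c.x ∧ v ≠ 1} := fun k hk =>
    ⟨conj_mem_of_normalizer (mem_inf.1 hk).2 c.ht, fun e => c.ht1 (by rwa [mul_inv_eq_one, mul_eq_left] at e)⟩
  have hsur : ∀ v ∈ {v : G | v ∈ fourOf c.x ∧ v ≠ 1}, ∃ k ∈ NV, k * c.t * k⁻¹ = v := by
    rintro v ⟨hv, hv1⟩
    rcases four_cases hd c.hx c.ht c.hu c.ht1 c.hu1 c.hut hv with rfl | rfl | rfl | rfl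
    · exact absurd rfl hv1
    · exact ⟨1, one_mem _, by group⟩
    · exact ⟨c.y, hyN, c.yt⟩
    · exact ⟨c.y * c.y, mul_mem hyN hyN, by
        rw [show c.y * c.y * c.t * (c.y * c.y)⁻¹ = c.y * (c.y * c.t * c.y⁻¹) * c.y⁻¹ by group, c.yt, c.yu]⟩
  have hNVc : Nat.card NV = 1152 := by
    rw [← card_orbit_conj NV c.t _ horb hsur]
    rw [show Nat.card {v : G | v ∈ fourOf c.x ∧ v ≠ 1} = 3 from card_fourOf_sdiff hd c.hx,
      inf_eq_right.2 hCN, cz_two hd (c.t_ord hd)]
  have hnot : ¬ O1 ≤ NV := by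
    intro hle
    have hON : c.O ≤ NV := c.O_le.trans hCN
    have hnor : (c.O.subgroupOf NV).Normal := ⟨fun a ha k => mem_subgroupOf.2 (hA.le (by
      have hk := mem_inf.1 k.2
      have hcen : ∀ z ∈ fourOf c.x, Commute ((k : G) * (a : G) * (k : G)⁻¹) z := fun z hz => by
        have := ((hVc _ (conj_mem_of_normalizer (inv_mem hk.2) hz) (a : G) (mem_subgroupOf.1 ha)).symm).map
          (MulAut.conj (k : G)).toMonoidHom
        simpa [mul_assoc] using this
      refine c.mem_A_of_torsion hd (mem_cz.2 (hcen _ c.ht).eq) (mem_cz.2 (hcen _ c.hu).eq) ?_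
      show ((k : G) * (a : G) * (k : G)⁻¹) ^ 64 = 1
      rw [conj_pow, c.pow64_of_O hd (mem_subgroupOf.1 ha)]
      group))⟩
    have hidx : (c.O.subgroupOf NV).index = 18 := by
      have h := (c.O.subgroupOf NV).index_mul_card
      rw [Nat.card_congr (subgroupOfEquivOfLe hON).toEquiv, (c.O_facts hd).1, hNVc] at h
      omega
    have hdv := relIndex_dvd_index_of_normal (c.O.subgroupOf NV) (O1.subgroupOf NV)
    rw [hidx, relIndex_subgroupOf hle, ← inf_relIndex_right] at hdv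
    have hmul : (c.O ⊓ O1).relIndex O1 * Nat.card ↥(c.O ⊓ O1) = Nat.card O1 := by
      have h := ((c.O ⊓ O1).subgroupOf O1).index_mul_card
      rwa [Nat.card_congr (subgroupOfEquivOfLe (inf_le_right : c.O ⊓ O1 ≤ O1)).toEquiv] at h
    set W := c.O ⊓ centralizer (fourOf r : Set G)
    have hWle : c.O ⊓ O1 ≤ W := le_inf inf_le_left
      (fun a ha => mem_centralizer_iff.2 fun v hv => ((hO1cent a (mem_inf.1 ha).2 v hv).eq).symm)
    have hWn : ∀ a ∈ W, c.x * a * c.x⁻¹ ∈ W := fun a ha => mem_inf.2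
      ⟨c.O_normal (c.x_cz hd) (mem_inf.1 ha).1, mem_centralizer_iff.2 fun v hv => by
        have hv' : c.x⁻¹ * v * c.x⁻¹⁻¹ ∈ fourOf r :=
          fourOf_inv hd hr3 (Or.inl (mem_cz'.1 (inv_mem (sylow_le_cz hd c.P hrP c.hxP)))) hv
        have := ((show Commute _ _ from mem_centralizer_iff.1 (mem_inf.1 ha).2 _ hv')).map
          (MulAut.conj c.x).toMonoidHom
        simpa [mul_assoc, Commute, SemiconjBy] using this⟩
    have hW := card_cases hd c.hx (c.O_facts hd).1 (Q := W) inf_le_left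
      (le_inf (c.O_facts hd).2.2 fun v hv => mem_centralizer_iff.2 fun z hz =>
        (c.comm_V1 hd hrP hr hrA hv hz).eq.symm) hWn
    have hW64 : Nat.card W ≠ 64 := fun e => by
      have := eq_of_le_of_card_ge (inf_le_left : W ≤ c.O) (show Nat.card c.O ≤ Nat.card W by rw [(c.O_facts hd).1, e])
      exact hnc (mem_centralizer_iff.1 (mem_inf.1 (this.ge ha₀)).2 w₀ hw₀)
    have := card_le_of_le hWle
    obtain ⟨i, hi, e⟩ := (Nat.dvd_prime_pow Nat.prime_two).1
      (show (c.O ⊓ O1).relIndex O1 ∣ 2 ^ 6 by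
        rw [show (2 : ℕ) ^ 6 = 64 by norm_num, ← hO1c]; exact relIndex_dvd_card _ _)
    rw [e] at hdv hmul
    have : i ≤ 1 := by
      by_contra hgt
      have h4 : 4 ∣ 18 := (pow_dvd_pow 2 (show 2 ≤ i by omega)).trans hdv
      omega
    rw [hO1c] at hmul
    interval_cases i <;> omega
  -- the orbit of t
  set Ω : Set G := {a | ∃ k ∈ H, k * c.t * k⁻¹ = a}
  have hCH : cz c.t ≤ H := c.C_norm_E hd hrP hr hrA
  have hH := card_orbit_conj H c.t Ω (fun k hk => ⟨k, hk, rfl⟩) (fun a ha => ha)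
  rw [inf_eq_right.2 hCH, cz_two hd (c.t_ord hd)] at hH
  have hΩ : Nat.card Ω ≤ 15 := by
    have hsub : Ω ⊆ (E c r : Set G) \ {1} := by
      rintro _ ⟨k, hk, rfl⟩
      exact ⟨conj_mem_of_normalizer hk (le_sup_left (b := fourOf r) c.ht),
        fun e => c.ht1 (by rwa [Set.mem_singleton_iff, mul_inv_eq_one, mul_eq_left] at e)⟩
    rw [Nat.card_coe_set_eq]
    refine (Set.ncard_le_ncard hsub (Set.toFinite _)).trans ?_
    rw [Set.ncard_sdiff_singleton_of_mem (one_mem (E c r)), ← Nat.card_coe_set_eq, SetLike.coe_sort_coe, hEc]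
  have hNH : NV ≤ H := inf_le_left
  have hd1 := card_dvd_of_le hNH
  have hd2 := card_subgroup_dvd_card H
  rw [hNVc, ← hH, show (1152 : ℕ) = 3 * 384 from rfl] at hd1
  rw [hd.card, ← hH, show (443520 : ℕ) = 1155 * 384 from rfl] at hd2
  have h3 := Nat.dvd_of_mul_dvd_mul_right (by norm_num) hd1
  have h1155 := Nat.dvd_of_mul_dvd_mul_right (by norm_num) hd2
  have hΩ0 : 0 < Nat.card Ω := Nat.card_pos_iff.2 ⟨⟨⟨c.t, 1, one_mem _, by group⟩⟩, inferInstance⟩
  have hcases : Nat.card Ω = 3 ∨ Nat.card Ω = 15 := by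
    interval_cases e : Nat.card Ω <;> omega
  rcases hcases with e | e
  · rw [e] at hH
    exact hnot ((eq_of_le_of_card_ge hNH (by omega)).symm ▸ hO1E)
  · rw [e] at hH
    exact no_index_five hd hNH (by omega) hNVc

end Big

theorem A_card16 : Nat.card c.A = 16 := by
  rcases c.A_card hd with h | h
  · exact h
  · exact (c.A_ne_O hd (eq_of_le_of_card_ge inf_le_left (by rw [(c.O_facts hd).1]; exact h.ge))).elim

end Cfg

end Cfsg.Agent.M22Nse38
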