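import Cfsg.Agent.M22Nse38.Cfg

/-!
# An elementary abelian group of order sixteen in `C(t)` and its normaliser
-/

set_option autoImplicit false

namespace Cfsg.Agent.M22Nse38

open Subgroup
open scoped Pointwise

local instance : Fact (Nat.Prime 3) := ⟨Nat.prime_three⟩
local instance : Fact (Nat.Prime 2) := ⟨Nat.prime_two⟩

variable {G : Type*} [Group G] [Finite G]

/-- The count of a transitive set under conjugation. -/
theorem card_orbit_conj (K : Subgroup G) (t : G) (S : Set G) (h1 : ∀ k ∈ K, k * t * k⁻¹ ∈ S)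
    (h2 : ∀ a ∈ S, ∃ k ∈ K, k * t * k⁻¹ = a) :
    Nat.card S * Nat.card ↥(K ⊓ cz t) = Nat.card K := by
  classical
  have := Fintype.ofFinite S
  let f : K → S := fun k => ⟨k.1 * t * k.1⁻¹, h1 _ k.2⟩
  have hfib : ∀ a : S, Nat.card {k : K // f k = a} = Nat.card ↥(K ⊓ cz t) := by
    rintro ⟨a, ha⟩
    obtain ⟨k0, hk0, rfl⟩ := h2 a ha
    refine Nat.card_congr
      { toFun := fun k => ⟨k0⁻¹ * k.1.1, mem_inf.2 ⟨mul_mem (inv_mem hk0) k.1.2, mem_cz'.2 ?_⟩⟩
        invFun := fun z => ⟨⟨k0 * z.1, mul_mem hk0 z.2.1⟩, Subtype.ext ?_⟩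
        left_inv := fun k => Subtype.ext (Subtype.ext (by simp))
        right_inv := fun z => Subtype.ext (by simp) }
    · have e : k.1.1 * t * k.1.1⁻¹ = k0 * t * k0⁻¹ := congrArg Subtype.val k.2
      rw [show k0⁻¹ * k.1.1 * t * (k0⁻¹ * k.1.1)⁻¹ = k0⁻¹ * (k.1.1 * t * k.1.1⁻¹) * k0 by group, e]
      group
    · show k0 * z.1 * t * (k0 * z.1)⁻¹ = k0 * t * k0⁻¹
      rw [show k0 * z.1 * t * (k0 * z.1)⁻¹ = k0 * (z.1 * t * z.1⁻¹) * k0⁻¹ by group, mem_cz'.1 z.2.2]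
  rw [← Nat.card_congr (Equiv.sigmaFiberEquiv f), Nat.card_sigma,
    Finset.sum_congr rfl (fun a _ => hfib a), Finset.sum_const, Finset.card_univ, smul_eq_mul,
    Nat.card_eq_fintype_card]

theorem mem_normalizer_of {H : Subgroup G} {g : G} (h : ∀ a ∈ H, g * a * g⁻¹ ∈ H) :
    g ∈ normalizer (H : Set G) := by
  rw [mem_normalizer_iff]
  let f : H → H := fun a => ⟨g * a.1 * g⁻¹, h _ a.2⟩
  have hb : Function.Surjective f := Finite.surjective_of_injective fun a b e =>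
    Subtype.ext (mul_left_cancel (mul_right_cancel (congrArg Subtype.val e)))
  refine fun a => ⟨h a, fun ha => ?_⟩
  obtain ⟨b, hb'⟩ := hb ⟨_, ha⟩
  have := mul_left_cancel (mul_right_cancel (congrArg Subtype.val hb' : g * b.1 * g⁻¹ = g * a * g⁻¹))
  exact this ▸ b.2

theorem conj_mem_of_normalizer {H : Subgroup G} {g a : G} (hg : g ∈ normalizer (H : Set G))
    (ha : a ∈ H) : g * a * g⁻¹ ∈ H :=
  (mem_normalizer_iff.1 hg a).1 ha

theorem lt_normalizer {Q W : Subgroup G} (hQ : IsPGroup 2 Q) (hle : W ≤ Q) (hne : W ≠ Q) :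
    W < Q ⊓ normalizer (W : Set G) := by
  refine lt_of_le_of_ne (le_inf hle le_normalizer) fun e => ?_
  have := hQ.isNilpotent
  have hlt : W.subgroupOf Q < ⊤ := by
    rw [lt_top_iff_ne_top, ne_eq, subgroupOf_eq_top]
    exact fun h => hne (le_antisymm hle h)
  refine (Group.normalizerCondition_of_isNilpotent (W.subgroupOf Q) hlt).ne ?_
  rw [← subgroupOf_normalizer_eq hle]
  ext q
  simp only [mem_subgroupOf]
  exact ⟨fun h => le_normalizer h, fun h => e.ge ⟨q.2, h⟩⟩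

variable (hd : Dat G)
include hd

/-- A 2-group invariant under an element of order three, containing its four group. -/
theorem mod_three {r : G} (hr : orderOf r = 3) {Q : Subgroup G} (hQ : IsPGroup 2 Q)
    (hV : fourOf r ≤ Q) (hn : ∀ w ∈ Q, r * w * r⁻¹ ∈ Q) : Nat.card Q % 3 = 1 := by
  have h := fix_mod hr (Q : Set G) hn
  have e : Nat.card {w : G // w ∈ (Q : Set G) ∧ w ∈ cz r} = Nat.card (fourOf r) := by
    refine Nat.card_congr (Equiv.subtypeEquivRight fun w => ⟨fun hw => ?_, fun hw => ?_⟩)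
    · obtain ⟨k, hk⟩ := hQ ⟨w, hw.1⟩
      have hc : Commute r w := (mem_cz.1 hw.2).symm
      exact (mem_fourOf hd hr).2 ⟨sq_eq_one hd hr hc
        (orderOf_dvd_of_pow_eq_one (congrArg Subtype.val hk :)), hc⟩
    · exact ⟨hV hw, mem_cz.2 ((mem_fourOf hd hr).1 hw).2.eq.symm⟩
  rw [e, card_fourOf hd hr] at h
  exact h

theorem card_cases {r : G} (hr : orderOf r = 3) {Q T : Subgroup G} (hT : Nat.card T = 64)
    (hle : Q ≤ T) (hV : fourOf r ≤ Q) (hn : ∀ w ∈ Q, r * w * r⁻¹ ∈ Q) :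
    Nat.card Q = 4 ∨ Nat.card Q = 16 ∨ Nat.card Q = 64 := by
  have hQ : IsPGroup 2 Q := (IsPGroup.of_card (n := 6) hT).to_le hle
  have h := mod_three hd hr hQ hV hn
  obtain ⟨i, hi⟩ := hQ.exists_card_eq
  have h6 : i ≤ 6 := (Nat.pow_dvd_pow_iff_le_right (by norm_num : 1 < 2)).1
    (by rw [← hi]; exact (card_dvd_of_le hle).trans (dvd_of_eq hT))
  have h4 : 4 ∣ Nat.card Q := card_fourOf hd hr ▸ card_dvd_of_le hV
  rw [hi] at h h4 ⊢
  interval_cases i <;> simp_all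

/-- A four group meets an invariant 2-group trivially or lies in it. -/
theorem fix_in {P : Sylow 3 G} {r w : G} (hr : r ∈ (P : Subgroup G)) (hr1 : r ≠ 1) {Q : Subgroup G}
    (hn : ∀ k ∈ (P : Subgroup G), ∀ a ∈ Q, k * a * k⁻¹ ∈ Q) (hw : w ∈ fourOf r) (hw1 : w ≠ 1)
    (hwQ : w ∈ Q) : fourOf r ≤ Q := by
  have hr3 := sylow3_orderOf hd P hr hr1
  obtain ⟨r', hr', hr'z⟩ : ∃ r' ∈ (P : Subgroup G), r' ∉ zpowers r := by
    by_contra hc
    push Not at hc
    have := card_le_of_le (show (P : Subgroup G) ≤ zpowers r from hc)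
    rw [card_sylow3 hd, Nat.card_zpowers, hr3] at this
    omega
  have hc : r' * r * r'⁻¹ = r := mem_cz'.1 (sylow_le_cz hd P hr hr')
  have hw' : r' * w * r'⁻¹ ∈ fourOf r := fourOf_inv hd hr3 (Or.inl hc) hw
  have hne : r' * w * r'⁻¹ ≠ w := fun e =>
    hw1 (no_fix hd hr hr1 hr' hr'z hw (mul_inv_eq_iff_eq_mul.1 e))
  have h1' : r' * w * r'⁻¹ ≠ 1 := fun e => hw1 (by rwa [mul_inv_eq_one, mul_eq_left] at e)
  intro v hv
  rcases four_cases hd hr3 hw hw' hw1 h1' hne hv with rfl | rfl | rfl | rfl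
  exacts [one_mem _, hwQ, hn r' hr' w hwQ, mul_mem hwQ (hn r' hr' w hwQ)]

/-- A non-identity element of an invariant 2-group fixed by some element of `P`. -/
theorem exists_fix (P : Sylow 3 G) {Q : Subgroup G} (hQ : IsPGroup 2 Q)
    (hn : ∀ k ∈ (P : Subgroup G), ∀ a ∈ Q, k * a * k⁻¹ ∈ Q) (A : Set G) (h1 : (1 : G) ∈ A)
    (hA : ∀ k ∈ (P : Subgroup G), ∀ a ∈ A, k * a * k⁻¹ ∈ A)
    (h9 : ¬ 9 ∣ Nat.card {w : G | w ∈ Q ∧ w ∉ A}) :
    ∃ r ∈ (P : Subgroup G), r ≠ 1 ∧ ∃ w ∈ Q, w ∉ A ∧ w ∈ fourOf r ∧ w ≠ 1 := by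
  by_contra hc
  push Not at hc
  refine h9 (card_sylow3 hd P ▸ dvd_of_free (P : Subgroup G) _ ?_ ?_)
  · rintro k hk w ⟨hw, hwA⟩
    refine ⟨hn k hk w hw, fun h => hwA ?_⟩
    have := hA k⁻¹ (inv_mem hk) _ h
    rwa [show k⁻¹ * (k * w * k⁻¹) * k⁻¹⁻¹ = w by group] at this
  · rintro w ⟨hw, hwA⟩ k hk e
    by_contra hk1
    have hkc : Commute k w := mul_inv_eq_iff_eq_mul.1 e
    have hk3 := sylow3_orderOf hd P hk hk1
    obtain ⟨i, hi⟩ := hQ ⟨w, hw⟩
    exact hwA (by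
      rw [hc k hk hk1 w hw hwA ((mem_fourOf hd hk3).2
        ⟨sq_eq_one hd hk3 hkc (orderOf_dvd_of_pow_eq_one (congrArg Subtype.val hi :)), hkc⟩)]
      exact h1)

theorem fourOf_eq_of_zpowers {P : Sylow 3 G} {x r : G} (hx : x ∈ (P : Subgroup G)) (hx1 : x ≠ 1)
    (hr : r ∈ zpowers x) (hr1 : r ≠ 1) : fourOf r = fourOf x := by
  have hx3 := sylow3_orderOf hd P hx hx1
  have hr3 := sylow3_orderOf hd P (zpowers_le.2 hx hr) hr1
  obtain ⟨i, rfl⟩ := mem_zpowers_iff.1 hr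
  have hsub : fourOf x ≤ fourOf (x ^ i) := fun w hw => by
    obtain ⟨h1, h2⟩ := (mem_fourOf hd hx3).1 hw
    exact (mem_fourOf hd hr3).2 ⟨h1, h2.zpow_left i⟩
  exact (eq_of_le_of_card_ge hsub (by rw [card_fourOf hd hr3, card_fourOf hd hx3])).symm

namespace Cfg

variable (c : Cfg G)

/-- The part of `O` centralising the four group. -/
def A : Subgroup G := c.O ⊓ cz c.u

theorem P_gen {K : Subgroup G} (hx : c.x ∈ K) (hy : c.y ∈ K) : (c.P : Subgroup G) ≤ K := by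
  have hM : (c.P : Subgroup G) ⊓ K ≤ c.P := inf_le_left
  have hz : zpowers c.x ≤ (c.P : Subgroup G) ⊓ K := zpowers_le.2 ⟨c.hxP, hx⟩
  have hlt : zpowers c.x < (c.P : Subgroup G) ⊓ K :=
    lt_of_le_of_ne hz fun e => c.hy (e ▸ ⟨c.hyP, hy⟩)
  have h3 : 3 < Nat.card ↥((c.P : Subgroup G) ⊓ K) := by
    have e3 : Nat.card (zpowers c.x) = 3 := by rw [Nat.card_zpowers]; exact c.hx
    have h' : Nat.card (zpowers c.x) < Nat.card ↥((c.P : Subgroup G) ⊓ K) :=
      lt_of_le_of_ne (card_le_of_le hz) fun e => hlt.ne (eq_of_le_of_card_ge hz e.ge)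
    omega
  have hdv := card_dvd_of_le hM
  rw [card_sylow3 hd] at hdv
  have h := eq_of_le_of_card_ge hM (by
    rw [card_sylow3 hd]
    obtain ⟨i, hi, e⟩ := (Nat.dvd_prime_pow Nat.prime_three).1 (show _ ∣ 3 ^ 2 by norm_num; exact hdv)
    interval_cases i <;> omega)
  exact h ▸ inf_le_right

theorem comm_four {w : G} (h1 : w ∈ cz c.t) (h2 : w ∈ cz c.u) {v : G} (hv : v ∈ fourOf c.x) :
    Commute w v := by
  rcases four_cases hd c.hx c.ht c.hu c.ht1 c.hu1 c.hut hv with rfl | rfl | rfl | rfl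
  exacts [Commute.one_right w, mem_cz.1 h1, mem_cz.1 h2, (show Commute w c.t from mem_cz.1 h1).mul_right (mem_cz.1 h2)]

theorem x_u : c.x ∈ cz c.u := mem_cz.2 ((mem_fourOf hd c.hx).1 c.hu).2.eq

theorem V_le_A : fourOf c.x ≤ c.A := fun v hv =>
  ⟨(c.O_facts hd).2.2 hv, mem_cz.2 (fourOf_comm hd c.hx hv c.hu)⟩

theorem x_norm_A {a : G} (ha : a ∈ c.A) : c.x * a * c.x⁻¹ ∈ c.A :=
  mem_inf.2 ⟨c.O_normal (c.x_cz hd) ha.1, mul_mem (mul_mem (c.x_u hd) ha.2) (inv_mem (c.x_u hd))⟩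

/-- No element of `O` maps `u` to `tu`. -/
theorem no_swap {o : G} (ho : o ∈ c.O) : o * c.u * o⁻¹ ≠ c.t * c.u := by
  intro e
  set B := c.O ⊓ normalizer (fourOf c.x : Set G) with hB
  have hbv : ∀ g ∈ c.O, (g * c.u * g⁻¹ = c.u ∨ g * c.u * g⁻¹ = c.t * c.u) →
      g ∈ normalizer (fourOf c.x : Set G) := by
    intro g hg h
    refine mem_normalizer_of fun v hv => ?_
    have hgt : g * c.t * g⁻¹ = c.t := mem_cz'.1 (c.O_le hg)
    rcases four_cases hd c.hx c.ht c.hu c.ht1 c.hu1 c.hut hv with rfl | rfl | rfl | rfl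
    · simp
    · rw [hgt]; exact c.ht
    · rcases h with h | h <;> rw [h]
      exacts [c.hu, mul_mem c.ht c.hu]
    · rw [show g * (c.t * c.u) * g⁻¹ = (g * c.t * g⁻¹) * (g * c.u * g⁻¹) by group, hgt]
      rcases h with h | h <;> rw [h]
      exacts [mul_mem c.ht c.hu, mul_mem c.ht (mul_mem c.ht c.hu)]
  have hAB : c.A ≤ B := fun a ha => ⟨ha.1, hbv a ha.1 (Or.inl (mem_cz'.1 ha.2))⟩
  have hBo : o ∈ B := ⟨ho, hbv o ho (Or.inr e)⟩
  -- index at most two
  have hidx : Nat.card B ≤ 2 * Nat.card c.A := by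
    have h := card_orbit_conj B c.u {v | ∃ b ∈ B, b * c.u * b⁻¹ = v} (fun k hk => ⟨k, hk, rfl⟩)
      (fun a ha => ha)
    have hS : Nat.card {v : G | ∃ b ∈ B, b * c.u * b⁻¹ = v} ≤ 2 := by
      rw [Nat.card_coe_set_eq]
      refine (Set.ncard_le_ncard (t := {c.u, c.t * c.u}) ?_ (Set.toFinite _)).trans
        ((Set.ncard_insert_le _ _).trans (by rw [Set.ncard_singleton]))
      rintro v ⟨b, hb, rfl⟩
      have hbt : b * c.t * b⁻¹ = c.t := mem_cz'.1 (c.O_le hb.1)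
      rcases four_cases hd c.hx c.ht c.hu c.ht1 c.hu1 c.hut (conj_mem_of_normalizer hb.2 c.hu) with
        h | h | h | h
      · exact absurd (by rwa [mul_inv_eq_one, mul_eq_left] at h) c.hu1
      · exact absurd (mul_left_cancel (mul_right_cancel (h.trans hbt.symm))) c.hut
      · exact Or.inl h
      · exact Or.inr h
    have hBA : B ⊓ cz c.u = c.A := le_antisymm (fun a ha => ⟨ha.1.1, ha.2⟩) (le_inf hAB inf_le_right)
    rw [← h, hBA]
    exact Nat.mul_le_mul_right _ hS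
  have hBn : ∀ w ∈ B, c.x * w * c.x⁻¹ ∈ B := fun w hw => mem_inf.2
    ⟨c.O_normal (c.x_cz hd) hw.1, mul_mem (mul_mem (mem_normalizer_of fun v hv =>
      fourOf_inv hd c.hx (Or.inl (by group)) hv) hw.2) (inv_mem (mem_normalizer_of fun v hv =>
      fourOf_inv hd c.hx (Or.inl (by group)) hv))⟩
  have h1 := card_cases hd c.hx (c.O_facts hd).1 (Q := B) inf_le_left
    ((c.V_le_A hd).trans hAB) hBn
  have h2 := card_cases hd c.hx (Q := c.A) (c.O_facts hd).1 inf_le_left (c.V_le_A hd)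
    (fun w hw => c.x_norm_A hd hw)
  have heq := eq_of_le_of_card_ge hAB (by
    have := card_le_of_le hAB
    omega)
  have : o ∈ c.A := heq ▸ hBo
  rw [mem_cz'.1 this.2] at e
  exact c.ht1 (mul_eq_right.1 e.symm)

theorem A_card : Nat.card c.A = 16 ∨ Nat.card c.A = 64 := by
  rcases card_cases hd c.hx (Q := c.A) (c.O_facts hd).1 inf_le_left (c.V_le_A hd)
    (fun w hw => c.x_norm_A hd hw) with h | h | h
  · exfalso
    have hAV : fourOf c.x = c.A := eq_of_le_of_card_ge (c.V_le_A hd) (by rw [h, card_fourOf hd c.hx])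
    have hne : fourOf c.x ≠ c.O := fun e => by
      have := (c.O_facts hd).1
      rw [← e, card_fourOf hd c.hx] at this
      omega
    obtain ⟨o, ho, hoV⟩ := SetLike.exists_of_lt (lt_normalizer (c.O_pgroup hd) (c.O_facts hd).2.2 hne)
    have hot : o * c.t * o⁻¹ = c.t := mem_cz'.1 (c.O_le ho.1)
    rcases four_cases hd c.hx c.ht c.hu c.ht1 c.hu1 c.hut (conj_mem_of_normalizer ho.2 c.hu) with
      e | e | e | e
    · exact c.hu1 (by rwa [mul_inv_eq_one, mul_eq_left] at e)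
    · exact c.hut (mul_left_cancel (mul_right_cancel (e.trans hot.symm)))
    · exact hoV (hAV ▸ ⟨ho.1, mem_cz'.2 e⟩)
    · exact c.no_swap hd ho.1 e
  · exact Or.inl h
  · exact Or.inr h

/-- The centraliser of the four group is `A` extended by `x`. -/
theorem mem_A_of_torsion {w : G} (h1 : w ∈ cz c.t) (h2 : w ∈ cz c.u) (h64 : w ^ 64 = 1) :
    w ∈ c.A := by
  classical
  set C := cz c.t
  set O' := c.O.subgroupOf C
  have hnor : O'.Normal := ⟨fun k hk h => c.O_normal h.2 hk⟩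
  set D := C ⊓ cz c.u
  let φ : D →* C ⧸ O' := (QuotientGroup.mk' O').comp (inclusion inf_le_left)
  have hker : φ.ker.map D.subtype = c.A := by
    ext g
    simp only [mem_map, MonoidHom.mem_ker, φ, MonoidHom.coe_comp, Function.comp_apply,
      QuotientGroup.mk'_apply, QuotientGroup.eq_one_iff, O', mem_subgroupOf]
    constructor
    · rintro ⟨d, hd', rfl⟩; exact ⟨hd', d.2.2⟩
    · rintro ⟨hgO, hgu⟩; exact ⟨⟨g, c.O_le hgO, hgu⟩, hgO, rfl⟩
  have hs : (QuotientGroup.mk' O' ⟨c.s, c.s_cz⟩) ∉ φ.range := by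
    rintro ⟨d, hd'⟩
    have h : d.1⁻¹ * c.s ∈ c.O := by
      simp only [φ, MonoidHom.coe_comp, Function.comp_apply, QuotientGroup.mk'_apply,
        QuotientGroup.eq, O', mem_subgroupOf] at hd'
      exact hd'
    have ho : (d.1⁻¹ * c.s)⁻¹ ∈ c.O := inv_mem h
    have ho' := c.O_normal c.s_cz ho
    rw [show c.s * (d.1⁻¹ * c.s)⁻¹ * c.s⁻¹ = c.s * (c.s⁻¹ * d.1) * c.s⁻¹ by group,
      show c.s * (c.s⁻¹ * d.1) * c.s⁻¹ = d.1 * c.s⁻¹ by group] at ho'
    refine c.no_swap hd (inv_mem ho') ?_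
    rw [show (d.1 * c.s⁻¹)⁻¹ * c.u * (d.1 * c.s⁻¹)⁻¹⁻¹ = c.s * (d.1⁻¹ * c.u * d.1⁻¹⁻¹) * c.s⁻¹ by group,
      mem_cz'.1 (inv_mem d.2.2), c.su]
  have hq : Nat.card (C ⧸ O') = 6 := by
    have h := O'.index_mul_card
    rw [Nat.card_congr (subgroupOfEquivOfLe c.O_le).toEquiv, (c.O_facts hd).1,
      cz_two hd (c.t_ord hd)] at h
    rw [← index_eq_card]
    omega
  have hr : Nat.card φ.range = 1 ∨ Nat.card φ.range = 2 ∨ Nat.card φ.range = 3 := by
    have h6 : Nat.card φ.range ∣ 6 := hq ▸ card_subgroup_dvd_card _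
    have hne : Nat.card φ.range ≠ 6 := fun e => hs (eq_top_of_card_eq φ.range (e.trans hq.symm) ▸ mem_top _)
    have := Nat.le_of_dvd (by norm_num) h6
    have := Nat.card_pos (α := φ.range)
    interval_cases e : Nat.card φ.range <;> omega
  have hx3 : 3 ∣ Nat.card φ.range := by
    set X : D := ⟨c.x, c.x_cz hd, c.x_u hd⟩
    have hX : φ X ≠ 1 := by
      intro e
      have hm : c.x ∈ c.A := hker ▸ ⟨X, e, rfl⟩
      have := orderOf_dvd_natCard (⟨c.x, hm.1⟩ : c.O)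
      rw [← Subgroup.orderOf_coe, c.hx, (c.O_facts hd).1] at this
      omega
    have h3 : φ X ^ 3 = 1 := by
      rw [← map_pow, show X ^ 3 = 1 from Subtype.ext (orderOf_dvd_iff_pow_eq_one.1 (dvd_of_eq c.hx)),
        map_one]
    have := orderOf_dvd_natCard (⟨φ X, ⟨X, rfl⟩⟩ : φ.range)
    rwa [← Subgroup.orderOf_coe, orderOf_eq_prime h3 hX] at this
  have hcard : Nat.card D = 3 * Nat.card c.A := by
    have h := φ.ker.index_mul_card
    rw [index_ker] at h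
    rw [← hker, card_map_of_injective D.subtype_injective, ← h]
    obtain e | e | e := hr <;> rw [e] at hx3 ⊢ <;> omega
  exact mem_of_index_three (le_inf (inf_le_left.trans c.O_le) inf_le_right : c.A ≤ D)
    (fun h hh k hk => mem_inf.2 ⟨c.O_normal hh.1 hk.1, mul_mem (mul_mem hh.2 hk.2) (inv_mem hh.2)⟩) hcard
    ⟨h1, h2⟩ h64

theorem pow64_of_O {w : G} (hw : w ∈ c.O) : w ^ 64 = 1 :=
  orderOf_dvd_iff_pow_eq_one.1 (by
    rw [← (c.O_facts hd).1, show orderOf w = orderOf (⟨w, hw⟩ : c.O) from Subgroup.orderOf_coe (⟨w, hw⟩ : c.O)]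
    exact orderOf_dvd_natCard _)

theorem P_norm_A {k a : G} (hk : k ∈ (c.P : Subgroup G)) (ha : a ∈ c.A) : k * a * k⁻¹ ∈ c.A := by
  have hle := c.P_gen hd (K := normalizer (c.A : Set G))
    (mem_normalizer_of fun a ha => c.x_norm_A hd ha)
    (mem_normalizer_of fun a ha => by
      have hta : a ∈ cz c.t := c.O_le ha.1
      have hu' : c.y * a * c.y⁻¹ ∈ cz c.u := by
        have := (cz_conj (g := c.y)).1 hta
        rwa [c.yt] at this
      have htu : c.y * a * c.y⁻¹ ∈ cz (c.t * c.u) := by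
        have := (cz_conj (g := c.y)).1 ha.2
        rwa [c.yu] at this
      refine c.mem_A_of_torsion hd ?_ hu' ?_
      · have h2 : c.u * c.u = 1 := by rw [← pow_two]; exact ((mem_fourOf hd c.hx).1 c.hu).1
        have h := (show Commute (c.y * a * c.y⁻¹) (c.t * c.u) from mem_cz.1 htu).mul_right
          (show Commute (c.y * a * c.y⁻¹) c.u from mem_cz.1 hu')
        rw [show c.t * c.u * c.u = c.t by rw [mul_assoc, h2, mul_one]] at h
        exact mem_cz.2 h.eq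
      · rw [conj_pow, c.pow64_of_O hd ha.1]; group)
  exact conj_mem_of_normalizer (hle hk) ha

/-- There is a second four group inside `A`. -/
theorem exists_second : ∃ r ∈ (c.P : Subgroup G), r ∉ zpowers c.x ∧ fourOf r ≤ c.A := by
  classical
  have := Fintype.ofFinite G
  have h9 : ¬ 9 ∣ Nat.card {w : G | w ∈ c.A ∧ w ∉ (fourOf c.x : Set G)} := by
    have e : {w : G | w ∈ c.A ∧ w ∉ (fourOf c.x : Set G)} = (c.A : Set G) \ (fourOf c.x : Set G) := rfl
    rw [e, Nat.card_coe_set_eq, Set.ncard_sdiff (c.V_le_A hd), ← Nat.card_coe_set_eq,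
      ← Nat.card_coe_set_eq, SetLike.coe_sort_coe, SetLike.coe_sort_coe, card_fourOf hd c.hx]
    rcases c.A_card hd with h | h <;> rw [h] <;> norm_num
  obtain ⟨r, hr, hr1, w, hwA, hwV, hw, hw1⟩ := exists_fix hd c.P
    ((c.O_pgroup hd).to_le inf_le_left) (fun k hk a ha => c.P_norm_A hd hk ha) (fourOf c.x : Set G)
    (one_mem _) (fun k hk a ha => fourOf_inv hd c.hx
      (Or.inl (mem_cz'.1 (sylow_le_cz hd c.P c.hxP hk))) ha) h9
  refine ⟨r, hr, fun h => hwV ?_, fix_in hd hr hr1 (fun k hk a ha => c.P_norm_A hd hk ha) hw hw1 hwA⟩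
  exact (fourOf_eq_of_zpowers hd c.hxP c.x_ne h hr1) ▸ hw

section Second

variable {r : G} (hrP : r ∈ (c.P : Subgroup G)) (hr : r ∉ zpowers c.x) (hrA : fourOf r ≤ c.A)
include hrP hr

omit [Finite G] hd in
theorem r_ne : r ≠ 1 := fun e => hr (e ▸ one_mem _)

omit hr in
theorem r_ord (hr : r ∉ zpowers c.x) : orderOf r = 3 :=
  sylow3_orderOf hd c.P hrP (c.r_ne hrP hr)

theorem x_notMem : c.x ∉ zpowers r := by
  intro h
  refine hr ?_
  have h3 : Nat.card (zpowers r) = 3 := by rw [Nat.card_zpowers, c.r_ord hd hrP hr]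
  rw [SmallGroups.zpowers_eq_of_card_prime h3 h c.x_ne]
  exact mem_zpowers r

omit hr in
/-- The group generated by the two four groups. -/
abbrev E (c : Cfg G) (r : G) : Subgroup G := fourOf c.x ⊔ fourOf r

theorem disj {v : G} (h1 : v ∈ fourOf c.x) (h2 : v ∈ fourOf r) : v = 1 :=
  no_fix hd c.hxP c.x_ne hrP hr h1 ((mem_fourOf hd (c.r_ord hd hrP hr)).1 h2).2

include hrA

theorem comm_V1 {v w : G} (hv : v ∈ fourOf c.x) (hw : w ∈ fourOf r) : Commute v w :=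
  (c.comm_four hd (c.O_le (hrA hw).1) (hrA hw).2 hv).symm

theorem E_facts : (∀ e ∈ E c r, ∃ v ∈ fourOf c.x, ∃ w ∈ fourOf r, e = v * w) ∧
    (∀ e ∈ E c r, e ^ 2 = 1) ∧ Nat.card (E c r) = 16 := by
  have hcomm : ∀ (a : fourOf c.x) (b : fourOf r), Commute ((fourOf c.x).subtype a) ((fourOf r).subtype b) :=
    fun a b => c.comm_V1 hd hrP hr hrA a.2 b.2
  have hrange : (MonoidHom.noncommCoprod _ _ hcomm).range = E c r := by
    rw [MonoidHom.noncommCoprod_range, range_subtype, range_subtype]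
  have hE : ∀ e ∈ E c r, ∃ v ∈ fourOf c.x, ∃ w ∈ fourOf r, e = v * w := by
    intro e he
    rw [← hrange] at he
    obtain ⟨⟨a, b⟩, rfl⟩ := he
    exact ⟨a, a.2, b, b.2, rfl⟩
  refine ⟨hE, fun e he => ?_, ?_⟩
  · obtain ⟨v, hv, w, hw, rfl⟩ := hE e he
    rw [(c.comm_V1 hd hrP hr hrA hv hw).mul_pow, ((mem_fourOf hd c.hx).1 hv).1,
      ((mem_fourOf hd (c.r_ord hd hrP hr)).1 hw).1, one_mul]
  · have hinj : Function.Injective (MonoidHom.noncommCoprod _ _ hcomm) := by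
      rintro ⟨a, b⟩ ⟨a', b'⟩ e
      have e' : (a : G) * b = a' * b' := e
      have h1 : (a' : G)⁻¹ * a = b' * (b : G)⁻¹ := by
        rw [eq_mul_inv_iff_mul_eq, mul_assoc, e']; group
      have h2 := c.disj hd hrP hr (mul_mem (inv_mem a'.2) a.2) (h1 ▸ mul_mem b'.2 (inv_mem b.2))
      rw [inv_mul_eq_one] at h2
      have : a' = a := Subtype.ext h2
      subst this
      exact Prod.ext rfl (Subtype.ext (mul_left_cancel e'))
    rw [← hrange, ← Nat.card_congr (MonoidHom.ofInjective hinj).toEquiv, Nat.card_prod,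
      card_fourOf hd c.hx, card_fourOf hd (c.r_ord hd hrP hr)]

theorem decomp_unique {v v' w w' : G} (hv : v ∈ fourOf c.x) (hv' : v' ∈ fourOf c.x)
    (hw : w ∈ fourOf r) (hw' : w' ∈ fourOf r) (e : v * w = v' * w') : v = v' ∧ w = w' := by
  have h1 : v'⁻¹ * v = w' * w⁻¹ := by rw [eq_mul_inv_iff_mul_eq, mul_assoc, e]; group
  have h2 := c.disj hd hrP hr (mul_mem (inv_mem hv') hv) (h1 ▸ mul_mem hw' (inv_mem hw))
  rw [inv_mul_eq_one] at h2
  subst h2
  exact ⟨rfl, mul_left_cancel e⟩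

theorem E_le_A : E c r ≤ c.A := sup_le (c.V_le_A hd) hrA

theorem norm_of_four {g : G} (h1 : ∀ v ∈ fourOf c.x, g * v * g⁻¹ ∈ E c r)
    (h2 : ∀ w ∈ fourOf r, g * w * g⁻¹ ∈ E c r) : g ∈ normalizer (E c r : Set G) := by
  refine mem_normalizer_of fun e he => ?_
  obtain ⟨v, hv, w, hw, rfl⟩ := (c.E_facts hd hrP hr hrA).1 e he
  rw [show g * (v * w) * g⁻¹ = (g * v * g⁻¹) * (g * w * g⁻¹) by group]
  exact mul_mem (h1 v hv) (h2 w hw)

theorem P_norm_E {k : G} (hk : k ∈ (c.P : Subgroup G)) : k ∈ normalizer (E c r : Set G) :=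
  c.norm_of_four hd hrP hr hrA
    (fun v hv => le_sup_left (b := fourOf r)
      (fourOf_inv hd c.hx (Or.inl (mem_cz'.1 (sylow_le_cz hd c.P c.hxP hk))) hv))
    (fun w hw => le_sup_right (a := fourOf c.x)
      (fourOf_inv hd (c.r_ord hd hrP hr) (Or.inl (mem_cz'.1 (sylow_le_cz hd c.P hrP hk))) hw))

theorem s_norm_E : c.s ∈ normalizer (E c r : Set G) :=
  c.norm_of_four hd hrP hr hrA
    (fun v hv => le_sup_left (b := fourOf r) (fourOf_inv hd c.hx (Or.inr (c.sP _ c.hxP)) hv))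
    (fun w hw => le_sup_right (a := fourOf c.x)
      (fourOf_inv hd (c.r_ord hd hrP hr) (Or.inr (c.sP _ hrP)) hw))

/-- `C(t)` normalises `E`. -/
theorem C_norm_E : cz c.t ≤ normalizer (E c r : Set G) := by
  refine c.gen_C hd ?_ (c.P_norm_E hd hrP hr hrA c.hxP) (c.s_norm_E hd hrP hr hrA)
  have hE : E c r ≤ c.O := (c.E_le_A hd hrP hr hrA).trans inf_le_left
  have hne : E c r ≠ c.O := fun e => by
    have := (c.O_facts hd).1
    rw [← e, (c.E_facts hd hrP hr hrA).2.2] at this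
    omega
  set B := c.O ⊓ normalizer (E c r : Set G) with hB
  have hlt := lt_normalizer (c.O_pgroup hd) hE hne
  have hBn : ∀ w ∈ B, c.x * w * c.x⁻¹ ∈ B := fun w hw => mem_inf.2
    ⟨c.O_normal (c.x_cz hd) hw.1, mul_mem (mul_mem (c.P_norm_E hd hrP hr hrA c.hxP) hw.2)
      (inv_mem (c.P_norm_E hd hrP hr hrA c.hxP))⟩
  have h := card_cases hd c.hx (c.O_facts hd).1 (Q := B) inf_le_left
    ((le_sup_left : fourOf c.x ≤ E c r).trans hlt.le) hBn
  have h16 : 16 < Nat.card B := by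
    rw [← (c.E_facts hd hrP hr hrA).2.2]
    exact lt_of_le_of_ne (card_le_of_le hlt.le) fun e => hlt.ne (eq_of_le_of_card_ge hlt.le e.ge)
  have := eq_of_le_of_card_ge (inf_le_left : B ≤ c.O)
    (show Nat.card c.O ≤ Nat.card B by rw [(c.O_facts hd).1]; omega)
  exact this ▸ inf_le_right

end Second

end Cfg

end Cfsg.Agent.M22Nse38
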