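import Mathlib

/-!
# Conjugation on invariant sets
-/

set_option autoImplicit false

namespace Cfsg.Agent.M22Nse38

open Subgroup

variable {G : Type*} [Group G]

/-- The centraliser of an element. -/
abbrev cz (g : G) : Subgroup G := centralizer ({g} : Set G)

theorem mem_cz {g w : G} : w ∈ cz g ↔ w * g = g * w := mem_centralizer_singleton_iff

theorem mem_cz' {g w : G} : w ∈ cz g ↔ w * g * w⁻¹ = g := by
  rw [mem_cz, mul_inv_eq_iff_eq_mul]

theorem orderOf_conj (g w : G) : orderOf (g * w * g⁻¹) = orderOf w :=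
  orderOf_injective (MulAut.conj g).toMonoidHom (MulAut.conj g).injective w

theorem cz_conj {g x w : G} : w ∈ cz x ↔ g * w * g⁻¹ ∈ cz (g * x * g⁻¹) := by
  rw [mem_cz, mem_cz, show g * w * g⁻¹ * (g * x * g⁻¹) = g * (w * x) * g⁻¹ by group,
    show g * x * g⁻¹ * (g * w * g⁻¹) = g * (x * w) * g⁻¹ by group, mul_left_inj, mul_right_inj]

theorem card_cz_conj (g x : G) : Nat.card (cz (g * x * g⁻¹)) = Nat.card (cz x) :=
  (Nat.card_congr ((MulAut.conj g).toEquiv.subtypeEquiv fun w => cz_conj (g := g))).symm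

variable [Finite G]

/-- A subgroup conjugating a set into itself acts on it. -/
@[reducible] def setAction (K : Subgroup G) (S : Set G) (h : ∀ k ∈ K, ∀ w ∈ S, k * w * k⁻¹ ∈ S) :
    MulAction K S where
  smul k w := ⟨k.1 * w.1 * k.1⁻¹, h _ k.2 _ w.2⟩
  one_smul w := Subtype.ext (show (1 : G) * w.1 * (1 : G)⁻¹ = w.1 by group)
  mul_smul k l w := Subtype.ext
    (show (k.1 * l.1) * w.1 * (k.1 * l.1)⁻¹ = k.1 * (l.1 * w.1 * l.1⁻¹) * k.1⁻¹ by group)

theorem zpowers_conj {h : G} {S : Set G} (hS : ∀ w ∈ S, h * w * h⁻¹ ∈ S) :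
    ∀ k ∈ zpowers h, ∀ w ∈ S, k * w * k⁻¹ ∈ S := by
  intro k hk
  rw [← mem_powers_iff_mem_zpowers] at hk
  obtain ⟨n, rfl⟩ := hk
  simp only
  induction n with
  | zero => intro w hw; simpa using hw
  | succ n ih =>
    intro w hw
    rw [pow_succ', show h * h ^ n * w * (h * h ^ n)⁻¹ = h * (h ^ n * w * (h ^ n)⁻¹) * h⁻¹ by group]
    exact hS _ (ih w hw)

/-- A `p`-group of conjugations: the fixed points count modulo `p`. -/
theorem fix_mod_group {p : ℕ} [Fact p.Prime] {K : Subgroup G} (hK : IsPGroup p K) (S : Set G)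
    (hS : ∀ k ∈ K, ∀ w ∈ S, k * w * k⁻¹ ∈ S) :
    Nat.card S ≡ Nat.card {w : G // w ∈ S ∧ ∀ k ∈ K, k * w * k⁻¹ = w} [MOD p] := by
  let := setAction K S hS
  refine (hK.card_modEq_card_fixedPoints S).trans (congrArg (· % p) ?_)
  refine Nat.card_congr
    { toFun := fun w => ⟨w.1.1, w.1.2, fun k hk => congrArg Subtype.val (w.2 ⟨k, hk⟩)⟩
      invFun := fun w => ⟨⟨w.1, w.2.1⟩, fun k => Subtype.ext (w.2.2 k.1 k.2)⟩
      left_inv := fun _ => rfl
      right_inv := fun _ => rfl }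

/-- An element of order `p`: the fixed points count modulo `p`. -/
theorem fix_mod {p : ℕ} [Fact p.Prime] {h : G} (hh : orderOf h = p) (S : Set G)
    (hS : ∀ w ∈ S, h * w * h⁻¹ ∈ S) :
    Nat.card S ≡ Nat.card {w : G // w ∈ S ∧ w ∈ cz h} [MOD p] := by
  refine (fix_mod_group (K := zpowers h) (IsPGroup.of_card (n := 1) (by rw [Nat.card_zpowers, hh, pow_one]))
    S (zpowers_conj hS)).trans (congrArg (· % p) (Nat.card_congr (Equiv.subtypeEquivRight fun w => ?_)))
  refine and_congr_right fun _ => ⟨fun e => ?_, fun e k hk => ?_⟩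
  · have := e h (mem_zpowers h)
    rw [mem_cz]
    exact (mul_inv_eq_iff_eq_mul.1 this).symm
  · obtain ⟨n, rfl⟩ := mem_zpowers_iff.1 hk
    rw [mul_inv_eq_iff_eq_mul]
    exact ((show Commute w h from mem_cz.1 e).symm.zpow_left n).eq

/-- A free action of conjugations divides the cardinality. -/
theorem dvd_of_free (K : Subgroup G) (S : Set G) (hS : ∀ k ∈ K, ∀ w ∈ S, k * w * k⁻¹ ∈ S)
    (hfree : ∀ w ∈ S, ∀ k ∈ K, k * w * k⁻¹ = w → k = 1) : Nat.card K ∣ Nat.card S := by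
  let := setAction K S hS
  rw [Nat.card_congr (MulAction.selfEquivOrbitsQuotientProd (G := K) (X := S) fun w => ?_), Nat.card_prod]
  · exact dvd_mul_left _ _
  · refine eq_bot_iff.2 fun k hk => ?_
    rw [mem_bot]
    exact Subtype.ext (hfree w.1 w.2 k.1 k.2 (congrArg Subtype.val hk))

theorem not_dvd_of_pgroup {p q n : ℕ} (hp : p.Prime) (hq : q.Prime) (hne : p ≠ q) :
    ¬ p ∣ q ^ n := fun h => hne ((Nat.prime_dvd_prime_iff_eq hp hq).1 (hp.dvd_of_dvd_pow h))

/-- A normal subgroup of index three contains the 64-torsion. -/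
theorem mem_of_index_three {H K : Subgroup G} (hKH : K ≤ H) (hn : ∀ h ∈ H, ∀ k ∈ K, h * k * h⁻¹ ∈ K)
    (hidx : Nat.card H = 3 * Nat.card K) {w : G} (hw : w ∈ H) (h64 : w ^ 64 = 1) : w ∈ K := by
  have hnor : (K.subgroupOf H).Normal := ⟨fun k hk h => hn h.1 h.2 k.1 hk⟩
  have hi : (K.subgroupOf H).index = 3 := by
    have h1 := (K.subgroupOf H).index_mul_card
    rw [Nat.card_congr (subgroupOfEquivOfLe hKH).toEquiv, hidx] at h1
    exact Nat.eq_of_mul_eq_mul_right Nat.card_pos h1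
  have h3 : w ^ 3 ∈ K := by
    have := pow_index_mem (K.subgroupOf H) (⟨w, hw⟩ : H)
    rw [hi] at this
    exact this
  have e : w = (w ^ 3) ^ 43 := by
    rw [← pow_mul, show 3 * 43 = 64 * 2 + 1 by norm_num, pow_succ, pow_mul, h64, one_pow, one_mul]
  rw [e]
  exact pow_mem h3 43

end Cfsg.Agent.M22Nse38
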