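import Cfsg.Agent.M22Nse38.Sub

/-!
# The normaliser of the group of order sixteen: what is used for the coset action
-/

set_option autoImplicit false

namespace Cfsg.Agent.M22Nse38

open Subgroup
open scoped Pointwise

local instance : Fact (Nat.Prime 3) := ⟨Nat.prime_three⟩
local instance : Fact (Nat.Prime 2) := ⟨Nat.prime_two⟩

variable {G : Type*} [Group G] [Finite G]

/-- The data of the subgroup of index 77. -/
structure Geo (G : Type*) [Group G] where
  H : Subgroup G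
  E : Subgroup G
  P : Sylow 3 G
  x : G
  hPH : (P : Subgroup G) ≤ H
  hEH : E ≤ H
  hH : Nat.card H = 5760
  hE : Nat.card E = 16
  norm : H = normalizer (E : Set G)
  comm : ∀ a ∈ E, ∀ b ∈ E, a * b = b * a
  trans : ∀ a ∈ E, ∀ b ∈ E, a ≠ 1 → b ≠ 1 → ∃ k ∈ H, k * a * k⁻¹ = b
  hNP : Nat.card ↥(H ⊓ normalizer ((P : Subgroup G) : Set G)) = 36
  irr : ∀ A : Subgroup G, A ≤ E →
    (∀ k ∈ H ⊓ normalizer ((P : Subgroup G) : Set G), ∀ a ∈ A, k * a * k⁻¹ ∈ A) → A = ⊥ ∨ A = E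
  hxP : x ∈ (P : Subgroup G)
  hx : orderOf x = 3
  hxE : 4 ≤ Nat.card ↥(E ⊓ cz x)

theorem exists_geo (hd : Dat G) : Nonempty (Geo G) := by
  classical
  obtain ⟨c⟩ := exists_cfg hd
  obtain ⟨r, hrP, hr, hrA⟩ := c.exists_second hd
  have hr3 := c.r_ord hd hrP hr
  obtain ⟨hE, hEsq, hEc⟩ := c.E_facts hd hrP hr hrA
  set H := normalizer (Cfg.E c r : Set G) with hHdef
  have hH : Nat.card H = 5760 := c.card_H hd hrP hr hrA
  have hPH : (c.P : Subgroup G) ≤ H := fun k hk => c.P_norm_E hd hrP hr hrA hk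
  set NP := H ⊓ normalizer ((c.P : Subgroup G) : Set G) with hNPdef
  have hs : c.s ∈ NP := mem_inf.2 ⟨c.s_norm_E hd hrP hr hrA,
    mem_normalizer_of fun a ha => by rw [c.sP a ha]; exact inv_mem ha⟩
  have hPNP : (c.P : Subgroup G) ≤ NP := le_inf hPH le_normalizer
  have hNP : Nat.card NP = 36 := by
    set Pv := c.P.subtype hPH
    have h1 := (normalizer ((Pv : Subgroup H) : Set H)).index_mul_card
    have hN : Nat.card (normalizer ((Pv : Subgroup H) : Set H)) = Nat.card NP := by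
      rw [← Nat.card_congr (subgroupOfEquivOfLe (inf_le_left : NP ≤ H)).toEquiv]
      refine congrArg (fun K : Subgroup H => Nat.card K) ?_
      rw [Sylow.coe_subtype, ← subgroupOf_normalizer_eq hPH, inf_subgroupOf_left]
    rw [hN, ← nidx, hH] at h1
    have hmod := card_sylow_modEq_one 3 H
    have h72 : Nat.card NP ∣ 72 := card_normalizer hd c.P ▸ card_dvd_of_le inf_le_right
    have h18 : 18 ∣ Nat.card NP := by
      refine Nat.Coprime.mul_dvd_of_dvd_of_dvd (m := 2) (n := 9) (by norm_num) ?_ ?_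
      · have := orderOf_dvd_natCard (⟨c.s, hs⟩ : NP)
        rwa [← Subgroup.orderOf_coe, c.hs] at this
      · exact card_sylow3 hd c.P ▸ card_dvd_of_le hPNP
    obtain ⟨m, hm⟩ := h18
    have hm4 : m ∣ 4 := Nat.dvd_of_mul_dvd_mul_left (by norm_num : 0 < 18) (hm ▸ h72)
    have := Nat.le_of_dvd (by norm_num) hm4
    rw [hm] at h1 ⊢
    rw [Nat.ModEq] at hmod
    interval_cases m <;> omega
  have move : ∀ z ∈ (c.P : Subgroup G), z ≠ 1 → ∃ k ∈ NP, k * z * k⁻¹ ∉ zpowers z := by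
    intro z hz hz1
    by_contra hc
    push Not at hc
    have hz3 := sylow3_orderOf hd c.P hz hz1
    set S : Set G := {w | ∃ k ∈ NP, k * z * k⁻¹ = w}
    have hcard := card_orbit_conj NP z S (fun k hk => ⟨k, hk, rfl⟩) (fun a ha => ha)
    have h9 : Nat.card ↥(NP ⊓ cz z) ≤ 9 := card_sylow3 hd c.P ▸ card_le_of_le
      (fun w hw => self_norm hd hz hz1 (mem_inf.1 hw).2 (mem_inf.1 (mem_inf.1 hw).1).2)
    have h2 : Nat.card S ≤ 2 := by
      rw [Nat.card_coe_set_eq]
      refine (Set.ncard_le_ncard (t := (zpowers z : Set G) \ {1}) ?_ (Set.toFinite _)).trans ?_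
      · rintro _ ⟨k, hk, rfl⟩
        exact ⟨hc k hk, fun e => hz1 (by rwa [Set.mem_singleton_iff, mul_inv_eq_one, mul_eq_left] at e)⟩
      · rw [Set.ncard_sdiff_singleton_of_mem (one_mem (zpowers z)), ← Nat.card_coe_set_eq,
          SetLike.coe_sort_coe, Nat.card_zpowers, hz3]
    have := Nat.mul_le_mul h2 h9
    omega
  refine ⟨⟨H, Cfg.E c r, c.P, c.x, hPH, le_normalizer, hH, hEc, rfl, fun a ha b hb => ?_,
    fun a ha b hb ha1 hb1 => ?_, hNP, fun A hA hAn => ?_, c.hxP, c.hx, ?_⟩⟩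
  · have h1 := hEsq _ (mul_mem ha hb)
    rw [pow_two] at h1
    have h2 := hEsq a ha
    have h3 := hEsq b hb
    rw [pow_two] at h2 h3
    calc a * b = (a * b)⁻¹ := eq_inv_of_mul_eq_one_left h1
      _ = b⁻¹ * a⁻¹ := by group
      _ = b * a := by rw [inv_eq_of_mul_eq_one_right h3, inv_eq_of_mul_eq_one_right h2]
  · obtain ⟨j, hj, e⟩ := c.orbit_E hd hrP hr hrA a ha ha1
    obtain ⟨k, hk, e'⟩ := c.orbit_E hd hrP hr hrA b hb hb1
    exact ⟨k * j⁻¹, mul_mem hk (inv_mem hj), by rw [← e, ← e']; group⟩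
  · refine or_iff_not_imp_left.2 fun hne => ?_
    have hP : ∀ k ∈ (c.P : Subgroup G), ∀ a ∈ A, k * a * k⁻¹ ∈ A := fun k hk => hAn k (hPNP hk)
    -- one of the two four groups
    obtain ⟨a, ha, ha1⟩ : ∃ a ∈ A, a ≠ 1 := by
      by_contra hc
      push Not at hc
      exact hne (eq_bot_iff.2 fun a ha => mem_bot.2 (hc a ha))
    obtain ⟨v, hv, w, hw, rfl⟩ := hE a (hA ha)
    have hrn := c.r_ne hrP hr
    obtain ⟨z, hzP, hz1, hzA⟩ : ∃ z ∈ (c.P : Subgroup G), z ≠ 1 ∧ fourOf z ≤ A := by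
      by_cases hw1 : w = 1
      · subst hw1
        rw [mul_one] at ha ha1
        exact ⟨c.x, c.hxP, c.x_ne, fix_in hd c.hxP c.x_ne hP hv ha1 ha⟩
      · refine ⟨r, hrP, hrn, ?_⟩
        have hxr : c.x * r * c.x⁻¹ = r := mem_cz'.1 (sylow_le_cz hd c.P hrP c.hxP)
        have hxw : c.x * w * c.x⁻¹ ∈ fourOf r := fourOf_inv hd hr3 (Or.inl hxr) hw
        have hwA : w⁻¹ * (c.x * w * c.x⁻¹) ∈ A := by
          have hxv : c.x * v * c.x⁻¹ = v := by
            rw [mul_inv_eq_iff_eq_mul]; exact ((mem_fourOf hd c.hx).1 hv).2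
          have h := mul_mem (inv_mem ha) (hP c.x c.hxP _ ha)
          rwa [show (v * w)⁻¹ * (c.x * (v * w) * c.x⁻¹) = w⁻¹ * (v⁻¹ * (c.x * v * c.x⁻¹)) * (c.x * w * c.x⁻¹) by group,
            hxv, inv_mul_cancel, mul_one] at h
        refine fix_in hd hrP hrn hP (mul_mem (inv_mem hw) hxw) ?_ hwA
        intro e
        exact hw1 (no_fix hd hrP hrn c.hxP (c.x_notMem hd hrP hr) hw
          (mul_inv_eq_iff_eq_mul.1 (inv_mul_eq_one.1 e).symm))
    obtain ⟨k, hk, hkz⟩ := move z hzP hz1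
    have hz3 := sylow3_orderOf hd c.P hzP hz1
    have hne' : A ≠ fourOf z := by
      intro e
      obtain ⟨w', hw', hw'1⟩ : ∃ w' ∈ fourOf z, w' ≠ 1 := by
        by_contra hc
        push Not at hc
        have : fourOf z = ⊥ := eq_bot_iff.2 fun a ha => mem_bot.2 (hc a ha)
        have h4 := card_fourOf hd hz3
        rw [this, card_bot] at h4
        omega
      have hk' : k * z * k⁻¹ ∈ (c.P : Subgroup G) := conj_mem_of_normalizer (mem_inf.1 hk).2 hzP
      have hm : k * w' * k⁻¹ ∈ fourOf z := e ▸ hAn k hk w' (e.symm ▸ hw')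
      have := no_fix hd hzP hz1 hk' hkz hm
        (((mem_fourOf hd ((orderOf_conj k z).trans hz3)).1 (fourOf_conj hd hz3 hw')).2)
      exact hw'1 (by rwa [mul_inv_eq_one, mul_eq_left] at this)
    have h := card_cases hd hz3 (Q := A) (c.O_facts hd).1
      (hA.trans ((c.E_le_A hd hrP hr hrA).trans inf_le_left)) hzA (fun a ha => hP z hzP a ha)
    have h16 := card_le_of_le hA
    refine eq_of_le_of_card_ge hA ?_
    rcases h with h | h | h
    · exact absurd (eq_of_le_of_card_ge hzA (by rw [h, card_fourOf hd hz3])).symm hne'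
    all_goals omega
  · rw [← card_fourOf hd c.hx]
    exact card_le_of_le fun v hv => mem_inf.2 ⟨le_sup_left (b := fourOf r) hv,
      mem_cz.2 ((mem_fourOf hd c.hx).1 hv).2.eq.symm⟩

end Cfsg.Agent.M22Nse38
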