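import Cfsg.Agent.M22Nse38.Orbits

/-!
# The graph on 77 points
-/

set_option autoImplicit false

namespace Cfsg.Agent.M22Nse38

open Subgroup MulAction
open scoped Pointwise

variable {G : Type*} [Group G] [Finite G]

namespace Geo

variable (Γ : Geo G) (hd : Dat G)
include hd

local notation "X" => G ⧸ Γ.H

/-- Two points are adjacent when their common stabiliser has order 360. -/
def graph : SimpleGraph X where
  Adj a b := Nat.card ↥(stabilizer G a ⊓ stabilizer G b) = 360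
  symm := ⟨fun a b h => by rw [inf_comm]; exact h⟩
  loopless := ⟨fun a h => by rw [inf_idem, Γ.card_stab hd a] at h; omega⟩

theorem adj_iff {a b : X} : (Γ.graph hd).Adj a b ↔
    Nat.card ↥(stabilizer G a ⊓ stabilizer G b) = 360 := Iff.rfl

theorem adj_smul (g : G) {a b : X} : (Γ.graph hd).Adj (g • a) (g • b) ↔ (Γ.graph hd).Adj a b := by
  have h : Nat.card ↥(stabilizer G (g • a) ⊓ stabilizer G (g • b)) =
      Nat.card ↥(stabilizer G a ⊓ stabilizer G b) := by
    refine (Nat.card_congr ((MulAut.conj g).toEquiv.subtypeEquiv fun w => ?_)).symm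
    show _ ↔ g * w * g⁻¹ ∈ stabilizer G (g • a) ⊓ stabilizer G (g • b)
    rw [mem_inf, mem_inf, Γ.stab_smul hd, Γ.stab_smul hd, show g⁻¹ * (g * w * g⁻¹) * g = w by group]
  rw [adj_iff, adj_iff, h]

theorem adj_base {b : X} : (Γ.graph hd).Adj (base Γ.H) b ↔ b ∈ orbit Γ.H (Γ.p hd) := by
  rw [adj_iff, stab_base]
  constructor
  · intro h
    by_contra hb
    have hne : b ≠ base Γ.H := by
      rintro rfl
      rw [stab_base, inf_idem, Γ.hH] at h
      omega
    have hrest : Γ.Rest hd b := ⟨hne, hb⟩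
    have h2 := (Γ.stab_rest hd hrest).2
    rw [h, Γ.rest_transitive hd hrest] at h2
    omega
  · intro hb
    rw [Γ.card_inf_stab_orbit hb Γ.H (fun h hh k hk => mul_mem (mul_mem hh hk) (inv_mem hh))]
    exact Γ.card_L hd

theorem adj_base_iff_rest {b : X} (hb : b ≠ base Γ.H) :
    ¬ (Γ.graph hd).Adj (base Γ.H) b ↔ Γ.Rest hd b := by
  rw [Γ.adj_base hd]
  exact ⟨fun h => ⟨hb, h⟩, fun h => h.2⟩

/-- The number of common neighbours. -/
noncomputable def cn (a b : X) : ℕ := Nat.card ↥((Γ.graph hd).commonNeighbors a b)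

theorem cn_smul (g : G) (a b : X) : Γ.cn hd (g • a) (g • b) = Γ.cn hd a b := by
  refine (Nat.card_congr ((toPerm g : Equiv.Perm X).subtypeEquiv fun z => ?_)).symm
  show _ ↔ g • z ∈ (Γ.graph hd).commonNeighbors (g • a) (g • b)
  rw [SimpleGraph.mem_commonNeighbors, SimpleGraph.mem_commonNeighbors, Γ.adj_smul hd, Γ.adj_smul hd]

theorem adj_cases {a b : X} (h : (Γ.graph hd).Adj a b) :
    ∃ g : G, g • base Γ.H = a ∧ g • Γ.p hd = b := by
  induction a using QuotientGroup.induction_on with | _ g => ?_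
  have h' : (Γ.graph hd).Adj (base Γ.H) (g⁻¹ • b) := by
    rwa [← Γ.adj_smul hd g, smul_inv_smul, smul_base]
  obtain ⟨k, hk⟩ := (Γ.adj_base hd).1 h'
  refine ⟨g * (k : G), ?_, ?_⟩
  · rw [mul_smul, Γ.base_fix k.2, smul_base]
  · rw [mul_smul, show (k : G) • Γ.p hd = g⁻¹ • b from hk, smul_inv_smul]

theorem nonadj_cases {q : X} (hq : Γ.Rest hd q) {a b : X} (hne : a ≠ b)
    (h : ¬ (Γ.graph hd).Adj a b) : ∃ g : G, g • base Γ.H = a ∧ g • q = b := by
  induction a using QuotientGroup.induction_on with | _ g => ?_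
  have hbne : g⁻¹ • b ≠ base Γ.H := fun e => hne (by rw [inv_smul_eq_iff, smul_base] at e; exact e.symm)
  have h' : ¬ (Γ.graph hd).Adj (base Γ.H) (g⁻¹ • b) := by
    rwa [← Γ.adj_smul hd g, smul_inv_smul, smul_base]
  have hrest := (Γ.adj_base_iff_rest hd hbne).1 h'
  have hall : orbit Γ.H q = {z : X | Γ.Rest hd z} :=
    Set.eq_of_subset_of_ncard_le (Γ.orbit_rest hd hq) (by
      rw [← Nat.card_coe_set_eq, ← Nat.card_coe_set_eq, Γ.rest_transitive hd hq, Set.coe_setOf,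
        Γ.card_rest hd]) (Set.toFinite _)
  obtain ⟨k, hk⟩ : g⁻¹ • b ∈ orbit Γ.H q := hall.ge hrest
  refine ⟨g * (k : G), ?_, ?_⟩
  · rw [mul_smul, Γ.base_fix k.2, smul_base]
  · rw [mul_smul, show (k : G) • q = g⁻¹ • b from hk, smul_inv_smul]

/-- The stabiliser of the base and `p` moves any other neighbour of the base to any other. -/
theorem nbr_move {z z' : X} (hz : z ∈ orbit Γ.H (Γ.p hd)) (hz' : z' ∈ orbit Γ.H (Γ.p hd))
    (hzp : z ≠ Γ.p hd) (hzp' : z' ≠ Γ.p hd) :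
    ∃ k : G, k • base Γ.H = base Γ.H ∧ k • Γ.p hd = Γ.p hd ∧ k • z = z' := by
  rw [Γ.E_orbit hd] at hz hz'
  obtain ⟨⟨e, he⟩, rfl⟩ := hz
  obtain ⟨⟨e', he'⟩, rfl⟩ := hz'
  change e • Γ.p hd ≠ Γ.p hd at hzp
  change e' • Γ.p hd ≠ Γ.p hd at hzp'
  obtain ⟨k, hk, hke⟩ := Γ.trans e he e' he' (fun h => hzp (by rw [h, one_smul]))
    (fun h => hzp' (by rw [h, one_smul]))
  have hkp : k • Γ.p hd ∈ orbit Γ.E (Γ.p hd) := Γ.E_orbit hd ▸ ⟨⟨k, hk⟩, rfl⟩
  obtain ⟨⟨a, ha⟩, hka⟩ := hkp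
  change a • Γ.p hd = k • Γ.p hd at hka
  refine ⟨a⁻¹ * k, Γ.base_fix (mul_mem (inv_mem (Γ.hEH ha)) hk), ?_, ?_⟩
  · rw [mul_smul, ← hka, inv_smul_smul]
  · show (a⁻¹ * k) • (e • Γ.p hd) = e' • Γ.p hd
    have hc : a⁻¹ * k * e = e' * (a⁻¹ * k) := by
      rw [show a⁻¹ * k * e = a⁻¹ * (k * e * k⁻¹) * k by group, hke,
        Γ.comm _ (inv_mem ha) _ he', mul_assoc]
    rw [← mul_smul, hc, mul_smul, mul_smul, ← hka, inv_smul_smul]

theorem cn_adj {a b : X} (h : (Γ.graph hd).Adj a b) : Γ.cn hd a b = 0 := by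
  classical
  obtain ⟨g, rfl, rfl⟩ := Γ.adj_cases hd h
  rw [Γ.cn_smul hd]
  have := Fintype.ofFinite X
  set Gr := Γ.graph hd with hGr
  rw [cn, Nat.card_eq_zero]
  refine Or.inl ⟨fun ⟨z, hz⟩ => ?_⟩
  rw [SimpleGraph.mem_commonNeighbors] at hz
  have hzp : z ≠ Γ.p hd := hz.2.ne'
  have hzo : z ∈ orbit Γ.H (Γ.p hd) := (Γ.adj_base hd).1 hz.1
  have hall : ∀ z' : X, Gr.Adj (base Γ.H) z' → z' ≠ Γ.p hd → Gr.Adj (Γ.p hd) z' := by
    intro z' h1 h2
    obtain ⟨k, -, hk2, hk3⟩ := Γ.nbr_move hd hzo ((Γ.adj_base hd).1 h1) hzp h2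
    rw [← hk2, ← hk3]
    exact (Γ.adj_smul hd k).2 hz.2
  have hdeg : ∀ a : X, (Finset.univ.filter (Gr.Adj a)).card = 16 := by
    intro a
    induction a using QuotientGroup.induction_on with | _ g => ?_
    rw [← Fintype.card_subtype, ← Nat.card_eq_fintype_card, ← Γ.card_orbit_p hd]
    refine (Nat.card_congr ((toPerm g : Equiv.Perm X).subtypeEquiv fun b => ?_)).symm
    show _ ↔ Gr.Adj (g : X) (g • b)
    rw [← smul_base, hGr, Γ.adj_smul hd, Γ.adj_base hd]
  let N : X → Finset X := fun a => insert a (Finset.univ.filter (Gr.Adj a))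
  have hNc : ∀ a, (N a).card = 17 := fun a => by
    rw [Finset.card_insert_of_notMem (by simp), hdeg a]
  have hpb : Gr.Adj (Γ.p hd) (base Γ.H) := (((Γ.adj_base hd).2 (mem_orbit_self _))).symm
  have hN0 : N (base Γ.H) = N (Γ.p hd) := by
    refine Finset.eq_of_subset_of_card_le (fun w hw => ?_) (by rw [hNc, hNc])
    simp only [N, Finset.mem_insert, Finset.mem_filter, Finset.mem_univ, true_and] at hw ⊢
    rcases hw with rfl | hw
    · exact Or.inr hpb
    · exact (em _).imp_right (hall w hw)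
  have hNmem : ∀ (g : G) (a w : X), w ∈ N (g • a) ↔ g⁻¹ • w ∈ N a := fun g a w => by
    simp only [N, Finset.mem_insert, Finset.mem_filter, Finset.mem_univ, true_and, inv_smul_eq_iff]
    conv_lhs => rw [← smul_inv_smul g w, hGr, Γ.adj_smul hd, smul_inv_smul]
  have hNeq : ∀ a b : X, b ∈ N a → N b = N a := by
    intro a b hb
    simp only [N, Finset.mem_insert, Finset.mem_filter, Finset.mem_univ, true_and] at hb
    rcases hb with rfl | hb
    · rfl
    · obtain ⟨g, rfl, rfl⟩ := Γ.adj_cases hd hb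
      ext w
      rw [hNmem, hNmem, hN0]
  have hfib : ∀ a : X, (Finset.univ.filter fun b => N b = N a) = N a := by
    intro a
    ext b
    simp only [Finset.mem_filter, Finset.mem_univ, true_and]
    exact ⟨fun e => e ▸ Finset.mem_insert_self _ _, hNeq a b⟩
  have h17 : (17 : ℕ) ∣ Fintype.card X := by
    rw [← Finset.card_univ, Finset.card_eq_sum_card_fiberwise (f := N) (t := Finset.univ.image N)
      (fun a _ => Finset.mem_image_of_mem N (Finset.mem_univ a))]
    refine Finset.dvd_sum fun S hS => ?_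
    obtain ⟨a, -, rfl⟩ := Finset.mem_image.1 hS
    rw [hfib, hNc]
  rw [← Nat.card_eq_fintype_card, Γ.card_X hd] at h17
  norm_num at h17

theorem isSRG [Fintype X] [DecidableEq X] [DecidableRel (Γ.graph hd).Adj] :
    (Γ.graph hd).IsSRGWith 77 16 0 4 := by
  classical
  obtain ⟨q, hq⟩ : ∃ q, Γ.Rest hd q := by
    have h := Γ.card_rest hd
    by_contra hc
    push Not at hc
    have : IsEmpty {q : X // Γ.Rest hd q} := ⟨fun q => hc _ q.2⟩
    rw [Nat.card_of_isEmpty] at h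
    omega
  have hSRG : (Γ.graph hd).IsSRGWith 77 16 0 (Γ.cn hd (base Γ.H) q) := by
    refine ⟨by rw [← Nat.card_eq_fintype_card, Γ.card_X hd], fun a => ?_, fun a b h => ?_,
      fun a b hne h => ?_⟩
    · induction a using QuotientGroup.induction_on with | _ g => ?_
      rw [← SimpleGraph.card_neighborSet_eq_degree, ← Nat.card_eq_fintype_card, ← Γ.card_orbit_p hd]
      refine (Nat.card_congr ((toPerm g : Equiv.Perm X).subtypeEquiv fun b => ?_)).symm
      show _ ↔ (Γ.graph hd).Adj (g : X) (g • b)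
      rw [← smul_base, Γ.adj_smul hd, Γ.adj_base hd]
    · rw [← Nat.card_eq_fintype_card]
      exact Γ.cn_adj hd h
    · obtain ⟨g, rfl, rfl⟩ := Γ.nonadj_cases hd hq hne h
      rw [← Nat.card_eq_fintype_card]
      exact Γ.cn_smul hd g _ _
  have h := hSRG.param_eq _ (by omega)
  rwa [show Γ.cn hd (base Γ.H) q = 4 by omega] at hSRG

end Geo

end Cfsg.Agent.M22Nse38
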