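import Cfsg.Agent.M22Nse38.Graph
import Cfsg.Agent.Lib.Steiner.SRG77.Main
import Cfsg.Agent.Lib.Steiner.AutWitt22

/-!
# Embedding in the automorphism group of the Steiner system
-/

set_option autoImplicit false

namespace Cfsg.Agent.M22Nse38

open Subgroup MulAction Cfsg.Agent.Steiner
open scoped Pointwise

local instance : Fact (Nat.Prime 5) := ⟨Nat.prime_five⟩

variable {G : Type*} [Group G] [Finite G]

namespace Geo

variable (Γ : Geo G) (hd : Dat G)
include hd

local notation "X" => G ⧸ Γ.H

/-- The action on the 77 points is faithful. -/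
theorem faithful (g : G) (hg : ∀ a : X, g • a = a) : g = 1 := by
  by_contra hne
  set K := (toPermHom G X).ker with hK
  have hgK : g ∈ K := MonoidHom.mem_ker.2 (Equiv.ext hg)
  have hKH : K ≤ Γ.H := by
    intro k hk
    rw [← stab_base Γ.H, mem_stabilizer_iff]
    exact (Equiv.congr_fun (MonoidHom.mem_ker.1 hk) (base Γ.H) :)
  obtain ⟨l, hl, hdvd⟩ := Nat.exists_prime_and_dvd (fun e : orderOf g = 1 => hne (orderOf_eq_one_iff.1 e))
  have hk : g ^ (orderOf g / l) ∈ K := pow_mem hgK _
  have hkl : orderOf (g ^ (orderOf g / l)) = l := by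
    have hpos := orderOf_pos g
    rw [orderOf_pow' g (Nat.div_pos (Nat.le_of_dvd hpos hdvd) hl.pos).ne',
      Nat.gcd_eq_right (Nat.div_dvd_of_dvd hdvd), Nat.div_div_self hdvd hpos.ne']
  generalize g ^ (orderOf g / l) = k at hk hkl
  have hl' : l = 2 ∨ l = 3 ∨ l = 5 ∨ l = 7 ∨ l = 11 := by
    have hs := hd.spec k
    rw [hkl] at hs
    simp only [List.mem_cons, List.not_mem_nil, or_false] at hs
    rcases hs with e | e | e | e | e | e | e | e | e <;> subst e <;> norm_num at hl <;> norm_num
  have hbound : ∀ n : ℕ, (∀ w : G, orderOf w = n → w ∈ K) → sn G n ≤ 5760 := by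
    intro n hn
    rw [← Γ.hH]
    exact Nat.card_le_card_of_injective (fun w : {w : G // orderOf w = n} => (⟨w.1, hKH (hn _ w.2)⟩ : Γ.H))
      (fun a b e => Subtype.ext (congrArg Subtype.val e :))
  have hnor : K.Normal := MonoidHom.normal_ker _
  rcases hl' with rfl | rfl | rfl | rfl | rfl
  · have h := hbound 2 fun w hw => by
      obtain ⟨c, rfl⟩ := conj_two hd hkl hw
      exact hnor.conj_mem k hk c
    -- an involution of `E` would fix `p`
    obtain ⟨⟨e, he⟩, he2⟩ := exists_prime_orderOf_dvd_card' (G := Γ.E) 2 (by rw [Γ.hE]; norm_num)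
    have he' : orderOf e = 2 := by rw [← he2]; exact Subgroup.orderOf_coe (⟨e, he⟩ : Γ.E)
    obtain ⟨c, hc⟩ := conj_two hd hkl he'
    have heK : e ∈ K := hc ▸ hnor.conj_mem k hk c
    have hep : e ∈ Γ.E ⊓ stabilizer G (Γ.p hd) :=
      mem_inf.2 ⟨he, (Equiv.congr_fun (MonoidHom.mem_ker.1 heK) (Γ.p hd) :)⟩
    rw [Γ.E_inf_p hd, mem_bot] at hep
    rw [hep, orderOf_one] at he'
    omega
  · have h := hbound 3 fun w hw => by
      obtain ⟨c, rfl⟩ := conj_three hd hkl hw
      exact hnor.conj_mem k hk c
    rw [hd.s3] at h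
    omega
  · have h := hbound 5 fun w hw => by
      obtain ⟨Q, hkQ⟩ := SmallGroups.exists_mem_sylow (p := 5) hkl
      obtain ⟨Q', hwQ⟩ := SmallGroups.exists_mem_sylow (p := 5) hw
      have hQK : (Q : Subgroup G) ≤ K := by
        rw [← SmallGroups.zpowers_eq_of_card_prime (card_sylow5 hd Q).1 hkQ
          (fun e => by rw [e, orderOf_one] at hkl; omega)]
        exact zpowers_le.2 hk
      obtain ⟨c, rfl⟩ := exists_smul_eq G Q Q'
      rw [Sylow.coe_subgroup_smul, mem_pointwise_smul_iff_inv_smul_mem] at hwQ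
      have hw' : c⁻¹ * w * c⁻¹⁻¹ ∈ K := hQK (by simpa [MulAut.smul_def, mul_assoc] using hwQ)
      simpa [mul_assoc] using hnor.conj_mem _ hw' c
    rw [hd.s5] at h
    omega
  all_goals
    have h := orderOf_dvd_natCard (⟨k, hKH hk⟩ : Γ.H)
    rw [← Subgroup.orderOf_coe, hkl, Γ.hH] at h
    norm_num at h

end Geo

/-- An embedding in the automorphisms of the model system. -/
theorem exists_embedding (hd : Dat G) :
    ∃ f : G →* Cfsg.setSystemAut (decSet 22 autModel22), Function.Injective f := by
  classical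
  obtain ⟨Γ⟩ := exists_geo hd
  have := Fintype.ofFinite (G ⧸ Γ.H)
  have hG := Γ.isSRG hd
  set Gr := Γ.graph hd with hGr
  let act : G → SRG77.Pt Gr → SRG77.Pt Gr := fun g C => ⟨C.1.image (g • ·), by
    obtain ⟨h1, h2⟩ := SRG77.mem_cocliques.1 C.2
    refine SRG77.mem_cocliques.2 ⟨by rw [Finset.card_image_of_injective _ (MulAction.injective g), h1], ?_⟩
    simp only [Finset.mem_image]
    rintro _ ⟨a, ha, rfl⟩ _ ⟨b, hb, rfl⟩
    exact fun h => h2 a ha b hb ((Γ.adj_smul hd g).1 h)⟩
  let inst : MulAction G (SRG77.Pt Gr) :=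
    { smul := act
      one_smul := fun C => Subtype.ext (by
        show C.1.image ((1 : G) • ·) = C.1
        simp only [one_smul, Finset.image_id'])
      mul_smul := fun g h C => Subtype.ext (by
        show C.1.image ((g * h) • ·) = (C.1.image (h • ·)).image (g • ·)
        rw [Finset.image_image]
        exact Finset.image_congr fun a _ => mul_smul g h a) }
  have hblk : ∀ (g : G) (u : G ⧸ Γ.H),
      (SRG77.blk Gr u).image (toPerm g : Equiv.Perm (SRG77.Pt Gr)) = SRG77.blk Gr (g • u) := by
    intro g u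
    ext C
    obtain ⟨D, rfl⟩ := (toPerm g : Equiv.Perm (SRG77.Pt Gr)).surjective C
    rw [(toPerm g : Equiv.Perm (SRG77.Pt Gr)).injective.mem_finset_image, SRG77.mem_blk, SRG77.mem_blk]
    show _ ↔ g • u ∈ D.1.image (g • ·)
    rw [(MulAction.injective g).mem_finset_image]
  have hmem : ∀ g : G, toPermHom G (SRG77.Pt Gr) g ∈ Cfsg.setSystemAut (Set.range (SRG77.blk Gr)) := by
    intro g
    rw [mem_setSystemAut, ← Set.range_comp,
      show ((fun b => Finset.image (toPermHom G (SRG77.Pt Gr) g) b) ∘ SRG77.blk Gr) =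
        SRG77.blk Gr ∘ (toPerm g : Equiv.Perm (G ⧸ Γ.H)) from funext (hblk g)]
    exact EquivLike.range_comp _ _
  obtain ⟨e, F, -⟩ := exists_equiv_model22 (SRG77.card_pt hG) (SRG77.steiner hG)
  refine ⟨F.toMonoidHom.comp ((toPermHom G (SRG77.Pt Gr)).codRestrict _ hmem), ?_⟩
  refine (injective_iff_map_eq_one _).2 fun g hg => Γ.faithful hd g fun u => ?_
  have h1 : toPermHom G (SRG77.Pt Gr) g = 1 := congrArg Subtype.val ((map_eq_one_iff F F.injective).1 hg)
  refine SRG77.blk_injective hG ?_
  rw [← hblk, show (toPerm g : Equiv.Perm (SRG77.Pt Gr)) = 1 from h1, Equiv.Perm.coe_one, Finset.image_id]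

/-- Two such groups are isomorphic. -/
theorem unique {G' : Type*} [Group G'] [Finite G'] (hd : Dat G) (hd' : Dat G') :
    Nonempty (G ≃* G') := by
  classical
  obtain ⟨f, hf⟩ := exists_embedding hd
  obtain ⟨f', hf'⟩ := exists_embedding hd'
  have := Fintype.ofFinite G
  have hidx : f'.range.index = 2 := by
    have h := f'.range.index_mul_card
    rw [← Nat.card_congr (MonoidHom.ofInjective hf').toEquiv, hd'.card, card_aut22] at h
    omega
  have hnor : f'.range.Normal := normal_of_index_eq_two hidx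
  set K := f'.range.comap f with hK
  have hodd : ∀ w : G, Odd (orderOf w) → w ∈ K := by
    intro w hw
    have h : QuotientGroup.mk' f'.range (f w) = 1 := by
      have h1 : orderOf (QuotientGroup.mk' f'.range (f w)) ∣ 2 := by
        have h1 := orderOf_dvd_natCard (QuotientGroup.mk' f'.range (f w))
        rwa [← index_eq_card, hidx] at h1
      have h2 : orderOf (QuotientGroup.mk' f'.range (f w)) ∣ orderOf w :=
        (orderOf_map_dvd _ (f w)).trans (orderOf_map_dvd f w)
      exact orderOf_eq_one_iff.1 (Nat.dvd_one.1 (hw.coprime_two_left.symm.gcd_eq_one ▸ Nat.dvd_gcd h2 h1))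
    exact (QuotientGroup.eq_one_iff (f w)).1 h
  have htop : K = ⊤ := by
    apply eq_top_of_card_eq
    have h1 : sn G 3 + sn G 5 + sn G 7 ≤ Nat.card K := by
      simp only [sn, Nat.card_eq_fintype_card, Fintype.card_subtype]
      rw [← Finset.card_union_of_disjoint, ← Finset.card_union_of_disjoint]
      · refine Finset.card_le_card fun w hw => ?_
        simp only [Finset.mem_union, Finset.mem_filter, Finset.mem_univ, true_and] at hw ⊢
        refine hodd w ?_
        rcases hw with (e | e) | e <;> rw [e] <;> decide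
      all_goals
        rw [Finset.disjoint_left]
        intro w hw hw'
        simp only [Finset.mem_union, Finset.mem_filter, Finset.mem_univ, true_and] at hw hw'
        omega
    rw [hd.s3, hd.s5, hd.s7] at h1
    have h2 := K.index_mul_card
    have h3 : 0 < Nat.card K := Nat.card_pos
    rw [hd.card] at h2 ⊢
    rcases Nat.lt_or_ge K.index 2 with h | h
    · interval_cases hi : K.index <;> omega
    · have := Nat.mul_le_mul h h1
      omega
  have hle : f.range ≤ f'.range := by
    rintro _ ⟨w, rfl⟩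
    exact mem_comap.1 (htop ▸ mem_top w : w ∈ K)
  have heq : f.range = f'.range := eq_of_le_of_card_ge hle (by
    rw [← Nat.card_congr (MonoidHom.ofInjective hf).toEquiv,
      ← Nat.card_congr (MonoidHom.ofInjective hf').toEquiv, hd.card, hd'.card])
  exact ⟨((MonoidHom.ofInjective hf).trans (MulEquiv.subgroupCongr heq)).trans
    (MonoidHom.ofInjective hf').symm⟩

end Cfsg.Agent.M22Nse38
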