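import Cfsg.Agent.M22Nse38.Rank

/-!
# The stabiliser is transitive on the remaining 60 points
-/

set_option autoImplicit false

namespace Cfsg.Agent.M22Nse38

open Subgroup MulAction
open scoped Pointwise

local instance : Fact (Nat.Prime 3) := ⟨Nat.prime_three⟩
local instance : Fact (Nat.Prime 5) := ⟨Nat.prime_five⟩
local instance : Fact (Nat.Prime 2) := ⟨Nat.prime_two⟩

variable {G : Type*} [Group G] [Finite G]

namespace Geo

variable (Γ : Geo G) (hd : Dat G)
include hd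

local notation "X" => G ⧸ Γ.H

theorem card_sylow5 (Q : Sylow 5 G) : Nat.card (Q : Subgroup G) = 5 ∧
    Nat.card (normalizer ((Q : Subgroup G) : Set G)) = 20 := by
  have h5 : ∀ Q : Sylow 5 G, Nat.card (Q : Subgroup G) = 5 := fun Q => by
    rw [Q.card_eq_multiplicity, hd.card, show (443520 : ℕ) = 5 ^ 1 * 88704 from by norm_num,
      Nat.factorization_mul (by norm_num) (by norm_num), Finsupp.add_apply,
      Nat.Prime.factorization_pow Nat.prime_five, Finsupp.single_eq_same,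
      Nat.factorization_eq_zero_of_not_dvd (by norm_num)]
    norm_num
  refine ⟨h5 Q, ?_⟩
  have h := SmallGroups.card_orderOf_eq h5
  rw [← sn, hd.s5] at h
  have h2 := (normalizer ((Q : Subgroup G) : Set G)).index_mul_card
  rw [hd.card, show (normalizer ((Q : Subgroup G) : Set G)).index = Nat.card (Sylow 5 G) from
    (Sylow.card_eq_index_normalizer Q).symm, show Nat.card (Sylow 5 G) = 22176 by omega] at h2
  omega

/-- A Sylow subgroup fixing only the base and `p`: conjugates inside `H` fix no further point. -/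
theorem mem_orbit_of_sylow {l : ℕ} [Fact l.Prime] (Q : Sylow l G) (hQ : (Q : Subgroup G) ≤ Γ.H)
    (h2 : ∀ a : X, (Q : Subgroup G) ≤ stabilizer G a → a = base Γ.H ∨ a = Γ.p hd)
    (Q' : Sylow l G) {q : X} (hQ' : (Q' : Subgroup G) ≤ Γ.H ⊓ stabilizer G q) :
    q = base Γ.H ∨ q ∈ orbit Γ.H (Γ.p hd) := by
  have hQ'H := hQ'.trans inf_le_left
  obtain ⟨h, hh⟩ := exists_smul_eq Γ.H (Q.subtype hQ) (Q'.subtype hQ'H)
  rw [Sylow.smul_subtype] at hh
  have he : (h : G) • Q = Q' := Sylow.subtype_injective hh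
  have hfix : (Q : Subgroup G) ≤ stabilizer G ((h : G)⁻¹ • q) := by
    intro a ha
    rw [Γ.stab_smul hd, inv_inv]
    refine (mem_inf.1 (hQ' ?_)).2
    rw [← he, Sylow.coe_subgroup_smul, mem_pointwise_smul_iff_inv_smul_mem]
    simpa [MulAut.smul_def, mul_assoc] using ha
  rcases h2 _ hfix with e | e
  · refine Or.inl ?_
    rw [inv_smul_eq_iff] at e
    rw [e]; exact Γ.base_fix h.2
  · refine Or.inr ⟨h, ?_⟩
    rw [inv_smul_eq_iff] at e
    exact e.symm

theorem exists_five : ∃ Q : Sylow 5 G, (Q : Subgroup G) ≤ Γ.L hd ∧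
    ∀ a : X, (Q : Subgroup G) ≤ stabilizer G a → a = base Γ.H ∨ a = Γ.p hd := by
  obtain ⟨⟨y, hyL⟩, hy⟩ := exists_prime_orderOf_dvd_card' (G := Γ.L hd) 5
    (by rw [Γ.card_L hd]; norm_num)
  have hy5 : orderOf y = 5 := by rw [← hy]; exact Subgroup.orderOf_coe (⟨y, hyL⟩ : Γ.L hd)
  obtain ⟨Q, hyQ⟩ := SmallGroups.exists_mem_sylow (p := 5) hy5
  obtain ⟨hQc, hN⟩ := card_sylow5 hd Q
  have hQ : (Q : Subgroup G) = zpowers y := (SmallGroups.zpowers_eq_of_card_prime hQc hyQ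
    (fun e => by rw [e, orderOf_one] at hy5; omega)).symm
  have hQL : (Q : Subgroup G) ≤ Γ.L hd := hQ ▸ zpowers_le.2 hyL
  have hQH : (Q : Subgroup G) ≤ Γ.H := hQL.trans inf_le_left
  have hM : Nat.card ↥(Γ.H ⊓ normalizer ((Q : Subgroup G) : Set G)) = 10 := by
    set NQ := Γ.H ⊓ normalizer ((Q : Subgroup G) : Set G)
    set Qv := Q.subtype hQH
    have h1 := (normalizer ((Qv : Subgroup Γ.H) : Set Γ.H)).index_mul_card
    have hN' : Nat.card (normalizer ((Qv : Subgroup Γ.H) : Set Γ.H)) = Nat.card NQ := by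
      rw [← Nat.card_congr (subgroupOfEquivOfLe (inf_le_left : NQ ≤ Γ.H)).toEquiv]
      refine congrArg (fun K : Subgroup Γ.H => Nat.card K) ?_
      rw [Sylow.coe_subtype, ← subgroupOf_normalizer_eq hQH, inf_subgroupOf_left]
    rw [hN', show (normalizer ((Qv : Subgroup Γ.H) : Set Γ.H)).index = Nat.card (Sylow 5 Γ.H) from
      (Sylow.card_eq_index_normalizer Qv).symm, Γ.hH] at h1
    have hmod := card_sylow_modEq_one 5 Γ.H
    have h20 : Nat.card NQ ∣ 20 := hN ▸ card_dvd_of_le inf_le_right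
    obtain ⟨m, hm⟩ : 5 ∣ Nat.card NQ := hQc ▸ card_dvd_of_le (le_inf hQH le_normalizer)
    have hm4 : m ∣ 4 := Nat.dvd_of_mul_dvd_mul_left (by norm_num : 0 < 5) (hm ▸ h20)
    have := Nat.le_of_dvd (by norm_num) hm4
    rw [hm] at h1 ⊢
    rw [Nat.ModEq] at hmod
    interval_cases m <;> omega
  refine ⟨Q, hQL, fun a ha => ?_⟩
  have h2 := two_fixed Γ.H Q hQH (by rw [hN, hM])
  obtain ⟨u, v, huv, huniv⟩ := Nat.card_eq_two_iff.1 h2
  have hmem : ∀ z : {a : X // (Q : Subgroup G) ≤ stabilizer G a}, z = u ∨ z = v := fun z => by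
    have : z ∈ ({u, v} : Set _) := huniv.ge (Set.mem_univ z)
    simpa using this
  have hb : (Q : Subgroup G) ≤ stabilizer G (base Γ.H) := by rw [stab_base]; exact hQH
  have hne : (⟨base Γ.H, hb⟩ : {a : X // (Q : Subgroup G) ≤ stabilizer G a}) ≠
      ⟨Γ.p hd, hQL.trans inf_le_right⟩ := fun e => Γ.p_ne hd (congrArg Subtype.val e).symm
  rcases hmem ⟨base Γ.H, hb⟩ with e1 | e1 <;> rcases hmem ⟨Γ.p hd, hQL.trans inf_le_right⟩ with e2 | e2 <;>
    rcases hmem ⟨a, ha⟩ with e3 | e3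
  all_goals first
    | exact absurd (e1.trans e2.symm) hne
    | exact Or.inl (congrArg Subtype.val (e3.trans e1.symm))
    | exact Or.inr (congrArg Subtype.val (e3.trans e2.symm))

/-- The remaining points. -/
def Rest (q : X) : Prop := q ≠ base Γ.H ∧ q ∉ orbit Γ.H (Γ.p hd)

theorem stab_rest {q : X} (hq : Γ.Rest hd q) :
    Nat.card ↥(Γ.H ⊓ stabilizer G q) ∣ 384 ∧
      (Nat.card (orbit Γ.H q) * Nat.card ↥(Γ.H ⊓ stabilizer G q) = 5760) := by
  set K := Γ.H ⊓ stabilizer G q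
  refine ⟨?_, Γ.hH ▸ card_orbit_stab Γ.H q Γ.H⟩
  have h5760 : Nat.card K ∣ 384 * 3 * 5 := by
    rw [show 384 * 3 * 5 = 5760 by norm_num, ← Γ.hH]
    exact card_dvd_of_le inf_le_left
  have h5 : ¬ 5 ∣ Nat.card K := by
    intro h
    obtain ⟨⟨w, hwK⟩, hw⟩ := exists_prime_orderOf_dvd_card' (G := K) 5 h
    have hw5 : orderOf w = 5 := by rw [← hw]; exact Subgroup.orderOf_coe (⟨w, hwK⟩ : K)
    obtain ⟨Q', hwQ⟩ := SmallGroups.exists_mem_sylow (p := 5) hw5
    have hQ' : (Q' : Subgroup G) = zpowers w := (SmallGroups.zpowers_eq_of_card_prime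
      (card_sylow5 hd Q').1 hwQ (fun e => by rw [e, orderOf_one] at hw5; omega)).symm
    obtain ⟨Q, hQ, h2⟩ := Γ.exists_five hd
    rcases Γ.mem_orbit_of_sylow hd Q (hQ.trans inf_le_left) h2 Q' (hQ' ▸ zpowers_le.2 hwK) with e | e
    exacts [hq.1 e, hq.2 e]
  have h9 : ¬ 9 ∣ Nat.card K := by
    intro h
    obtain ⟨T⟩ : Nonempty (Sylow 3 K) := inferInstance
    have hc : Nat.card ((T : Subgroup K).map K.subtype) = 9 := by
      rw [card_map_of_injective K.subtype_injective]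
      have h3 : 3 ^ 2 ∣ Nat.card (T : Subgroup K) := T.pow_dvd_card_of_pow_dvd_card (by norm_num; exact h)
      obtain ⟨i, hi⟩ := T.2.exists_card_eq
      have h4 : 3 ^ i ∣ 3 ^ 2 * 640 := by
        rw [← hi, show (3 : ℕ) ^ 2 * 640 = 5760 by norm_num, ← Γ.hH]
        exact (card_subgroup_dvd_card _).trans (card_dvd_of_le inf_le_left)
      have h5' : 3 ^ i ∣ 3 ^ 2 := (Nat.Coprime.pow_left i (by norm_num)).dvd_of_dvd_mul_right h4
      rw [hi] at h3 ⊢
      exact (Nat.dvd_antisymm h5' h3).trans (by norm_num)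
    let T' : Sylow 3 G := Sylow.ofCard ((T : Subgroup K).map K.subtype) (by
      rw [hc, ← card_sylow3 hd Γ.P, ← Γ.P.card_eq_multiplicity])
    rcases Γ.mem_orbit_of_sylow hd Γ.P Γ.hPH (Γ.p_unique hd) T' (map_subtype_le _) with e | e
    exacts [hq.1 e, hq.2 e]
  have h' : Nat.card K ∣ 384 * 3 :=
    ((Nat.Prime.coprime_iff_not_dvd Nat.prime_five).2 h5).symm.dvd_of_dvd_mul_right h5760
  obtain ⟨a, b, ha, hb, hab⟩ := exists_dvd_and_dvd_of_dvd_mul
    (show Nat.card K ∣ 2 ^ 7 * 3 ^ 2 by norm_num at h' ⊢; exact h')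
  obtain ⟨j, hj, rfl⟩ := (Nat.dvd_prime_pow Nat.prime_three).1 hb
  interval_cases j
  · exact hab ▸ (mul_one a).symm ▸ ha.trans (by norm_num)
  · exact hab ▸ (Nat.mul_dvd_mul_right ha 3).trans (by norm_num)
  · exact absurd (hab ▸ dvd_mul_left 9 a) h9

theorem card_rest : Nat.card {q : X // Γ.Rest hd q} = 60 := by
  classical
  have e : {q : X | Γ.Rest hd q} = (insert (base Γ.H) (orbit Γ.H (Γ.p hd)))ᶜ := by
    ext q; simp [Rest, not_or]
  show Nat.card {q : X | Γ.Rest hd q} = 60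
  rw [e, Nat.card_coe_set_eq, Set.ncard_compl, Γ.card_X hd, Set.ncard_insert_of_notMem
    (fun h => Γ.orbit_ne_base le_rfl (Γ.p_ne hd) h rfl), ← Nat.card_coe_set_eq, Γ.card_orbit_p hd]

theorem orbit_rest {q : X} (hq : Γ.Rest hd q) : orbit Γ.H q ⊆ {q : X | Γ.Rest hd q} := by
  intro a ha
  refine ⟨Γ.orbit_ne_base le_rfl hq.1 ha, fun h => hq.2 ?_⟩
  rw [← orbit_eq_iff.2 h, orbit_eq_iff.2 ha]
  exact mem_orbit_self q

omit hd in
theorem card_inf_stab_orbit {a b : X} (hb : b ∈ orbit Γ.H a) (K : Subgroup G)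
    (hK : ∀ h ∈ Γ.H, ∀ k ∈ K, h * k * h⁻¹ ∈ K) :
    Nat.card ↥(K ⊓ stabilizer G b) = Nat.card ↥(K ⊓ stabilizer G a) := by
  obtain ⟨h, rfl⟩ := hb
  refine (Nat.card_congr ((MulAut.conj (h : G)).toEquiv.subtypeEquiv fun w => ?_)).symm
  show _ ↔ (h : G) * w * (h : G)⁻¹ ∈ K ⊓ stabilizer G ((h : G) • a)
  rw [mem_inf, mem_inf, mem_stabilizer_iff, mem_stabilizer_iff]
  constructor
  · rintro ⟨h1, h2⟩
    exact ⟨hK _ h.2 _ h1, by rw [mul_smul, mul_smul, inv_smul_smul, h2]⟩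
  · rintro ⟨h1, h2⟩
    refine ⟨?_, smul_left_cancel (h : G) ?_⟩
    · have := hK _ (inv_mem h.2) _ h1
      rwa [show (h : G)⁻¹ * ((h : G) * w * (h : G)⁻¹) * (h : G)⁻¹⁻¹ = w by group] at this
    · rwa [mul_smul, mul_smul, inv_smul_smul] at h2

/-- The number of fixed points. -/
noncomputable def fx (g : G) : ℕ := Nat.card {a : X // g ∈ stabilizer G a}

omit hd in
theorem fx_conj (c g : G) : Γ.fx (c * g * c⁻¹) = Γ.fx g := by
  refine (Nat.card_congr ((toPerm c : Equiv.Perm X).subtypeEquiv fun a => ?_)).symm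
  show _ ↔ c * g * c⁻¹ ∈ stabilizer G (c • a)
  rw [mem_stabilizer_iff, mem_stabilizer_iff, mul_smul, mul_smul, inv_smul_smul, smul_left_cancel_iff]

theorem fx_three {g : G} (hg : orderOf g = 3) : 5 ≤ Γ.fx g := by
  obtain ⟨c, rfl⟩ := conj_three hd Γ.hx hg
  rw [Γ.fx_conj]
  let S : Set X := insert (base Γ.H) ((fun e => e • Γ.p hd) '' ((Γ.E ⊓ cz Γ.x : Subgroup G) : Set G))
  have hsub : S ⊆ {a : X | Γ.x ∈ stabilizer G a} := by
    rintro a (rfl | ⟨e, he, rfl⟩)
    · show Γ.x ∈ stabilizer G (base Γ.H)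
      rw [stab_base]; exact Γ.hPH Γ.hxP
    · show Γ.x ∈ stabilizer G (e • Γ.p hd)
      rw [Γ.stab_smul hd]
      have hc : Commute e Γ.x := mem_cz.1 (mem_inf.1 he).2
      rw [mul_assoc, ← hc.eq, inv_mul_cancel_left]
      exact Γ.P_p hd Γ.hxP
  have hinj : Set.InjOn (fun e => e • Γ.p hd) ((Γ.E ⊓ cz Γ.x : Subgroup G) : Set G) := by
    intro a ha b hb e
    have h : a⁻¹ * b ∈ Γ.E ⊓ stabilizer G (Γ.p hd) :=
      mem_inf.2 ⟨mul_mem (inv_mem (mem_inf.1 ha).1) (mem_inf.1 hb).1, by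
        rw [mem_stabilizer_iff, mul_smul, inv_smul_eq_iff]; exact e.symm⟩
    rw [Γ.E_inf_p hd, mem_bot, inv_mul_eq_one] at h
    exact h
  have hS : 5 ≤ S.ncard := by
    rw [Set.ncard_insert_of_notMem ?_, Set.ncard_image_of_injOn hinj, ← Nat.card_coe_set_eq]
    · exact Nat.add_le_add_right Γ.hxE 1
    · rintro ⟨e, he, h⟩
      exact Γ.p_ne hd (smul_left_cancel e (h.trans (Γ.base_fix (Γ.hEH (mem_inf.1 he).1)).symm))
  refine hS.trans ((Set.ncard_le_ncard hsub (Set.toFinite _)).trans ?_)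
  rw [← Nat.card_coe_set_eq]
  exact le_rfl

theorem fx_five {g : G} (hg : orderOf g = 5) : 2 ≤ Γ.fx g := by
  obtain ⟨Q, hQ, -⟩ := Γ.exists_five hd
  obtain ⟨Q', hgQ⟩ := SmallGroups.exists_mem_sylow (p := 5) hg
  obtain ⟨c, rfl⟩ := exists_smul_eq G Q Q'
  rw [Sylow.coe_subgroup_smul, mem_pointwise_smul_iff_inv_smul_mem] at hgQ
  have hgQ' : c⁻¹ * g * c⁻¹⁻¹ ∈ (Q : Subgroup G) := by simpa [MulAut.smul_def, mul_assoc] using hgQ
  rw [← Γ.fx_conj c⁻¹ g]
  let S : Set X := {base Γ.H, Γ.p hd}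
  have hsub : S ⊆ {a : X | c⁻¹ * g * c⁻¹⁻¹ ∈ stabilizer G a} := by
    rintro a (rfl | rfl)
    · show _ ∈ stabilizer G (base Γ.H)
      rw [stab_base]; exact (mem_inf.1 (hQ hgQ')).1
    · exact (mem_inf.1 (hQ hgQ')).2
  refine le_of_eq_of_le (Set.ncard_pair (Γ.p_ne hd).symm).symm
    ((Set.ncard_le_ncard hsub (Set.toFinite _)).trans ?_)
  rw [← Nat.card_coe_set_eq]
  exact le_rfl

theorem fx_big {g : G} (hg : orderOf g = 7 ∨ orderOf g = 11) : Γ.fx g = 0 := by
  rw [fx, Nat.card_eq_zero]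
  refine Or.inl ⟨fun a => ?_⟩
  have h := orderOf_dvd_natCard (⟨g, a.2⟩ : stabilizer G a.1)
  rw [← Subgroup.orderOf_coe, Γ.card_stab hd] at h
  rcases hg with e | e <;> rw [e] at h <;> norm_num at h

theorem e_bound {q : X} (hq : Γ.Rest hd q)
    (h96 : Nat.card ↥(Γ.H ⊓ stabilizer G q) ≠ 96) :
    (Nat.card ↥(Γ.H ⊓ stabilizer G q) = 192 ∧ 8 ≤ Nat.card ↥(Γ.E ⊓ stabilizer G q)) ∨
    ((Nat.card ↥(Γ.H ⊓ stabilizer G q) = 384 ∨ Nat.card ↥(Γ.H ⊓ stabilizer G q) = 128) ∧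
      16 ≤ Nat.card ↥(Γ.E ⊓ stabilizer G q)) := by
  set K := Γ.H ⊓ stabilizer G q
  obtain ⟨hdv, horb⟩ := Γ.stab_rest hd hq
  have hle60 : Nat.card (orbit Γ.H q) ≤ 60 := by
    rw [← Γ.card_rest hd]
    exact Nat.card_mono (Set.toFinite _) (Γ.orbit_rest hd hq)
  have he : Γ.E ⊓ K = Γ.E ⊓ stabilizer G q := by
    rw [← inf_assoc, inf_eq_left.2 Γ.hEH]
  obtain ⟨hq1, hq2⟩ := Γ.dvd_of_inf_E hd (inf_le_left : K ≤ Γ.H)
  rw [he] at hq1 hq2
  obtain ⟨i, hi, hie⟩ := (Nat.dvd_prime_pow Nat.prime_two).1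
    (show Nat.card ↥(Γ.E ⊓ stabilizer G q) ∣ 2 ^ 4 by
      rw [show (2 : ℕ) ^ 4 = 16 from rfl, ← Γ.hE]; exact card_dvd_of_le inf_le_left)
  change Nat.card K ∣ 384 at hdv
  change Nat.card (orbit Γ.H q) * Nat.card K = 5760 at horb
  change Nat.card K ≠ 96 at h96
  have h384 := Nat.le_of_dvd (by norm_num) hdv
  have hge : 96 ≤ Nat.card K := by
    by_contra hlt
    have := Nat.mul_le_mul hle60 (Nat.le_of_lt_succ (show Nat.card K < 95 + 1 by omega))
    omega
  have hval : Nat.card K = 384 ∨ Nat.card K = 192 ∨ Nat.card K = 128 := by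
    obtain ⟨m, hm⟩ := hdv
    have : m ≤ 4 := by
      by_contra hgt
      have := Nat.mul_le_mul hge (show 5 ≤ m by omega)
      omega
    interval_cases m <;> omega
  rw [hie] at hq1 hq2 ⊢
  rcases hval with e | e | e <;> rw [e] at hq1 ⊢ <;> interval_cases i
  all_goals first | (norm_num at hq1; done) | norm_num

omit [Finite G] hd in
theorem arith {a b c S W : ℤ} (ha : 0 ≤ a) (hb : 0 ≤ b) (hc : 0 ≤ c) (habc : a + b + c = 60)
    (hS : S = 384 * a + 192 * b + 128 * c) (hW : 15 * a + 7 * b + 15 * c ≤ W)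
    (h : W ^ 2 ≤ 15 * (S - 720)) : False := by
  have h1 : (900 - 8 * b) ^ 2 ≤ W ^ 2 := by
    have : 0 ≤ 900 - 8 * b := by linarith
    nlinarith
  have h2 : S - 720 ≤ 22320 - 192 * b := by linarith
  nlinarith [sq_nonneg (60 - b)]

theorem rest_transitive {q : X} (hq : Γ.Rest hd q) : Nat.card (orbit Γ.H q) = 60 := by
  classical
  obtain ⟨hdv, horb⟩ := Γ.stab_rest hd hq
  by_contra hne
  -- no point has stabiliser of order 96
  have h96 : ∀ z : X, Γ.Rest hd z → Nat.card ↥(Γ.H ⊓ stabilizer G z) ≠ 96 := by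
    intro z hz e
    have hzo := (Γ.stab_rest hd hz).2
    rw [e] at hzo
    have hall : orbit Γ.H z = {q : X | Γ.Rest hd q} :=
      Set.eq_of_subset_of_ncard_le (Γ.orbit_rest hd hz) (by
        rw [← Nat.card_coe_set_eq, ← Nat.card_coe_set_eq, Set.coe_setOf, Γ.card_rest hd]
        omega) (Set.toFinite _)
    have hmem : q ∈ orbit Γ.H z := hall.ge hq
    exact hne (by rw [orbit_eq_iff.2 hmem]; omega)
  have := Fintype.ofFinite G
  have := Fintype.ofFinite X
  set R : Finset X := Finset.univ.filter fun z => Γ.Rest hd z with hR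
  set O16 : Finset X := Finset.univ.filter fun z => z ∈ orbit Γ.H (Γ.p hd) with hO16
  have hRc : R.card = 60 := by
    rw [hR, ← Fintype.card_subtype, ← Nat.card_eq_fintype_card, Γ.card_rest hd]
  have hO16c : O16.card = 16 := by
    rw [hO16, ← Fintype.card_subtype, ← Nat.card_eq_fintype_card]
    exact Γ.card_orbit_p hd
  have hsplit : ∀ f : X → ℤ, ∑ z, f z = f (base Γ.H) + ∑ z ∈ O16, f z + ∑ z ∈ R, f z := by
    intro f
    have hu : (Finset.univ : Finset X) = insert (base Γ.H) (O16 ∪ R) := by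
      ext z
      simp only [hO16, hR, Finset.mem_univ, Finset.mem_insert, Finset.mem_union, Finset.mem_filter,
        true_and, true_iff]
      exact (em (z = base Γ.H)).imp_right fun h1 => (em _).imp_right fun h2 => ⟨h1, h2⟩
    rw [hu, Finset.sum_insert, Finset.sum_union, add_assoc]
    · rw [Finset.disjoint_left]
      intro z h1 h2
      exact (Finset.mem_filter.1 h2).2.2 (Finset.mem_filter.1 h1).2
    · simp only [Finset.mem_union, not_or, hO16, hR, Finset.mem_filter, Finset.mem_univ, true_and]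
      exact ⟨fun h => Γ.orbit_ne_base le_rfl (Γ.p_ne hd) h rfl, fun h => h.1 rfl⟩
  -- the fixed points as sums
  set χ : G → X → ℤ := fun g a => if g ∈ stabilizer G a then 1 else 0 with hχ
  have hfx : ∀ g, (Γ.fx g : ℤ) = ∑ a, χ g a := fun g => by
    rw [fx, Nat.card_eq_fintype_card, Fintype.card_subtype, hχ, Finset.sum_boole]
  have hsumK : ∀ (K : Subgroup G) [DecidablePred (· ∈ K)],
      (Nat.card K : ℤ) = ∑ g, if g ∈ K then 1 else 0 := fun K _ => by
    rw [Finset.sum_boole, Nat.card_eq_fintype_card, Fintype.card_subtype]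
  have htot : ∑ g, (Γ.fx g : ℤ) = 443520 := by
    simp only [hfx, hχ]
    rw [Finset.sum_comm]
    refine (Finset.sum_congr rfl (g := fun _ => ((5760 : ℕ) : ℤ)) fun a _ => ?_).trans ?_
    · rw [← hsumK, Γ.card_stab hd a]
    rw [Finset.sum_const, Finset.card_univ, ← Nat.card_eq_fintype_card, Γ.card_X hd]
    norm_num
  have hT : ∀ a : X, ∑ b : X, (Nat.card ↥(stabilizer G a ⊓ stabilizer G b) : ℤ) =
      ∑ b : X, (Nat.card ↥(Γ.H ⊓ stabilizer G b) : ℤ) := by
    intro a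
    induction a using QuotientGroup.induction_on with | _ g => ?_
    rw [← Equiv.sum_comp (toPerm g : Equiv.Perm X)]
    refine Finset.sum_congr rfl fun b _ => ?_
    congr 1
    refine (Nat.card_congr ((MulAut.conj g).toEquiv.subtypeEquiv fun w => ?_)).symm
    show _ ↔ g * w * g⁻¹ ∈ stabilizer G (g : X) ⊓ stabilizer G (g • b)
    rw [mem_inf, mem_inf, ← smul_base, Γ.stab_smul hd, Γ.stab_smul hd,
      show g⁻¹ * (g * w * g⁻¹) * g = w by group, stab_base]
  set S : ℤ := ∑ z ∈ R, (Nat.card ↥(Γ.H ⊓ stabilizer G z) : ℤ) with hSdef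
  have hTval : ∑ b : X, (Nat.card ↥(Γ.H ⊓ stabilizer G b) : ℤ) = 11520 + S := by
    rw [hsplit, show Γ.H ⊓ stabilizer G (base Γ.H) = Γ.H by rw [stab_base, inf_idem], Γ.hH,
      Finset.sum_congr rfl (g := fun _ => (360 : ℤ)) (fun z hz => by
        rw [Γ.card_inf_stab_orbit (Finset.mem_filter.1 hz).2 Γ.H
          (fun h hh k hk => mul_mem (mul_mem hh hk) (inv_mem hh))]
        exact_mod_cast Γ.card_L hd), Finset.sum_const, hO16c, ← hSdef, nsmul_eq_mul]
    push_cast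
    ring
  have hsq : ∑ g, (Γ.fx g : ℤ) ^ 2 = 77 * (11520 + S) := by
    have e : ∀ g : G, (Γ.fx g : ℤ) ^ 2 = ∑ a : X, ∑ b : X,
        if g ∈ stabilizer G a ⊓ stabilizer G b then (1 : ℤ) else 0 := by
      intro g
      rw [sq, hfx, Finset.sum_mul_sum]
      refine Finset.sum_congr rfl fun a _ => Finset.sum_congr rfl fun b _ => ?_
      simp only [hχ, mem_inf]
      split_ifs <;> simp_all
    simp only [e]
    rw [Finset.sum_comm, Finset.sum_congr rfl (fun a _ => (Finset.sum_comm.trans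
      (Finset.sum_congr rfl (fun b _ => (hsumK _).symm))).trans ((hT a).trans hTval)), Finset.sum_const,
      Finset.card_univ, ← Nat.card_eq_fintype_card, Γ.card_X hd, nsmul_eq_mul]
    norm_num
  -- involutions
  obtain ⟨t, ht⟩ := sn_pos.1 (show 0 < sn G 2 by rw [hd.s2]; norm_num)
  set F : ℤ := (Γ.fx t : ℤ) - 1 with hF
  have hinv : ∀ g : G, orderOf g = 2 → (Γ.fx g : ℤ) - 1 = F := fun g hg => by
    obtain ⟨c, rfl⟩ := conj_two hd ht hg
    rw [Γ.fx_conj]
  have hsn : ∀ n : ℕ, ∑ g : G, (if orderOf g = n then (1 : ℤ) else 0) = sn G n := fun n => by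
    rw [Finset.sum_boole, sn, Nat.card_eq_fintype_card, Fintype.card_subtype]
  have hlow : ∀ g : G, 5776 * (if orderOf g = 1 then (1 : ℤ) else 0) +
      F ^ 2 * (if orderOf g = 2 then (1 : ℤ) else 0) + 16 * (if orderOf g = 3 then (1 : ℤ) else 0) +
      (if orderOf g = 5 then (1 : ℤ) else 0) + (if orderOf g = 7 then (1 : ℤ) else 0) +
      (if orderOf g = 11 then (1 : ℤ) else 0) ≤ ((Γ.fx g : ℤ) - 1) ^ 2 := by
    intro g
    have hs := hd.spec g
    simp only [List.mem_cons, List.not_mem_nil, or_false] at hs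
    rcases hs with e | e | e | e | e | e | e | e | e <;> simp [e]
    · have h1 : Γ.fx g = 77 := by
        rw [orderOf_eq_one_iff.1 e, fx, ← Γ.card_X hd]
        exact Nat.card_congr (Equiv.subtypeUnivEquiv fun a => one_mem _)
      rw [h1]; norm_num
    · rw [hinv g e]
    · have : (5 : ℤ) ≤ Γ.fx g := by exact_mod_cast Γ.fx_three hd e
      nlinarith
    · positivity
    · have : (2 : ℤ) ≤ Γ.fx g := by exact_mod_cast Γ.fx_five hd e
      exact le_abs.2 (Or.inl (by linarith))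
    · positivity
    · rw [Γ.fx_big hd (Or.inl e)]; norm_num
    · positivity
    · rw [Γ.fx_big hd (Or.inr e)]; norm_num
  have hbig : 498960 + 1155 * F ^ 2 ≤ 77 * (11520 + S) - 443520 := by
    have h := Finset.sum_le_sum (s := Finset.univ) (fun g _ => hlow g)
    simp only [Finset.sum_add_distrib, ← Finset.mul_sum, hsn, hd.s2, hd.s3, hd.s5, hd.s7, hd.s11,
      sn_one] at h
    have e : ∑ g, ((Γ.fx g : ℤ) - 1) ^ 2 = 77 * (11520 + S) - 443520 := by
      simp only [sub_sq, mul_one, one_pow, Finset.sum_add_distrib, Finset.sum_sub_distrib, ← Finset.mul_sum,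
        hsq, htot, Finset.sum_const, Finset.card_univ, nsmul_eq_mul]
      rw [← Nat.card_eq_fintype_card, hd.card]
      norm_num
      ring
    rw [e] at h
    norm_num at h
    linarith
  -- the fixed points of the involutions of E
  set Es : Finset G := Finset.univ.filter fun g => g ∈ Γ.E ∧ g ≠ 1 with hEs
  have hEsK : ∀ K : Subgroup G, ∑ g ∈ Es, (if g ∈ K then (1 : ℤ) else 0) =
      (Nat.card ↥(Γ.E ⊓ K) : ℤ) - 1 := by
    intro K
    rw [hsumK, eq_sub_iff_add_eq, ← Finset.add_sum_erase _ _ (Finset.mem_univ (1 : G)),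
      if_pos (one_mem (Γ.E ⊓ K)), add_comm, add_right_inj, hEs, Finset.sum_filter,
      ← Finset.sum_erase (s := Finset.univ) (a := (1 : G))
        (f := fun g : G => if g ∈ Γ.E ∧ g ≠ 1 then (if g ∈ K then (1 : ℤ) else 0) else 0)
        (by simp)]
    refine Finset.sum_congr rfl fun g hg => ?_
    have hg1 := (Finset.mem_erase.1 hg).1
    simp only [mem_inf]
    split_ifs <;> simp_all
  have hEsc : (Es.card : ℤ) = 15 := by
    have h := hEsK ⊤
    simp only [mem_top, if_true, Finset.sum_const, nsmul_eq_mul, mul_one, inf_top_eq, Γ.hE] at h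
    rw [h]; norm_num
  have hEsum : 15 * F = ∑ z ∈ R, ((Nat.card ↥(Γ.E ⊓ stabilizer G z) : ℤ) - 1) := by
    have e : ∀ g ∈ Es, (Γ.fx g : ℤ) = F + 1 := fun g hg => by
      obtain ⟨hgE, hg1⟩ := (Finset.mem_filter.1 hg).2
      have h2 : orderOf g = 2 := by
        have hg2 : orderOf g ∣ 16 := by
          rw [← Γ.hE, show orderOf g = orderOf (⟨g, hgE⟩ : Γ.E) from Subgroup.orderOf_coe (⟨g, hgE⟩ : Γ.E)]
          exact orderOf_dvd_natCard _
        obtain ⟨w, hw⟩ := exists_prime_orderOf_dvd_card' (G := Γ.E) 2 (by rw [Γ.hE]; norm_num)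
        obtain ⟨k, hk, e⟩ := Γ.trans w.1 w.2 g hgE (fun e => by
          rw [show w = 1 from Subtype.ext e, orderOf_one] at hw; omega) hg1
        rw [← e, orderOf_conj, Subgroup.orderOf_coe, hw]
      linarith [hinv g h2]
    have h1 : ∑ g ∈ Es, (Γ.fx g : ℤ) = 15 * (F + 1) := by
      rw [Finset.sum_congr rfl e, Finset.sum_const, nsmul_eq_mul, hEsc]
    simp only [hfx, hχ] at h1
    rw [Finset.sum_comm, show (∑ y : X, ∑ x ∈ Es, if x ∈ stabilizer G y then (1 : ℤ) else 0) =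
        ∑ y : X, ((Nat.card ↥(Γ.E ⊓ stabilizer G y) : ℤ) - 1) from
        Finset.sum_congr rfl (fun y _ => by convert hEsK (stabilizer G y)), hsplit,
      show Γ.E ⊓ stabilizer G (base Γ.H) = Γ.E by rw [stab_base, inf_eq_left.2 Γ.hEH], Γ.hE,
      Finset.sum_congr rfl (g := fun _ => (0 : ℤ)) (fun z hz => by
        rw [Γ.card_inf_stab_orbit (Finset.mem_filter.1 hz).2 Γ.E
          (fun h hh k hk => conj_mem_of_normalizer (Γ.norm ▸ hh) hk), Γ.E_inf_p hd, card_bot]
        norm_num), Finset.sum_const_zero] at h1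
    simp only [Nat.cast_ofNat, add_zero] at h1
    linarith
  -- the three kinds
  set a : ℕ := (R.filter fun z => Nat.card ↥(Γ.H ⊓ stabilizer G z) = 384).card with ha
  set b : ℕ := (R.filter fun z => Nat.card ↥(Γ.H ⊓ stabilizer G z) = 192).card with hb
  set c : ℕ := (R.filter fun z => Nat.card ↥(Γ.H ⊓ stabilizer G z) = 128).card with hc
  have hk : ∀ z ∈ R, Nat.card ↥(Γ.H ⊓ stabilizer G z) = 384 ∨
      Nat.card ↥(Γ.H ⊓ stabilizer G z) = 192 ∨ Nat.card ↥(Γ.H ⊓ stabilizer G z) = 128 := fun z hz => by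
    have hz' := (Finset.mem_filter.1 hz).2
    rcases Γ.e_bound hd hz' (h96 z hz') with ⟨e, -⟩ | ⟨e | e, -⟩ <;> omega
  have hlin : ∀ u v w : ℤ, ∑ z ∈ R, (u * (if Nat.card ↥(Γ.H ⊓ stabilizer G z) = 384 then 1 else 0) +
      v * (if Nat.card ↥(Γ.H ⊓ stabilizer G z) = 192 then 1 else 0) +
      w * (if Nat.card ↥(Γ.H ⊓ stabilizer G z) = 128 then 1 else 0)) = u * a + v * b + w * c := by
    intro u v w
    simp only [Finset.sum_add_distrib, ← Finset.mul_sum, Finset.sum_boole, ha, hb, hc]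
  refine arith (a := a) (b := b) (c := c) (S := S) (W := 15 * F) (by positivity) (by positivity)
    (by positivity) ?_ ?_ ?_ ?_
  · have h := hlin 1 1 1
    rw [Finset.sum_congr rfl (g := fun _ => (1 : ℤ)) (fun z hz => by
      rcases hk z hz with e | e | e <;> rw [e] <;> norm_num), Finset.sum_const, hRc] at h
    simp only [one_mul] at h
    rw [← h]; norm_num
  · rw [hSdef, ← hlin 384 192 128]
    exact Finset.sum_congr rfl fun z hz => by rcases hk z hz with e | e | e <;> rw [e] <;> norm_num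
  · rw [hEsum, ← hlin 15 7 15]
    refine Finset.sum_le_sum fun z hz => ?_
    have hz' := (Finset.mem_filter.1 hz).2
    rcases Γ.e_bound hd hz' (h96 z hz') with ⟨e, h⟩ | ⟨e | e, h⟩
    all_goals
      have h' := (Int.ofNat_le.2 h)
      push_cast at h'
      simp only [e, Nat.reduceEqDiff, if_true, if_false, mul_one, mul_zero, add_zero, zero_add]
      linarith
  · nlinarith

end Geo

end Cfsg.Agent.M22Nse38
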