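import Cfsg.Agent.Lib.Golay.Perm

/-!
# The order of a permutation from its packed table
-/

set_option autoImplicit false

namespace Cfsg.Agent.M22Nse38

open Cfsg Cfsg.Agent.Golay

/-- An entry of a packed table. -/
def look (A i : ℕ) : ℕ := Nat.land (Nat.shiftRight A (5 * i)) 31

/-- The least period of `i`, with fuel. -/
def perAux (f : ℕ → ℕ) (i : ℕ) : ℕ → ℕ → ℕ → ℕ
  | 0, _, _ => 0
  | fuel + 1, k, j => if Nat.beq j i then k else perAux f i fuel (k + 1) (f j)

theorem perAux_spec (f : ℕ → ℕ) (i : ℕ) : ∀ fuel k j, 0 < k → j = f^[k] i →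
    (∀ m, 0 < m → m < k → f^[m] i ≠ i) → ∀ p, perAux f i fuel k j = p → p ≠ 0 →
    0 < p ∧ f^[p] i = i ∧ ∀ m, 0 < m → m < p → f^[m] i ≠ i
  | 0, k, j, _, _, _, p, hp, h0 => absurd (hp ▸ rfl) h0
  | fuel + 1, k, j, hk, hj, hmin, p, hp, h0 => by
    rw [perAux] at hp
    by_cases h : Nat.beq j i = true
    · rw [if_pos h] at hp
      subst hp
      exact ⟨hk, hj ▸ Nat.eq_of_beq_eq_true h, hmin⟩
    · rw [if_neg h] at hp
      refine perAux_spec f i fuel (k + 1) (f j) k.succ_pos ?_ (fun m hm hm' => ?_) p hp h0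
      · rw [Function.iterate_succ_apply', ← hj]
      · rcases Nat.lt_succ_iff_lt_or_eq.1 hm' with h' | rfl
        · exact hmin m hm h'
        · intro e
          exact h (by rw [hj, e, Nat.beq_refl])

/-- The period of a point. -/
def per (f : ℕ → ℕ) (i : ℕ) : ℕ := perAux f i 12 1 (f i)

/-- The order from the periods, or zero. -/
def ordN (f : ℕ → ℕ) : ℕ := (List.range 24).foldl (fun acc i => Nat.lcm acc (per f i)) 1

theorem dvd_foldl (g : ℕ → ℕ) : ∀ (l : List ℕ) (a n : ℕ),
    l.foldl (fun acc i => Nat.lcm acc (g i)) a ∣ n ↔ a ∣ n ∧ ∀ i ∈ l, g i ∣ n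
  | [], a, n => by simp
  | x :: l, a, n => by
    rw [List.foldl_cons, dvd_foldl g l, Nat.lcm_dvd_iff]
    simp [and_assoc]

theorem orderOf_eq_ordN {σ : Equiv.Perm GolayPt} {f : ℕ → ℕ}
    (hf : ∀ i < 24, idx (σ (pt i)) = f i) (h0 : ordN f ≠ 0) : orderOf σ = ordN f := by
  have hit : ∀ m : ℕ, ∀ i < 24, idx ((σ ^ m) (pt i)) = f^[m] i := by
    intro m
    induction m with
    | zero => intro i hi; simp [idx_pt hi]
    | succ m ih =>
      intro i hi
      rw [pow_succ', Equiv.Perm.mul_apply, Function.iterate_succ_apply', ← ih i hi,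
        ← hf _ (idx_lt _), pt_idx]
  have hp0 : ∀ i < 24, per f i ≠ 0 := by
    intro i hi e
    refine h0 (Nat.eq_zero_of_zero_dvd ?_)
    have := ((dvd_foldl (per f) (List.range 24) 1 (ordN f)).1 dvd_rfl).2 i (List.mem_range.2 hi)
    rwa [e] at this
  have key : ∀ m, σ ^ m = 1 ↔ ordN f ∣ m := by
    intro m
    rw [ordN, dvd_foldl]
    constructor
    · intro h
      refine ⟨one_dvd _, fun i hi => ?_⟩
      rw [List.mem_range] at hi
      obtain ⟨hp, hfix, hmin⟩ := perAux_spec f i 12 1 (f i) one_pos rfl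
        (fun m h1 h2 => by omega) _ rfl (hp0 i hi)
      have hm : f^[m] i = i := by rw [← hit m i hi, h, Equiv.Perm.one_apply, idx_pt hi]
      refine Nat.dvd_of_mod_eq_zero ?_
      by_contra hne
      refine hmin (m % per f i) (Nat.pos_of_ne_zero hne) (Nat.mod_lt _ hp) ?_
      conv_rhs => rw [← hm]
      exact ((Function.IsPeriodicPt.iterate_mod_apply (f := f) (x := i) hfix m))
    · rintro ⟨-, h⟩
      refine Equiv.ext fun q => idx_injective ?_
      have hi := idx_lt q
      obtain ⟨hp, hfix, -⟩ := perAux_spec f (idx q) 12 1 (f (idx q)) one_pos rfl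
        (fun m h1 h2 => by omega) _ rfl (hp0 _ hi)
      obtain ⟨c, rfl⟩ := h _ (List.mem_range.2 hi)
      have := hit (per f (idx q) * c) (idx q) hi
      rw [pt_idx] at this
      rw [this, Equiv.Perm.one_apply]
      exact (Function.IsPeriodicPt.mul_const (f := f) hfix c).eq
  refine Nat.dvd_antisymm (orderOf_dvd_of_pow_eq_one ((key _).2 dvd_rfl)) ?_
  exact (key _).1 (pow_orderOf_eq_one σ)

end Cfsg.Agent.M22Nse38
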