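import Cfsg.Agent.M22Nse38.Geo

/-!
# The action on 77 points: suborbits of lengths 1, 16 and 60
-/

set_option autoImplicit false

namespace Cfsg.Agent.M22Nse38

open Subgroup MulAction
open scoped Pointwise

local instance : Fact (Nat.Prime 3) := ⟨Nat.prime_three⟩
local instance : Fact (Nat.Prime 5) := ⟨Nat.prime_five⟩
local instance : Fact (Nat.Prime 2) := ⟨Nat.prime_two⟩

variable {G : Type*} [Group G] [Finite G]

/-- The base coset. -/
abbrev base (H : Subgroup G) : G ⧸ H := QuotientGroup.mk 1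

omit [Finite G] in
theorem stab_base (H : Subgroup G) : stabilizer G (base H) = H := MulAction.stabilizer_quotient H

omit [Finite G] in
theorem smul_base (H : Subgroup G) (g : G) : g • base H = (g : G ⧸ H) := by
  show ((g * 1 : G) : G ⧸ H) = _
  rw [mul_one]

theorem card_orbit_stab (H : Subgroup G) (a : G ⧸ H) (K : Subgroup G) :
    Nat.card (orbit K a) * Nat.card ↥(K ⊓ stabilizer G a) = Nat.card K := by
  have h := (stabilizer K a).index_mul_card
  rw [index_stabilizer, ← Nat.card_coe_set_eq] at h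
  rw [← h]
  congr 1
  refine Nat.card_congr
    { toFun := fun k => ⟨⟨k.1, (mem_inf.1 k.2).1⟩, (mem_inf.1 k.2).2⟩
      invFun := fun k => ⟨k.1.1, mem_inf.2 ⟨k.1.2, k.2⟩⟩
      left_inv := fun _ => rfl
      right_inv := fun _ => rfl }

/-- A Sylow subgroup in `H` whose normaliser meets `H` in a subgroup of index two fixes two points. -/
theorem two_fixed {p : ℕ} [Fact p.Prime] (H : Subgroup G) (Q : Sylow p G) (hQ : (Q : Subgroup G) ≤ H)
    (hN : Nat.card ↥(normalizer ((Q : Subgroup G) : Set G)) =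
      2 * Nat.card ↥(H ⊓ normalizer ((Q : Subgroup G) : Set G))) :
    Nat.card {a : G ⧸ H // (Q : Subgroup G) ≤ stabilizer G a} = 2 := by
  set N := normalizer ((Q : Subgroup G) : Set G) with hNdef
  have h := card_orbit_stab H (base H) N
  rw [stab_base, inf_comm] at h
  have h2 : Nat.card (orbit N (base H)) = 2 := by
    have : Nat.card ↥(H ⊓ N) ≠ 0 := Nat.card_pos.ne'
    rw [hN] at h
    exact Nat.eq_of_mul_eq_mul_right (Nat.pos_of_ne_zero this) h
  rw [← h2]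
  refine Nat.card_congr (Equiv.subtypeEquivRight fun a => ⟨fun ha => ?_, ?_⟩)
  · induction a using QuotientGroup.induction_on with | _ g => ?_
    have hle : ((g⁻¹ • Q : Sylow p G) : Subgroup G) ≤ H := by
      intro q hq
      rw [Sylow.coe_subgroup_smul, mem_pointwise_smul_iff_inv_smul_mem] at hq
      simp only [MulAut.smul_def, MulAut.inv_apply, MulAut.conj_symm_apply, inv_inv] at hq
      have := ha hq
      rw [mem_stabilizer_iff, ← smul_base H g, ← mul_smul, ← inv_smul_eq_iff, ← mul_smul] at this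
      have hm : g⁻¹ * (g * q * g⁻¹ * g) ∈ stabilizer G (base H) := this
      rw [stab_base] at hm
      simpa [mul_assoc] using hm
    obtain ⟨h₀, hh₀⟩ := exists_smul_eq H (Q.subtype hQ) ((g⁻¹ • Q).subtype hle)
    rw [Sylow.smul_subtype] at hh₀
    have hn : g * (h₀ : G) ∈ N := Sylow.smul_eq_iff_mem_normalizer.1 (by
      rw [mul_smul, show (h₀ : G) • Q = g⁻¹ • Q from Sylow.subtype_injective hh₀, smul_inv_smul])
    refine ⟨⟨g * h₀, hn⟩, ?_⟩
    show (g * (h₀ : G)) • base H = _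
    rw [smul_base]
    exact QuotientGroup.mk_mul_of_mem g h₀.2
  · rintro ⟨⟨n, hn⟩, rfl⟩ q hq
    rw [mem_stabilizer_iff]
    show q • (n • base H) = n • base H
    have hm : n⁻¹ * q * n⁻¹⁻¹ ∈ stabilizer G (base H) := by
      rw [stab_base]
      exact hQ (conj_mem_of_normalizer (inv_mem hn) hq)
    rw [mem_stabilizer_iff, inv_inv] at hm
    conv_rhs => rw [← hm]
    rw [← mul_smul, ← mul_smul]
    congr 1
    group

namespace Geo

variable (Γ : Geo G) (hd : Dat G)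
include hd

local notation "X" => G ⧸ Γ.H

theorem card_X : Nat.card X = 77 := by
  have h := Γ.H.index_mul_card
  rw [hd.card, Γ.hH] at h
  rw [← index_eq_card]
  omega

theorem stab_smul (g : G) (a : X) (w : G) :
    w ∈ stabilizer G (g • a) ↔ g⁻¹ * w * g ∈ stabilizer G a := by
  rw [mem_stabilizer_iff, mem_stabilizer_iff, mul_smul, mul_smul, inv_smul_eq_iff]

theorem card_stab (a : X) : Nat.card (stabilizer G a) = 5760 := by
  induction a using QuotientGroup.induction_on with | _ g => ?_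
  rw [← Γ.hH, ← smul_base, stabilizer_smul_eq_stabilizer_map_conj, stab_base]
  exact card_map_of_injective (MulEquiv.injective _)

theorem fix_P : Nat.card {a : X // (Γ.P : Subgroup G) ≤ stabilizer G a} = 2 :=
  two_fixed Γ.H Γ.P Γ.hPH (by rw [card_normalizer hd, Γ.hNP])

theorem exists_p : ∃ p : X, p ≠ base Γ.H ∧ (Γ.P : Subgroup G) ≤ stabilizer G p ∧
    ∀ a : X, (Γ.P : Subgroup G) ≤ stabilizer G a → a = base Γ.H ∨ a = p := by
  have h2 := Γ.fix_P hd
  obtain ⟨a, b, hab, huniv⟩ := Nat.card_eq_two_iff.1 h2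
  have hb : (Γ.P : Subgroup G) ≤ stabilizer G (base Γ.H) := by rw [stab_base]; exact Γ.hPH
  have hmem : ∀ z : {a : X // (Γ.P : Subgroup G) ≤ stabilizer G a}, z = a ∨ z = b := fun z => by
    have : z ∈ ({a, b} : Set _) := huniv.ge (Set.mem_univ z)
    simpa using this
  rcases hmem ⟨base Γ.H, hb⟩ with e | e
  · refine ⟨b.1, fun e' => hab (e ▸ Subtype.ext e'.symm), b.2, fun z hz => ?_⟩
    rcases hmem ⟨z, hz⟩ with e1 | e1
    exacts [Or.inl (congrArg Subtype.val (e1.trans e.symm)), Or.inr (congrArg Subtype.val e1)]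
  · refine ⟨a.1, fun e' => hab (e ▸ Subtype.ext e'), a.2, fun z hz => ?_⟩
    rcases hmem ⟨z, hz⟩ with e1 | e1
    exacts [Or.inr (congrArg Subtype.val e1), Or.inl (congrArg Subtype.val (e1.trans e.symm))]

/-- The point other than the base fixed by `P`. -/
noncomputable def p : X := (Γ.exists_p hd).choose

theorem p_ne : Γ.p hd ≠ base Γ.H := (Γ.exists_p hd).choose_spec.1

theorem P_p : (Γ.P : Subgroup G) ≤ stabilizer G (Γ.p hd) := (Γ.exists_p hd).choose_spec.2.1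

theorem p_unique (a : X) (ha : (Γ.P : Subgroup G) ≤ stabilizer G a) :
    a = base Γ.H ∨ a = Γ.p hd := (Γ.exists_p hd).choose_spec.2.2 a ha

omit hd in
theorem base_fix {h : G} (hh : h ∈ Γ.H) : h • base Γ.H = base Γ.H :=
  mem_stabilizer_iff.1 (by rw [stab_base]; exact hh)

omit hd in
theorem orbit_ne_base {K : Subgroup G} (hK : K ≤ Γ.H) {a b : X} (ha : a ≠ base Γ.H) (hb : b ∈ orbit K a) :
    b ≠ base Γ.H := by
  obtain ⟨⟨k, hk⟩, rfl⟩ := hb
  exact fun e => ha (smul_left_cancel k (e.trans (Γ.base_fix (hK hk)).symm))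

theorem dvd_of_inf_E {K : Subgroup G} (hK : K ≤ Γ.H) :
    Nat.card K / Nat.card ↥(Γ.E ⊓ K) ∣ 360 ∧ Nat.card ↥(Γ.E ⊓ K) ∣ Nat.card K := by
  have hnor : (Γ.E.subgroupOf Γ.H).Normal := by
    rw [← normalizer_eq_top_iff, ← subgroupOf_normalizer_eq Γ.hEH, ← Γ.norm, subgroupOf_self]
  have hidx : (Γ.E.subgroupOf Γ.H).index = 360 := by
    have h := (Γ.E.subgroupOf Γ.H).index_mul_card
    rw [Nat.card_congr (subgroupOfEquivOfLe Γ.hEH).toEquiv, Γ.hE, Γ.hH] at h
    omega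
  have hdv := relIndex_dvd_index_of_normal (Γ.E.subgroupOf Γ.H) (K.subgroupOf Γ.H)
  rw [hidx, relIndex_subgroupOf hK, ← inf_relIndex_right] at hdv
  have hle : Γ.E ⊓ K ≤ K := inf_le_right
  have h := ((Γ.E ⊓ K).subgroupOf K).index_mul_card
  rw [Nat.card_congr (subgroupOfEquivOfLe hle).toEquiv] at h
  refine ⟨?_, card_dvd_of_le hle⟩
  rw [← h, Nat.mul_div_cancel _ Nat.card_pos]
  exact hdv

/-- The stabiliser of the base and `p`. -/
noncomputable def L : Subgroup G := Γ.H ⊓ stabilizer G (Γ.p hd)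

theorem NP_le_L : Γ.H ⊓ normalizer ((Γ.P : Subgroup G) : Set G) ≤ Γ.L hd := by
  intro n hn
  obtain ⟨hnH, hnN⟩ := mem_inf.1 hn
  refine mem_inf.2 ⟨hnH, mem_stabilizer_iff.2 ?_⟩
  have hfix : (Γ.P : Subgroup G) ≤ stabilizer G (n • Γ.p hd) := by
    intro q hq
    rw [Γ.stab_smul hd]
    have := Γ.P_p hd (conj_mem_of_normalizer (inv_mem hnN) hq)
    rwa [inv_inv] at this
  rcases Γ.p_unique hd _ hfix with e | e
  · exact absurd (smul_left_cancel n (e.trans (Γ.base_fix hnH).symm)) (Γ.p_ne hd)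
  · exact e

theorem E_inf_p : Γ.E ⊓ stabilizer G (Γ.p hd) = ⊥ := by
  have hinv : ∀ k ∈ Γ.H ⊓ normalizer ((Γ.P : Subgroup G) : Set G),
      ∀ a ∈ Γ.E ⊓ stabilizer G (Γ.p hd), k * a * k⁻¹ ∈ Γ.E ⊓ stabilizer G (Γ.p hd) := by
    intro k hk a ha
    obtain ⟨haE, hap⟩ := mem_inf.1 ha
    have hkE : k ∈ normalizer (Γ.E : Set G) := Γ.norm ▸ (mem_inf.1 hk).1
    have hkp := (mem_inf.1 (Γ.NP_le_L hd hk)).2
    exact mem_inf.2 ⟨conj_mem_of_normalizer hkE haE, mul_mem (mul_mem hkp hap) (inv_mem hkp)⟩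
  rcases Γ.irr _ inf_le_left hinv with h | h
  · exact h
  exfalso
  have hEp : Γ.E ≤ stabilizer G (Γ.p hd) := h ▸ inf_le_right
  obtain ⟨g, hg⟩ := QuotientGroup.mk_surjective (Γ.p hd)
  have hstab : stabilizer G (Γ.p hd) = Γ.H.map (MulAut.conj g).toMonoidHom := by
    rw [← hg, ← smul_base, stabilizer_smul_eq_stabilizer_map_conj, stab_base]
  set E' := Γ.E.map (MulAut.conj g).toMonoidHom with hE'
  have hinv' : ∀ k ∈ Γ.H ⊓ normalizer ((Γ.P : Subgroup G) : Set G), ∀ a ∈ Γ.E ⊓ E',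
      k * a * k⁻¹ ∈ Γ.E ⊓ E' := by
    intro k hk a ha
    obtain ⟨haE, haE'⟩ := mem_inf.1 ha
    have hkE : k ∈ normalizer (Γ.E : Set G) := Γ.norm ▸ (mem_inf.1 hk).1
    refine mem_inf.2 ⟨conj_mem_of_normalizer hkE haE, ?_⟩
    have hkp := (mem_inf.1 (Γ.NP_le_L hd hk)).2
    rw [hstab] at hkp
    obtain ⟨k', hk', rfl⟩ := hkp
    obtain ⟨a', ha', rfl⟩ := haE'
    exact ⟨k' * a' * k'⁻¹, conj_mem_of_normalizer (Γ.norm ▸ hk') ha', by simp [mul_assoc]⟩
  have hE'c : Nat.card E' = 16 := by rw [hE', card_map_of_injective (MulEquiv.injective _), Γ.hE]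
  rcases Γ.irr _ inf_le_left hinv' with h' | h'
  · -- the pullback of E
    set K := Γ.E.map (MulAut.conj g⁻¹).toMonoidHom
    have hK : K ≤ Γ.H := by
      rintro _ ⟨a, ha, rfl⟩
      have := hEp ha
      rw [hstab] at this
      obtain ⟨b, hb, rfl⟩ := this
      simpa [mul_assoc] using hb
    have hKc : Nat.card K = 16 := by rw [card_map_of_injective (MulEquiv.injective _), Γ.hE]
    have hinf : Γ.E ⊓ K = ⊥ := by
      refine eq_bot_iff.2 fun a ha => ?_
      obtain ⟨haE, ⟨b, hb, rfl⟩⟩ := mem_inf.1 ha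
      have hb' : b ∈ Γ.E ⊓ E' := mem_inf.2 ⟨hb, ⟨_, haE, by simp [mul_assoc]⟩⟩
      rw [h', mem_bot] at hb'
      simp [hb']
    have := (Γ.dvd_of_inf_E hd hK).1
    rw [hinf, card_bot, Nat.div_one, hKc] at this
    norm_num at this
  · have hle : Γ.E ≤ E' := h' ▸ inf_le_right
    have heq : Γ.E = E' := eq_of_le_of_card_ge hle (by rw [hE'c, Γ.hE])
    refine Γ.p_ne hd ?_
    have hgN : g ∈ Γ.H := by
      rw [Γ.norm]
      exact mem_normalizer_of fun a ha => heq.ge ⟨a, ha, rfl⟩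
    rw [← hg, ← smul_base]
    exact Γ.base_fix hgN

theorem L_inf_E : Γ.E ⊓ Γ.L hd = ⊥ := by
  rw [eq_bot_iff, ← Γ.E_inf_p hd]
  exact inf_le_inf_left _ inf_le_right

theorem card_L : Nat.card (Γ.L hd) = 360 := by
  classical
  have hLH : Γ.L hd ≤ Γ.H := inf_le_left
  have h360 := (Γ.dvd_of_inf_E hd hLH).1
  rw [Γ.L_inf_E hd, card_bot, Nat.div_one] at h360
  have h36 : 36 ∣ Nat.card (Γ.L hd) := Γ.hNP ▸ card_dvd_of_le (Γ.NP_le_L hd)
  have horb := card_orbit_stab Γ.H (Γ.p hd) Γ.H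
  have hle : Nat.card (orbit Γ.H (Γ.p hd)) ≤ 76 := by
    have hsub : orbit Γ.H (Γ.p hd) ⊆ {base Γ.H}ᶜ := fun b hb => Γ.orbit_ne_base le_rfl (Γ.p_ne hd) hb
    rw [Nat.card_coe_set_eq]
    refine (Set.ncard_le_ncard hsub (Set.toFinite _)).trans ?_
    rw [Set.ncard_compl, Γ.card_X hd, Set.ncard_singleton]
  rw [Γ.hH, show Γ.H ⊓ stabilizer G (Γ.p hd) = Γ.L hd from rfl] at horb
  obtain ⟨m, hm⟩ := h36
  have hm10 : m ∣ 10 := Nat.dvd_of_mul_dvd_mul_left (by norm_num : 0 < 36) (hm ▸ h360)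
  have := Nat.le_of_dvd (by norm_num) hm10
  rw [hm] at horb ⊢
  have hm' : m = 1 ∨ m = 2 ∨ m = 5 ∨ m = 10 := by interval_cases m <;> omega
  rcases hm' with rfl | rfl | rfl | rfl
  · omega
  · omega
  swap
  · rfl
  exfalso
  -- index two
  set E' := Γ.E.subgroupOf Γ.H
  have hnor : E'.Normal := by
    rw [← normalizer_eq_top_iff, ← subgroupOf_normalizer_eq Γ.hEH, ← Γ.norm, subgroupOf_self]
  set φ := (QuotientGroup.mk' E').comp (inclusion hLH)
  have hinj : Function.Injective φ := by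
    refine (injective_iff_map_eq_one φ).2 fun l hl => ?_
    have h : (l : G) ∈ Γ.E ⊓ Γ.L hd :=
      mem_inf.2 ⟨mem_subgroupOf.1 ((QuotientGroup.eq_one_iff (N := E') (inclusion hLH l)).1 hl), l.2⟩
    rw [Γ.L_inf_E hd, mem_bot] at h
    exact Subtype.ext h
  have hq : Nat.card (Γ.H ⧸ E') = 360 := by
    have h := E'.index_mul_card
    rw [Nat.card_congr (subgroupOfEquivOfLe Γ.hEH).toEquiv, Γ.hE, Γ.hH] at h
    rw [← index_eq_card]
    omega
  have hrc : φ.range.index = 2 := by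
    have h := φ.range.index_mul_card
    rw [← Nat.card_congr (MonoidHom.ofInjective hinj).toEquiv, hm, hq] at h
    omega
  set K := φ.range.comap (QuotientGroup.mk' E') with hK
  have hKidx : K.index = 2 := by
    rw [hK, index_comap_of_surjective _ (QuotientGroup.mk'_surjective E'), hrc]
  have hKnor : K.Normal := normal_of_index_eq_two hKidx
  set Pv := Γ.P.subtype Γ.hPH
  have hPK : (Pv : Subgroup Γ.H) ≤ K := fun q hq =>
    ⟨⟨q, Γ.NP_le_L hd (mem_inf.2 ⟨q.2, le_normalizer hq⟩)⟩, rfl⟩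
  have hsup := Sylow.normalizer_sup_eq_top (Pv.subtype hPK)
  have hN : normalizer ((((Pv.subtype hPK : Sylow 3 K) : Subgroup K).map K.subtype : Subgroup Γ.H) : Set Γ.H) ≤ K := by
    intro n hn
    have e : ((Pv.subtype hPK : Sylow 3 K) : Subgroup K).map K.subtype = (Pv : Subgroup Γ.H) :=
      map_subgroupOf_eq_of_le hPK
    rw [e, Sylow.coe_subtype, ← subgroupOf_normalizer_eq Γ.hPH] at hn
    exact ⟨⟨n, Γ.NP_le_L hd (mem_inf.2 ⟨n.2, hn⟩)⟩, rfl⟩
  have htop : K = ⊤ := top_unique (hsup ▸ sup_le hN le_rfl)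
  rw [htop, index_top] at hKidx
  omega

theorem card_orbit_p : Nat.card (orbit Γ.H (Γ.p hd)) = 16 := by
  have horb := card_orbit_stab Γ.H (Γ.p hd) Γ.H
  rw [Γ.hH, show Γ.H ⊓ stabilizer G (Γ.p hd) = Γ.L hd from rfl, Γ.card_L hd] at horb
  omega

theorem E_orbit : orbit Γ.H (Γ.p hd) = orbit Γ.E (Γ.p hd) := by
  have hsub : orbit Γ.E (Γ.p hd) ⊆ orbit Γ.H (Γ.p hd) := by
    rintro _ ⟨e, rfl⟩
    exact ⟨⟨e, Γ.hEH e.2⟩, rfl⟩
  refine (Set.eq_of_subset_of_ncard_le hsub ?_ (Set.toFinite _)).symm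
  have h := card_orbit_stab Γ.H (Γ.p hd) Γ.E
  rw [Γ.E_inf_p hd, card_bot, mul_one, Γ.hE] at h
  rw [← Nat.card_coe_set_eq, ← Nat.card_coe_set_eq, h, Γ.card_orbit_p hd]

end Geo

end Cfsg.Agent.M22Nse38
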