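import Cfsg.Agent.M22Nse38.Excl

/-!
# The subgroup of order 5760
-/

set_option autoImplicit false

namespace Cfsg.Agent.M22Nse38

open Subgroup
open scoped Pointwise

local instance : Fact (Nat.Prime 3) := ⟨Nat.prime_three⟩
local instance : Fact (Nat.Prime 2) := ⟨Nat.prime_two⟩

variable {G : Type*} [Group G] [Finite G] (hd : Dat G)
include hd

namespace Cfg

variable (c : Cfg G) {r : G} (hrP : r ∈ (c.P : Subgroup G)) (hr : r ∉ zpowers c.x)
  (hrA : fourOf r ≤ c.A)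
include hrP hr hrA

theorem A_eq_E : c.A = E c r :=
  (eq_of_le_of_card_ge (c.E_le_A hd hrP hr hrA)
    (by rw [c.A_card16 hd, (c.E_facts hd hrP hr hrA).2.2])).symm

omit hrA in
theorem four_r_cases {a w : G} (ha : a ∈ fourOf r) (ha1 : a ≠ 1) (hw : w ∈ fourOf r) :
    w = 1 ∨ w = a ∨ w = c.x * a * c.x⁻¹ ∨ w = a * (c.x * a * c.x⁻¹) := by
  have hr3 := c.r_ord hd hrP hr
  have hc : c.x * r * c.x⁻¹ = r := mem_cz'.1 (sylow_le_cz hd c.P hrP c.hxP)
  refine four_cases hd hr3 ha (fourOf_inv hd hr3 (Or.inl hc) ha) ha1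
    (fun e => ha1 (by rwa [mul_inv_eq_one, mul_eq_left] at e)) (fun e => ha1 ?_) hw
  exact no_fix hd hrP (c.r_ne hrP hr) c.hxP (c.x_notMem hd hrP hr) ha (mul_inv_eq_iff_eq_mul.1 e)

/-- All involutions of `E` are conjugate in its normaliser. -/
theorem orbit_E : ∀ a ∈ E c r, a ≠ 1 → ∃ k ∈ normalizer (E c r : Set G), k * c.t * k⁻¹ = a := by
  classical
  have hr3 := c.r_ord hd hrP hr
  obtain ⟨hE, -, hEc⟩ := c.E_facts hd hrP hr hrA
  set H := normalizer (E c r : Set G)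
  have hC : cz c.t ≤ H := c.C_norm_E hd hrP hr hrA
  have hOH : c.O ≤ H := c.O_le.trans hC
  have hPH : ∀ k ∈ (c.P : Subgroup G), k ∈ H := fun k hk => c.P_norm_E hd hrP hr hrA hk
  have hconj : ∀ k ∈ H, ∀ a, (∃ j ∈ H, j * c.t * j⁻¹ = a) → ∃ j ∈ H, j * c.t * j⁻¹ = k * a * k⁻¹ := by
    rintro k hk a ⟨j, hj, rfl⟩
    exact ⟨k * j, mul_mem hk hj, by group⟩
  have hut : ∃ j ∈ H, j * c.t * j⁻¹ = c.u := ⟨c.y, hPH _ c.hyP, c.yt⟩
  -- the O-orbit of u
  set S : Set G := {w | ∃ o ∈ c.O, o * c.u * o⁻¹ = w} with hS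
  have hScard : Nat.card S = 4 := by
    have h := card_orbit_conj c.O c.u S (fun o ho => ⟨o, ho, rfl⟩) (fun w hw => hw)
    rw [show c.O ⊓ cz c.u = c.A from rfl, c.A_card16 hd, (c.O_facts hd).1] at h
    omega
  obtain ⟨w, hwS, hwu⟩ : ∃ w ∈ S, w ≠ c.u := by
    by_contra hc
    push Not at hc
    have : S ⊆ {c.u} := hc
    have := Set.ncard_le_ncard this (Set.toFinite _)
    rw [Set.ncard_singleton, ← Nat.card_coe_set_eq, hScard] at this
    omega
  obtain ⟨o, ho, hwo⟩ := hwS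
  have hwE : w ∈ E c r :=
    hwo ▸ conj_mem_of_normalizer (hOH ho) (le_sup_left (b := fourOf r) c.hu)
  obtain ⟨v, hv, a, ha, hva⟩ := hE w hwE
  have hot : o * c.t * o⁻¹ = c.t := mem_cz'.1 (c.O_le ho)
  have ha1 : a ≠ 1 := by
    rintro rfl
    rw [mul_one] at hva
    rcases four_cases hd c.hx c.ht c.hu c.ht1 c.hu1 c.hut hv with rfl | rfl | rfl | rfl
    · exact c.hu1 (by rw [hva] at hwo; rwa [mul_inv_eq_one, mul_eq_left] at hwo)
    · exact c.hut (mul_left_cancel (mul_right_cancel (hwo.trans (hva.trans hot.symm))))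
    · exact hwu hva
    · exact c.no_swap hd ho (hwo.trans hva)
  set b := c.x * a * c.x⁻¹ with hb
  have hbV : b ∈ fourOf r :=
    fourOf_inv hd hr3 (Or.inl (mem_cz'.1 (sylow_le_cz hd c.P hrP c.hxP))) ha
  have hb1 : b ≠ 1 := fun e => ha1 (by rwa [hb, mul_inv_eq_one, mul_eq_left] at e)
  have hba : b ≠ a := fun e => ha1 (no_fix hd hrP (c.r_ne hrP hr) c.hxP (c.x_notMem hd hrP hr) ha
    (mul_inv_eq_iff_eq_mul.1 e))
  have hab1 : a * b ≠ 1 := fun e => hba (by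
    have h2 : a * a = 1 := by rw [← pow_two]; exact ((mem_fourOf hd hr3).1 ha).1
    exact (mul_left_cancel (e.trans h2.symm)))
  have hxu : c.x * c.u * c.x⁻¹ = c.u := mem_cz'.1 (c.x_u hd)
  have hxv : c.x * v * c.x⁻¹ = v := by
    rw [mul_inv_eq_iff_eq_mul]; exact ((mem_fourOf hd c.hx).1 hv).2
  have hxS : ∀ z ∈ S, c.x * z * c.x⁻¹ ∈ S := by
    rintro _ ⟨o', ho', rfl⟩
    refine ⟨c.x * o' * c.x⁻¹, c.O_normal (c.x_cz hd) ho', ?_⟩
    rw [show c.x * o' * c.x⁻¹ * c.u * (c.x * o' * c.x⁻¹)⁻¹ =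
      c.x * (o' * (c.x⁻¹ * c.u * c.x) * o'⁻¹) * c.x⁻¹ by group,
      show c.x⁻¹ * c.u * c.x = c.u by
        rw [mul_assoc, inv_mul_eq_iff_eq_mul]; exact (mul_inv_eq_iff_eq_mul.1 hxu).symm]
  have hvaS : v * a ∈ S := hva ▸ ⟨o, ho, hwo⟩
  have hvbS : v * b ∈ S := by
    have := hxS _ hvaS
    rwa [show c.x * (v * a) * c.x⁻¹ = (c.x * v * c.x⁻¹) * b by rw [hb]; group, hxv] at this
  have hbx : c.x * b * c.x⁻¹ = a * b := by
    have hbb : c.x * b * c.x⁻¹ ∈ fourOf r :=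
      fourOf_inv hd hr3 (Or.inl (mem_cz'.1 (sylow_le_cz hd c.P hrP c.hxP))) hbV
    rcases c.four_r_cases hd hrP hr ha ha1 hbb with e | e | e | e
    · exact absurd (by rwa [mul_inv_eq_one, mul_eq_left] at e) hb1
    · exfalso
      refine hba ?_
      have h3 : c.x * c.x * c.x = 1 := by rw [← pow_three', ← c.hx, pow_orderOf_eq_one]
      have h := congrArg (fun z => c.x * z * c.x⁻¹) e
      beta_reduce at h
      rw [hb, show c.x * (c.x * (c.x * a * c.x⁻¹) * c.x⁻¹) * c.x⁻¹ =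
        (c.x * c.x * c.x) * a * (c.x * c.x * c.x)⁻¹ by group, h3, one_mul, inv_one, mul_one] at h
      exact h.symm
    · exact absurd (mul_left_cancel (mul_right_cancel (e.trans hb.symm : _ = c.x * a * c.x⁻¹))) hba
    · exact e
  have hvabS : v * (a * b) ∈ S := by
    have := hxS _ hvbS
    rwa [show c.x * (v * b) * c.x⁻¹ = (c.x * v * c.x⁻¹) * (c.x * b * c.x⁻¹) by group, hxv, hbx] at this
  have hab : a * b ∈ fourOf r := mul_mem ha hbV
  have hdu : ∀ {z}, z ∈ fourOf r → z ≠ 1 → c.u ≠ v * z := fun {z} hz hz1 e =>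
    hz1 (c.decomp_unique hd hrP hr hrA c.hu hv (one_mem _) hz (by rw [mul_one]; exact e)).2.symm
  have hSeq : S = {c.u, v * a, v * b, v * (a * b)} := by
    refine (Set.eq_of_subset_of_ncard_le ?_ ?_ (Set.toFinite _)).symm
    · intro z hz
      simp only [Set.mem_insert_iff, Set.mem_singleton_iff] at hz
      rcases hz with rfl | rfl | rfl | rfl
      exacts [⟨1, one_mem _, by group⟩, hvaS, hvbS, hvabS]
    · rw [← Nat.card_coe_set_eq, hScard]
      have n1 : a * b ≠ a := fun e => hb1 (mul_eq_left.1 e)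
      have n2 : a * b ≠ b := fun e => ha1 (mul_eq_right.1 e)
      rw [Set.ncard_insert_of_notMem (by
          simp only [Set.mem_insert_iff, Set.mem_singleton_iff]
          rintro (e | e | e)
          exacts [hdu ha ha1 e, hdu hbV hb1 e, hdu hab hab1 e]),
        Set.ncard_insert_of_notMem (by simp [mul_right_inj, Ne.symm hba, Ne.symm n1]),
        Set.ncard_insert_of_notMem (by simp [mul_right_inj, Ne.symm n2]), Set.ncard_singleton]
  -- the V-part
  have hsws : ∃ z ∈ S, c.s * (v * a) * c.s⁻¹ = c.t * z := by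
    refine ⟨_, ⟨c.s * o * c.s⁻¹, c.O_normal c.s_cz ho, rfl⟩, ?_⟩
    rw [← hva, ← hwo, show c.s * (o * c.u * o⁻¹) * c.s⁻¹ =
      (c.s * o * c.s⁻¹) * (c.s * c.u * c.s⁻¹) * (c.s * o * c.s⁻¹)⁻¹ by group, c.su,
      show c.s * o * c.s⁻¹ * (c.t * c.u) * (c.s * o * c.s⁻¹)⁻¹ =
      (c.s * o * c.s⁻¹ * c.t * (c.s * o * c.s⁻¹)⁻¹) * (c.s * o * c.s⁻¹ * c.u * (c.s * o * c.s⁻¹)⁻¹) by group,
      mem_cz'.1 (c.O_le (c.O_normal c.s_cz ho))]
  have hv1 : v ≠ 1 := by
    obtain ⟨z, hz, hzs⟩ := hsws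
    rintro rfl
    rw [hSeq] at hz
    have hsa : c.s * a * c.s⁻¹ ∈ fourOf r := fourOf_inv hd hr3 (Or.inr (c.sP _ hrP)) ha
    rw [show c.s * (1 * a) * c.s⁻¹ = 1 * (c.s * a * c.s⁻¹) by group] at hzs
    simp only [Set.mem_insert_iff, Set.mem_singleton_iff] at hz
    rcases hz with rfl | rfl | rfl | rfl
    · have := (c.decomp_unique hd hrP hr hrA (one_mem _) (mul_mem c.ht c.hu) hsa (one_mem _)
        (by rw [mul_one]; exact hzs)).2
      exact ha1 (by rwa [mul_inv_eq_one, mul_eq_left] at this)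
    all_goals rw [one_mul, ← mul_assoc, mul_one] at hzs
    · exact c.ht1 (c.decomp_unique hd hrP hr hrA (one_mem _) c.ht hsa ha (by rw [one_mul]; exact hzs)).1.symm
    · exact c.ht1 (c.decomp_unique hd hrP hr hrA (one_mem _) c.ht hsa hbV (by rw [one_mul]; exact hzs)).1.symm
    · exact c.ht1 (c.decomp_unique hd hrP hr hrA (one_mem _) c.ht hsa hab (by rw [one_mul]; exact hzs)).1.symm
  -- products of nontrivial parts
  have hrfix : ∀ z ∈ fourOf r, r * z * r⁻¹ = z := fun z hz => by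
    rw [mul_inv_eq_iff_eq_mul]; exact ((mem_fourOf hd hr3).1 hz).2
  have hva' : ∀ z ∈ fourOf r, z ≠ 1 → ∃ j ∈ H, j * c.t * j⁻¹ = v * z := by
    intro z hz hz1
    have : v * z ∈ S := by
      rcases c.four_r_cases hd hrP hr ha ha1 hz with rfl | rfl | rfl | rfl
      exacts [absurd rfl hz1, hvaS, hvbS, hvabS]
    obtain ⟨o', ho', e⟩ := this
    rw [← e]
    exact hconj o' (hOH ho') _ hut
  have hrc : r * c.x * r⁻¹ = c.x := mem_cz'.1 (sylow_le_cz hd c.P c.hxP hrP)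
  have hrv : r * v * r⁻¹ ∈ fourOf c.x := fourOf_inv hd c.hx (Or.inl hrc) hv
  have hrv1 : r * v * r⁻¹ ≠ 1 := fun e => hv1 (by rwa [mul_inv_eq_one, mul_eq_left] at e)
  have hrvv : r * v * r⁻¹ ≠ v := fun e =>
    hv1 (no_fix hd c.hxP c.x_ne hrP hr hv (mul_inv_eq_iff_eq_mul.1 e))
  have hr2v : r * (r * v * r⁻¹) * r⁻¹ = v * (r * v * r⁻¹) := by
    have hm : r * (r * v * r⁻¹) * r⁻¹ ∈ fourOf c.x := fourOf_inv hd c.hx (Or.inl hrc) hrv
    rcases four_cases hd c.hx hv hrv hv1 hrv1 hrvv hm with e | e | e | e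
    · exact absurd (by rwa [mul_inv_eq_one, mul_eq_left] at e) hrv1
    · exfalso
      refine hrvv ?_
      have h3 : r * r * r = 1 := by rw [← pow_three', ← hr3, pow_orderOf_eq_one]
      have h := congrArg (fun z => r * z * r⁻¹) e
      beta_reduce at h
      rw [show r * (r * (r * v * r⁻¹) * r⁻¹) * r⁻¹ = (r * r * r) * v * (r * r * r)⁻¹ by group, h3,
        one_mul, inv_one, mul_one] at h
      exact h.symm
    · exact absurd (mul_left_cancel (mul_right_cancel e)) hrvv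
    · exact e
  have hall : ∀ v' ∈ fourOf c.x, v' ≠ 1 → ∀ z ∈ fourOf r, z ≠ 1 → ∃ j ∈ H, j * c.t * j⁻¹ = v' * z := by
    intro v' hv' hv'1 z hz hz1
    rcases four_cases hd c.hx hv hrv hv1 hrv1 hrvv hv' with e | e | e | e
    · exact absurd e hv'1
    · rw [e]; exact hva' z hz hz1
    · have := hconj r (hPH r hrP) _ (hva' z hz hz1)
      rwa [show r * (v * z) * r⁻¹ = (r * v * r⁻¹) * (r * z * r⁻¹) by group, hrfix z hz, ← e] at this
    · have := hconj r (hPH r hrP) _ (hconj r (hPH r hrP) _ (hva' z hz hz1))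
      rwa [show r * (r * (v * z) * r⁻¹) * r⁻¹ = (r * (r * v * r⁻¹) * r⁻¹) * (r * (r * z * r⁻¹) * r⁻¹) by group,
        hrfix z hz, hrfix z hz, hr2v, ← e] at this
  have hVorb : ∀ v' ∈ fourOf c.x, v' ≠ 1 → ∃ j ∈ H, j * c.t * j⁻¹ = v' := by
    intro v' hv' hv'1
    rcases four_cases hd c.hx c.ht c.hu c.ht1 c.hu1 c.hut hv' with rfl | rfl | rfl | rfl
    · exact absurd rfl hv'1
    · exact ⟨1, one_mem _, by group⟩
    · exact hut
    · rw [← c.yu]; exact hconj _ (hPH _ c.hyP) _ hut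
  -- some element of the second four group
  have hsome : ∃ z ∈ fourOf r, z ≠ 1 ∧ ∃ j ∈ H, j * c.t * j⁻¹ = z := by
    by_contra hc
    push Not at hc
    have hnorm : ∀ k ∈ H, ∀ z ∈ fourOf r, k * z * k⁻¹ ∈ fourOf r := by
      intro k hk z hz
      by_cases hz1 : z = 1
      · subst hz1
        rw [mul_one, mul_inv_cancel]
        exact one_mem _
      by_contra hn
      obtain ⟨v', hv', z', hz', e⟩ := hE _ (conj_mem_of_normalizer hk (le_sup_right (a := fourOf c.x) hz))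
      have horb : ∃ j ∈ H, j * c.t * j⁻¹ = k * z * k⁻¹ := by
        have hv'1 : v' ≠ 1 := fun e1 => hn (by rw [e, e1, one_mul]; exact hz')
        by_cases hz'1 : z' = 1
        · rw [e, hz'1, mul_one]; exact hVorb v' hv' hv'1
        · rw [e]; exact hall v' hv' hv'1 z' hz' hz'1
      obtain ⟨j, hj, hje⟩ := hconj k⁻¹ (inv_mem hk) _ horb
      exact hc z hz hz1 j hj (by rw [hje]; group)
    have hS' : ∀ k ∈ c.O, ∀ z ∈ {z : G | z ∈ fourOf r ∧ z ≠ 1}, k * z * k⁻¹ ∈ {z : G | z ∈ fourOf r ∧ z ≠ 1} :=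
      fun k hk z hz => ⟨hnorm k (hOH hk) z hz.1, fun e => hz.2 (by rwa [mul_inv_eq_one, mul_eq_left] at e)⟩
    have hfix := fix_mod_group (c.O_pgroup hd) _ hS'
    rw [show Nat.card {z : G | z ∈ fourOf r ∧ z ≠ 1} = 3 from card_fourOf_sdiff hd hr3] at hfix
    obtain ⟨⟨z, ⟨hz, hz1⟩, hzO⟩⟩ : Nonempty {z : G // z ∈ {z : G | z ∈ fourOf r ∧ z ≠ 1} ∧
        ∀ k ∈ c.O, k * z * k⁻¹ = z} := by
      by_contra hn
      rw [not_nonempty_iff] at hn
      rw [Nat.card_of_isEmpty] at hfix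
      simp [Nat.ModEq] at hfix
    have hxz : ∀ k ∈ c.O, k * (c.x * z * c.x⁻¹) * k⁻¹ = c.x * z * c.x⁻¹ := by
      intro k hk
      rw [show k * (c.x * z * c.x⁻¹) * k⁻¹ = c.x * ((c.x⁻¹ * k * c.x⁻¹⁻¹) * z * (c.x⁻¹ * k * c.x⁻¹⁻¹)⁻¹) * c.x⁻¹ by group,
        hzO _ (c.O_normal (inv_mem (c.x_cz hd)) hk)]
    have hcent : ∀ k ∈ c.O, ∀ z' ∈ fourOf r, Commute k z' := by
      intro k hk z' hz'
      have h1 : Commute k z := mul_inv_eq_iff_eq_mul.1 (hzO k hk)
      have h2 : Commute k (c.x * z * c.x⁻¹) := mul_inv_eq_iff_eq_mul.1 (hxz k hk)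
      rcases c.four_r_cases hd hrP hr hz hz1 hz' with rfl | rfl | rfl | rfl
      exacts [Commute.one_right k, h1, h2, h1.mul_right h2]
    obtain ⟨g, hg⟩ := conj_three hd c.hx hr3
    have hle : c.O.map (MulAut.conj g⁻¹).toMonoidHom ≤ c.A := by
      rintro _ ⟨k, hk, rfl⟩
      have hcv : ∀ z' ∈ fourOf c.x, Commute (g⁻¹ * k * g⁻¹⁻¹) z' := fun z' hz' => by
        have := (hcent k hk _ (hg ▸ fourOf_conj hd c.hx (g := g) hz')).map (MulAut.conj g⁻¹).toMonoidHom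
        simpa [mul_assoc] using this
      refine c.mem_A_of_torsion hd (mem_cz.2 (hcv _ c.ht).eq) (mem_cz.2 (hcv _ c.hu).eq) ?_
      show (g⁻¹ * k * g⁻¹⁻¹) ^ 64 = 1
      rw [conj_pow, c.pow64_of_O hd hk]
      group
    have := card_le_of_le hle
    rw [card_map_of_injective (MulAut.conj g⁻¹).injective, (c.O_facts hd).1, c.A_card16 hd] at this
    omega
  obtain ⟨z₀, hz₀, hz₀1, hj₀⟩ := hsome
  intro e he he1
  obtain ⟨v', hv', z, hz, rfl⟩ := hE e he
  by_cases hv'1 : v' = 1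
  · subst hv'1
    rw [one_mul] at he1 ⊢
    rcases c.four_r_cases hd hrP hr hz₀ hz₀1 hz with rfl | rfl | rfl | rfl
    · exact absurd rfl he1
    · exact hj₀
    · exact hconj _ (hPH _ c.hxP) _ hj₀
    · have hxz : c.x * z₀ * c.x⁻¹ ∈ fourOf r :=
        fourOf_inv hd hr3 (Or.inl (mem_cz'.1 (sylow_le_cz hd c.P hrP c.hxP))) hz₀
      have hne : c.x * z₀ * c.x⁻¹ ≠ z₀ := fun e => hz₀1 (no_fix hd hrP (c.r_ne hrP hr) c.hxP
        (c.x_notMem hd hrP hr) hz₀ (mul_inv_eq_iff_eq_mul.1 e))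
      have hxx : c.x * (c.x * z₀ * c.x⁻¹) * c.x⁻¹ = z₀ * (c.x * z₀ * c.x⁻¹) := by
        rcases c.four_r_cases hd hrP hr hz₀ hz₀1
          (fourOf_inv hd hr3 (Or.inl (mem_cz'.1 (sylow_le_cz hd c.P hrP c.hxP))) hxz) with e | e | e | e
        · rw [mul_inv_eq_one, mul_eq_left, mul_inv_eq_one, mul_eq_left] at e; exact absurd e hz₀1
        · exfalso
          refine hne ?_
          have h3 : c.x * c.x * c.x = 1 := by rw [← pow_three', ← c.hx, pow_orderOf_eq_one]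
          have h := congrArg (fun w => c.x * w * c.x⁻¹) e
          beta_reduce at h
          rw [show c.x * (c.x * (c.x * z₀ * c.x⁻¹) * c.x⁻¹) * c.x⁻¹ =
            (c.x * c.x * c.x) * z₀ * (c.x * c.x * c.x)⁻¹ by group, h3, one_mul, inv_one, mul_one] at h
          exact h.symm
        · exact absurd (mul_left_cancel (mul_right_cancel e)) hne
        · exact e
      rw [← hxx]
      exact hconj _ (hPH _ c.hxP) _ (hconj _ (hPH _ c.hxP) _ hj₀)
  · by_cases hz1 : z = 1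
    · rw [hz1, mul_one]; exact hVorb v' hv' hv'1
    · exact hall v' hv' hv'1 z hz hz1

theorem card_H : Nat.card (normalizer (E c r : Set G)) = 5760 := by
  set H := normalizer (E c r : Set G)
  obtain ⟨-, -, hEc⟩ := c.E_facts hd hrP hr hrA
  have h := card_orbit_conj H c.t {a : G | a ∈ E c r ∧ a ≠ 1}
    (fun k hk => ⟨conj_mem_of_normalizer hk (le_sup_left (b := fourOf r) c.ht),
      fun e => c.ht1 (by rwa [mul_inv_eq_one, mul_eq_left] at e)⟩)
    (fun a ha => c.orbit_E hd hrP hr hrA a ha.1 ha.2)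
  rw [inf_eq_right.2 (c.C_norm_E hd hrP hr hrA), cz_two hd (c.t_ord hd)] at h
  have e : {a : G | a ∈ E c r ∧ a ≠ 1} = (E c r : Set G) \ {1} := rfl
  rw [e, Nat.card_coe_set_eq, Set.ncard_sdiff_singleton_of_mem (one_mem (E c r)), ← Nat.card_coe_set_eq,
    SetLike.coe_sort_coe, hEc] at h
  omega

end Cfg

end Cfsg.Agent.M22Nse38
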