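import Cfsg.Agent.M22Nse38.Three

/-!
# The Sylow 3-subgroups
-/

set_option autoImplicit false

namespace Cfsg.Agent.M22Nse38

open Subgroup
open scoped Pointwise

variable {G : Type*} [Group G] [Finite G] (hd : Dat G)
include hd

local instance : Fact (Nat.Prime 3) := ⟨Nat.prime_three⟩
local instance : Fact (Nat.Prime 2) := ⟨Nat.prime_two⟩

omit hd in
theorem nidx {H : Type*} [Group H] [Finite H] (P : Sylow 3 H) :
    Nat.card (Sylow 3 H) = (normalizer ((P : Subgroup H) : Set H)).index :=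
  Sylow.card_eq_index_normalizer P

theorem card_sylow3 (P : Sylow 3 G) : Nat.card (P : Subgroup G) = 9 := by
  rw [P.card_eq_multiplicity, hd.card, show (443520 : ℕ) = 3 ^ 2 * 49280 from by norm_num,
    Nat.factorization_mul (by norm_num) (by norm_num), Finsupp.add_apply,
    Nat.Prime.factorization_pow Nat.prime_three, Finsupp.single_eq_same,
    Nat.factorization_eq_zero_of_not_dvd (by norm_num)]
  norm_num

theorem sylow3_comm (P : Sylow 3 G) {a b : G} (ha : a ∈ (P : Subgroup G)) (hb : b ∈ (P : Subgroup G)) :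
    Commute a b :=
  congrArg Subtype.val (IsPGroup.commutative_of_card_eq_prime_sq (p := 3)
    (show Nat.card (P : Subgroup G) = 3 ^ 2 by rw [card_sylow3 hd]; rfl) ⟨a, ha⟩ ⟨b, hb⟩)

theorem sylow3_orderOf (P : Sylow 3 G) {a : G} (ha : a ∈ (P : Subgroup G)) (h1 : a ≠ 1) :
    orderOf a = 3 := by
  have h := orderOf_dvd_natCard (⟨a, ha⟩ : (P : Subgroup G))
  rw [← Subgroup.orderOf_coe, card_sylow3 hd P] at h
  have h' := hd.spec a
  simp only [List.mem_cons, List.not_mem_nil, or_false] at h'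
  have := Nat.le_of_dvd (by norm_num) h
  have hne : orderOf a ≠ 1 := fun e => h1 (orderOf_eq_one_iff.1 e)
  rcases h' with e | e | e | e | e | e | e | e | e <;> first | exact e | (rw [e] at h hne; omega)

theorem sylow_le_cz (P : Sylow 3 G) {a : G} (ha : a ∈ (P : Subgroup G)) : (P : Subgroup G) ≤ cz a :=
  fun _ hw => mem_cz.2 (sylow3_comm hd P hw ha).eq

theorem fourOf_conj {x : G} (hx : orderOf x = 3) {g w : G} (hw : w ∈ fourOf x) :
    g * w * g⁻¹ ∈ fourOf (g * x * g⁻¹) := by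
  obtain ⟨h1, h2⟩ := (mem_fourOf hd hx).1 hw
  exact (mem_fourOf hd ((orderOf_conj g x).trans hx)).2
    ⟨by rw [conj_pow, h1]; group, h2.map (MulAut.conj g).toMonoidHom⟩

/-- Conjugation by the centraliser, or by an element inverting `x`, fixes the four group. -/
theorem fourOf_inv {x : G} (hx : orderOf x = 3) {g : G} (hg : g * x * g⁻¹ = x ∨ g * x * g⁻¹ = x⁻¹)
    {w : G} (hw : w ∈ fourOf x) : g * w * g⁻¹ ∈ fourOf x := by
  obtain ⟨h1, h2⟩ := (mem_fourOf hd hx).1 hw
  refine (mem_fourOf hd hx).2 ⟨by rw [conj_pow, h1]; group, ?_⟩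
  have h := h2.map (MulAut.conj g).toMonoidHom
  simp only [MulEquiv.coe_toMonoidHom, MulAut.conj_apply] at h
  rcases hg with e | e <;> rw [e] at h
  · exact h
  · simpa using h.inv_left

theorem card_fourOf_sdiff {x : G} (hx : orderOf x = 3) :
    Nat.card {w : G // w ∈ fourOf x ∧ w ≠ 1} = 3 := by
  have e : Nat.card {w : G // w ∈ fourOf x ∧ w ≠ 1} = Nat.card {w : G // orderOf w = 2 ∧ Commute x w} := by
    refine Nat.card_congr (Equiv.subtypeEquivRight fun w => ?_)
    rw [mem_fourOf hd hx]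
    exact ⟨fun h => ⟨orderOf_eq_prime h.1.1 h.2, h.1.2⟩, fun h =>
      ⟨⟨orderOf_dvd_iff_pow_eq_one.1 (dvd_of_eq h.1), h.2⟩, fun e => by simp [e] at h⟩⟩
  rw [e, (cz_three hd hx).2]

theorem le_of_normalizes {P : Sylow 3 G} {Q : Subgroup G} (hQ : IsPGroup 3 Q)
    (h : Q ≤ normalizer ((P : Subgroup G) : Set G)) : Q ≤ (P : Subgroup G) := by
  rw [← inf_eq_left]
  have := hQ.inf_normalizer_sylow P
  change Q ⊓ normalizer ((P : Subgroup G) : Set G) = Q ⊓ (P : Subgroup G) at this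
  rw [inf_eq_left.2 h] at this
  exact this.symm

/-- A Sylow 3-subgroup is its own centraliser. -/
theorem cent_sylow3 (P : Sylow 3 G) {w : G} (hw : ∀ r ∈ (P : Subgroup G), Commute r w) :
    w ∈ (P : Subgroup G) := by
  classical
  by_contra hwP
  set CR := centralizer ((P : Subgroup G) : Set G) with hCR
  have hmemCR : ∀ {g : G}, g ∈ CR ↔ ∀ r ∈ (P : Subgroup G), Commute r g := by
    intro g; exact mem_centralizer_iff
  have hPCR : (P : Subgroup G) ≤ CR := fun a ha => hmemCR.2 fun r hr => sylow3_comm hd P hr ha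
  have hlt : (P : Subgroup G) < CR := lt_of_le_of_ne hPCR fun e => hwP (e ▸ hmemCR.2 hw)
  obtain ⟨x, hxP, hx1⟩ : ∃ x ∈ (P : Subgroup G), x ≠ 1 := by
    have h := (P : Subgroup G).one_lt_card_iff_ne_bot.1 (by rw [card_sylow3 hd]; norm_num)
    obtain ⟨a, ha⟩ := (ne_bot_iff_exists_ne_one.1 h)
    exact ⟨a.1, a.2, fun e => ha (Subtype.ext e)⟩
  have hx := sylow3_orderOf hd P hxP hx1
  have hle : CR ≤ cz x := fun g hg => mem_cz.2 ((hmemCR.1 hg x hxP).symm.eq)
  -- an involution centralising P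
  have heven : 2 ∣ Nat.card CR := by
    obtain ⟨m, hm⟩ : 9 ∣ Nat.card CR := card_sylow3 hd P ▸ card_dvd_of_le hPCR
    have h36 : Nat.card CR ∣ 36 := (cz_three hd hx).1 ▸ card_dvd_of_le hle
    have hm1 : m ≠ 1 := fun e => hlt.ne (eq_of_le_of_card_ge hPCR (by rw [hm, e, card_sylow3 hd]))
    have hm4 : m ∣ 4 := Nat.dvd_of_mul_dvd_mul_left (by norm_num : 0 < 9) (hm ▸ h36)
    have := Nat.le_of_dvd (by norm_num) hm4
    interval_cases m <;> omega
  obtain ⟨u, hu⟩ := exists_prime_orderOf_dvd_card' (G := CR) 2 heven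
  have hu2 : orderOf u.1 = 2 := by rw [Subgroup.orderOf_coe, hu]
  have huP := hmemCR.1 u.2
  -- P centralises every four group
  have hfour : ∀ r ∈ (P : Subgroup G), r ≠ 1 → ∀ v ∈ fourOf r, v ∈ CR := by
    intro r hr hr1 v hv
    have hr3 := sylow3_orderOf hd P hr hr1
    have hS : ∀ k ∈ (P : Subgroup G), ∀ z ∈ {z : G | z ∈ fourOf r ∧ z ≠ 1},
        k * z * k⁻¹ ∈ {z : G | z ∈ fourOf r ∧ z ≠ 1} := by
      rintro k hk z ⟨hz, hz1⟩
      refine ⟨fourOf_inv hd hr3 (Or.inl ?_) hz, fun e => hz1 ?_⟩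
      · rw [mul_inv_eq_iff_eq_mul]; exact sylow3_comm hd P hk hr
      · rwa [mul_inv_eq_one, mul_eq_left] at e
    have h := fix_mod_group P.2 _ hS
    have hcS : Nat.card {z : G | z ∈ fourOf r ∧ z ≠ 1} = 3 := card_fourOf_sdiff hd hr3
    rw [hcS] at h
    set F := {z : G // z ∈ {z : G | z ∈ fourOf r ∧ z ≠ 1} ∧ ∀ k ∈ (P : Subgroup G), k * z * k⁻¹ = z}
      with hF
    have hu1 : u.1 ≠ 1 := fun e => by rw [e, orderOf_one] at hu2; omega
    have hne : 0 < Nat.card F := Nat.card_pos_iff.2 ⟨⟨⟨u.1,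
      ⟨(mem_fourOf hd hr3).2 ⟨orderOf_dvd_iff_pow_eq_one.1 (dvd_of_eq hu2), huP r hr⟩, hu1⟩,
      fun k hk => by rw [mul_inv_eq_iff_eq_mul]; exact huP k hk⟩⟩, inferInstance⟩
    let f : F → {z : G | z ∈ fourOf r ∧ z ≠ 1} := fun z => ⟨z.1, z.2.1⟩
    have hinj : Function.Injective f := fun a b e => Subtype.ext (congrArg Subtype.val e :)
    have hle' : Nat.card F ≤ 3 := hcS ▸ Nat.card_le_card_of_injective f hinj
    have h3 : Nat.card F = 3 := by
      unfold Nat.ModEq at h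
      omega
    by_cases hv1 : v = 1
    · exact hv1 ▸ one_mem _
    · obtain ⟨z, hz⟩ := ((Nat.bijective_iff_injective_and_card f).2 ⟨hinj, h3.trans hcS.symm⟩).2
        ⟨v, hv, hv1⟩
      have e : z.1 = v := congrArg Subtype.val hz
      refine hmemCR.2 fun k hk => ?_
      rw [← e]
      exact mul_inv_eq_iff_eq_mul.1 (z.2.2 k hk)
  have hcz : ∀ r ∈ (P : Subgroup G), r ≠ 1 → cz r = CR := by
    intro r hr hr1
    have hr3 := sylow3_orderOf hd P hr hr1
    refine (eq_of_le_of_card_ge (fun g hg => mem_cz.2 ((hmemCR.1 hg r hr).symm.eq)) ?_).symm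
    rw [(cz_three hd hr3).1]
    have h4 : 4 ∣ Nat.card CR := card_fourOf hd hr3 ▸ card_dvd_of_le (fun v hv => hfour r hr hr1 v hv)
    have h9 : 9 ∣ Nat.card CR := card_sylow3 hd P ▸ card_dvd_of_le hPCR
    exact Nat.le_of_dvd Nat.card_pos (Nat.Coprime.mul_dvd_of_dvd_of_dvd (by norm_num : Nat.Coprime 4 9) h4 h9)
  have hnormP : CR ≤ normalizer ((P : Subgroup G) : Set G) := centralizer_le_normalizer _
  -- trivial intersections
  have hTI : ∀ (Q : Sylow 3 G) (c : G), c * x * c⁻¹ ∈ (Q : Subgroup G) → Q = c • P := by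
    intro Q c hc
    suffices h : ((c⁻¹ • Q : Sylow 3 G) : Subgroup G) ≤ (P : Subgroup G) by
      rw [← inv_smul_eq_iff]
      exact Sylow.ext (eq_of_le_of_card_ge h (by rw [card_sylow3 hd, card_sylow3 hd]))
    refine le_of_normalizes hd (c⁻¹ • Q).2 (le_trans ?_ hnormP)
    rw [← hcz x hxP hx1]
    refine sylow_le_cz hd _ ?_
    rw [Sylow.coe_subgroup_smul, mem_pointwise_smul_iff_inv_smul_mem]
    simpa [MulAut.smul_def] using hc
  have huniq : ∀ (Q₁ Q₂ : Sylow 3 G) (a : G), a ≠ 1 → a ∈ (Q₁ : Subgroup G) →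
      a ∈ (Q₂ : Subgroup G) → Q₁ = Q₂ := by
    intro Q₁ Q₂ a ha h1 h2
    obtain ⟨c, rfl⟩ := conj_three hd hx (sylow3_orderOf hd Q₁ h1 ha)
    rw [hTI Q₁ c h1, hTI Q₂ c h2]
  have hn3 : Nat.card (Sylow 3 G) * 8 = 12320 := by
    rw [← hd.s3, sn]
    have := Fintype.ofFinite (Sylow 3 G)
    let f : (Σ Q : Sylow 3 G, {a : (Q : Subgroup G) // a ≠ 1}) → {g : G // orderOf g = 3} := fun z =>
      ⟨z.2.1.1, sylow3_orderOf hd z.1 z.2.1.2 fun e => z.2.2 (Subtype.ext e)⟩
    have hb : Function.Bijective f := by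
      constructor
      · rintro ⟨Q, ⟨⟨a, ha⟩, ha1⟩⟩ ⟨Q', ⟨⟨a', ha'⟩, ha1'⟩⟩ e
        have e' : a = a' := congrArg Subtype.val e
        subst e'
        obtain rfl := huniq Q Q' a (fun e => ha1 (Subtype.ext e)) ha ha'
        rfl
      · rintro ⟨g, hg⟩
        obtain ⟨Q, hQ⟩ := SmallGroups.exists_mem_sylow (p := 3) hg
        exact ⟨⟨Q, ⟨⟨g, hQ⟩, fun e => by
          have : g = 1 := congrArg Subtype.val e
          simp [this] at hg⟩⟩, rfl⟩
    rw [← Nat.card_eq_of_bijective f hb, Nat.card_sigma, Finset.sum_congr rfl (fun Q _ => ?_),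
      Finset.sum_const, Finset.card_univ, smul_eq_mul, Nat.card_eq_fintype_card]
    have := Fintype.ofFinite (Q : Subgroup G)
    rw [Nat.card_eq_fintype_card, Fintype.card_subtype_compl, Fintype.card_subtype_eq,
      ← Nat.card_eq_fintype_card, card_sylow3 hd]
  set N := normalizer ((P : Subgroup G) : Set G) with hN
  have hNc : Nat.card N = 288 := by
    have h1 := N.index_mul_card
    rw [hd.card, hN, ← nidx P, show Nat.card (Sylow 3 G) = 1540 by omega] at h1
    rw [hN]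
    omega
  -- an involution of C(x) fixed by a Sylow 2-subgroup of N(P)
  obtain ⟨S⟩ : Nonempty (Sylow 2 N) := inferInstance
  set S' := (S : Subgroup N).map N.subtype with hS'
  have hS'c : 32 ∣ Nat.card S' := by
    rw [hS', card_map_of_injective N.subtype_injective]
    exact S.pow_dvd_card_of_pow_dvd_card (n := 5) (by rw [hNc]; norm_num)
  have hfN : ∀ k ∈ S', ∀ z ∈ {z : G | z ∈ fourOf x ∧ z ≠ 1},
      k * z * k⁻¹ ∈ {z : G | z ∈ fourOf x ∧ z ≠ 1} := by
    rintro k hk z ⟨hz, hz1⟩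
    obtain ⟨k', -, rfl⟩ := hk
    refine ⟨(mem_fourOf hd hx).2 ⟨?_, ?_⟩, fun e => hz1 ?_⟩
    · rw [conj_pow, ((mem_fourOf hd hx).1 hz).1]; group
    · have hk' := mem_normalizer_iff.1 (inv_mem k'.2) x
      have hpre : (k' : G)⁻¹ * x * k' ∈ (P : Subgroup G) := by simpa using hk'.1 hxP
      have := ((hmemCR.1 (hfour x hxP hx1 z hz)) _ hpre).map (MulAut.conj (k' : G)).toMonoidHom
      simpa [mul_assoc] using this
    · rwa [mul_inv_eq_one, mul_eq_left] at e
  have hS'p : IsPGroup 2 S' := S.2.map _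
  have hfix := fix_mod_group hS'p _ hfN
  rw [show Nat.card {z : G | z ∈ fourOf x ∧ z ≠ 1} = 3 from card_fourOf_sdiff hd hx] at hfix
  obtain ⟨⟨v, ⟨hv, hv1⟩, hvS⟩⟩ : Nonempty {z : G // z ∈ {z : G | z ∈ fourOf x ∧ z ≠ 1} ∧
      ∀ k ∈ S', k * z * k⁻¹ = z} := by
    by_contra hc
    rw [not_nonempty_iff] at hc
    rw [Nat.card_of_isEmpty] at hfix
    simp [Nat.ModEq] at hfix
  have hv2 : orderOf v = 2 := orderOf_eq_prime ((mem_fourOf hd hx).1 hv).1 hv1
  have hPv : (P : Subgroup G) ≤ cz v := fun r hr => mem_cz.2 (hmemCR.1 (hfour x hxP hx1 v hv) r hr)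
  have hSv : S' ≤ cz v := fun k hk => mem_cz'.2 (hvS k hk)
  have hS'N : S' ≤ N := map_subtype_le _
  have h288 : 288 ∣ Nat.card ↥(N ⊓ cz v) := by
    refine Nat.Coprime.mul_dvd_of_dvd_of_dvd (m := 32) (n := 9) (by norm_num) ?_ ?_
    · exact hS'c.trans (card_dvd_of_le (le_inf hS'N hSv))
    · exact card_sylow3 hd P ▸ card_dvd_of_le (le_inf le_normalizer hPv)
  have hNv : N ≤ cz v := by
    have := eq_of_le_of_card_ge (inf_le_left : N ⊓ cz v ≤ N)
      (hNc ▸ Nat.le_of_dvd Nat.card_pos h288)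
    exact this ▸ inf_le_right
  obtain ⟨m, hm⟩ : 288 ∣ Nat.card (cz v) := hNc ▸ card_dvd_of_le hNv
  have hm' : m = 4 := by
    set Pv := P.subtype hPv
    have h1 := (normalizer ((Pv : Subgroup (cz v)) : Set (cz v))).index_mul_card
    have hNP : Nat.card (normalizer ((Pv : Subgroup (cz v)) : Set (cz v))) = 288 := by
      rw [← hNc, ← Nat.card_congr (subgroupOfEquivOfLe hNv).toEquiv]
      refine congrArg (fun K : Subgroup (cz v) => Nat.card K) ?_
      rw [Sylow.coe_subtype, hN]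
      exact (subgroupOf_normalizer_eq hPv).symm
    rw [hNP, ← nidx, hm] at h1
    have hmod := card_sylow_modEq_one 3 (cz v)
    have hmd : m ∣ 4 := Nat.dvd_of_mul_dvd_mul_left (by norm_num : 0 < 288)
      (hm ▸ cz_dvd hd (Or.inl hv2))
    have hle2 := SmallGroups.card_conj_mul_centralizer v
    rw [hd.card, show Nat.card (centralizer ({v} : Set G)) = 288 * m from hm] at hle2
    have hcl := (class_le hd v).trans (le_of_eq (by rw [hv2, hd.s2]))
    have hmle := Nat.le_of_dvd (by norm_num) hmd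
    have : Nat.card (Sylow 3 (cz v)) = m := by omega
    rw [this, Nat.ModEq] at hmod
    interval_cases m <;> omega
  subst hm'
  have hn4 : Nat.card (Sylow 3 (cz v)) = 4 := by
    set Pv := P.subtype hPv
    have h1 := (normalizer ((Pv : Subgroup (cz v)) : Set (cz v))).index_mul_card
    have hNP : Nat.card (normalizer ((Pv : Subgroup (cz v)) : Set (cz v))) = 288 := by
      rw [← hNc, ← Nat.card_congr (subgroupOfEquivOfLe hNv).toEquiv]
      refine congrArg (fun K : Subgroup (cz v) => Nat.card K) ?_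
      rw [Sylow.coe_subtype, hN]
      exact (subgroupOf_normalizer_eq hPv).symm
    rw [hNP, ← nidx, hm] at h1
    omega
  set φ := MulAction.toPermHom (cz v) (Sylow 3 (cz v))
  have hker : 3 ∣ Nat.card φ.ker := by
    have h1 : Nat.card φ.range ∣ 24 := by
      refine (card_subgroup_dvd_card φ.range).trans (dvd_of_eq ?_)
      rw [Nat.card_perm, hn4]
      rfl
    have h2 := φ.ker.index_mul_card
    rw [index_ker, hm] at h2
    obtain ⟨c, hc⟩ := h1
    have hr : Nat.card φ.range ≠ 0 := Nat.card_pos.ne'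
    have : Nat.card φ.range * Nat.card φ.ker = Nat.card φ.range * (c * 48) := by
      rw [h2, ← mul_assoc, ← hc]; norm_num
    rw [Nat.eq_of_mul_eq_mul_left (Nat.pos_of_ne_zero hr) this]
    exact dvd_mul_of_dvd_right (by norm_num) c
  obtain ⟨k, hk⟩ := exists_prime_orderOf_dvd_card' (G := φ.ker) 3 hker
  have hk3 : orderOf k.1 = 3 := by rw [Subgroup.orderOf_coe, hk]
  have hall : ∀ Q : Sylow 3 (cz v), k.1 ∈ (Q : Subgroup (cz v)) := by
    intro Q
    have hfixQ : k.1 • Q = Q := by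
      have := Equiv.ext_iff.1 (MonoidHom.mem_ker.1 k.2) Q
      simpa [φ] using this
    have hmem := Sylow.smul_eq_iff_mem_normalizer.1 hfixQ
    have hz : zpowers k.1 ≤ (Q : Subgroup (cz v)) := by
      have hp : IsPGroup 3 (zpowers k.1) := IsPGroup.of_card (n := 1) (by rw [Nat.card_zpowers, hk3]; rfl)
      rw [← inf_eq_left]
      have h' := hp.inf_normalizer_sylow Q
      change zpowers k.1 ⊓ normalizer ((Q : Subgroup (cz v)) : Set (cz v)) = zpowers k.1 ⊓ (Q : Subgroup (cz v)) at h'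
      rw [inf_eq_left.2 (show zpowers k.1 ≤ normalizer ((Q : Subgroup (cz v)) : Set (cz v)) from zpowers_le.2 hmem)] at h'
      exact h'.symm
    exact hz (mem_zpowers _)
  obtain ⟨Q₁, Q₂, hne⟩ : ∃ Q₁ Q₂ : Sylow 3 (cz v), Q₁ ≠ Q₂ := by
    have : 1 < Nat.card (Sylow 3 (cz v)) := by omega
    exact (Finite.one_lt_card_iff_nontrivial.1 this).exists_pair_ne
  have hk1 : (k.1 : G) ≠ 1 := fun e => by
    have : k.1 = 1 := Subtype.ext e
    simp [this] at hk3
  have hup : ∀ Q : Sylow 3 (cz v), ∃ Q' : Sylow 3 G, (Q : Subgroup (cz v)).map (cz v).subtype = Q' := by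
    intro Q
    refine ⟨Sylow.ofCard ((Q : Subgroup (cz v)).map (cz v).subtype) ?_, rfl⟩
    rw [card_map_of_injective (cz v).subtype_injective, Q.card_eq_multiplicity, hm, hd.card,
      show (443520 : ℕ) = 3 ^ 2 * 49280 from by norm_num,
      show 288 * 4 = 3 ^ 2 * 128 from by norm_num,
      Nat.factorization_mul (by norm_num) (by norm_num),
      Nat.factorization_mul (by norm_num) (by norm_num), Finsupp.add_apply, Finsupp.add_apply,
      Nat.factorization_eq_zero_of_not_dvd (show ¬ 3 ∣ 49280 by norm_num),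
      Nat.factorization_eq_zero_of_not_dvd (show ¬ 3 ∣ 128 by norm_num)]
  obtain ⟨Q₁', h1'⟩ := hup Q₁
  obtain ⟨Q₂', h2'⟩ := hup Q₂
  have he := huniq Q₁' Q₂' _ hk1 (h1' ▸ mem_map_of_mem _ (hall Q₁)) (h2' ▸ mem_map_of_mem _ (hall Q₂))
  exact hne (Sylow.ext (map_injective (cz v).subtype_injective (by rw [h1', h2', he])))

/-- The other elements of a Sylow 3-subgroup fix nothing in a four group. -/
theorem no_fix {P : Sylow 3 G} {r r' w : G} (hr : r ∈ (P : Subgroup G)) (hr1 : r ≠ 1)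
    (hr' : r' ∈ (P : Subgroup G)) (hr'z : r' ∉ zpowers r) (hw : w ∈ fourOf r) (hc : Commute r' w) :
    w = 1 := by
  have hr3 := sylow3_orderOf hd P hr hr1
  obtain ⟨hw2, hwc⟩ := (mem_fourOf hd hr3).1 hw
  set K := (P : Subgroup G) ⊓ cz w
  have h1 : r ∈ K := ⟨hr, mem_cz.2 hwc.eq⟩
  have h2 : r' ∈ K := ⟨hr', mem_cz.2 hc.eq⟩
  have hd9 : Nat.card K ∣ 3 ^ 2 := by
    have := card_dvd_of_le (inf_le_left : K ≤ (P : Subgroup G))
    rw [card_sylow3 hd] at this
    norm_num
    exact this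
  obtain ⟨i, hi, hKi⟩ := (Nat.dvd_prime_pow Nat.prime_three).1 hd9
  have hK3 : 3 < Nat.card K := by
    have hz : zpowers r ≤ K := zpowers_le.2 h1
    have hlt : zpowers r < K := lt_of_le_of_ne hz fun e => hr'z (e ▸ h2)
    rw [← hr3, ← Nat.card_zpowers]
    exact lt_of_le_of_ne (card_le_of_le hz) fun e => hlt.ne (eq_of_le_of_card_ge hz e.ge)
  have hKP : K = (P : Subgroup G) := eq_of_le_of_card_ge inf_le_left (by
    rw [card_sylow3 hd]
    interval_cases i <;> omega)
  have hwP := cent_sylow3 hd P fun a ha => mem_cz.1 (show a ∈ cz w from (hKP.symm ▸ ha : a ∈ K).2)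
  by_contra hw1
  have := sylow3_orderOf hd P hwP hw1
  rw [orderOf_eq_prime hw2 hw1] at this
  omega

theorem self_norm {P : Sylow 3 G} {x w : G} (hx : x ∈ (P : Subgroup G)) (hx1 : x ≠ 1) (hw : w ∈ cz x)
    (hn : w ∈ normalizer ((P : Subgroup G) : Set G)) : w ∈ (P : Subgroup G) := by
  have hx3 := sylow3_orderOf hd P hx hx1
  set N := cz x ⊓ normalizer ((P : Subgroup G) : Set G)
  have hPN : (P : Subgroup G) ≤ N := le_inf (sylow_le_cz hd P hx) le_normalizer
  by_contra hwP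
  obtain ⟨m, hm⟩ : 9 ∣ Nat.card N := card_sylow3 hd P ▸ card_dvd_of_le hPN
  have hm4 : m ∣ 4 := by
    have := card_dvd_of_le (inf_le_left : N ≤ cz x)
    rw [(cz_three hd hx3).1, hm] at this
    exact Nat.dvd_of_mul_dvd_mul_left (by norm_num : 0 < 9) this
  have hm1 : m ≠ 1 := fun e => hwP
    ((eq_of_le_of_card_ge hPN (by rw [hm, e, card_sylow3 hd])) ▸ (⟨hw, hn⟩ : w ∈ N))
  have h2 : 2 ∣ Nat.card N := by
    have := Nat.le_of_dvd (by norm_num) hm4
    interval_cases m <;> omega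
  obtain ⟨⟨v, hvc, hvn⟩, hv⟩ := exists_prime_orderOf_dvd_card' (G := N) 2 h2
  have hv2 : orderOf v = 2 := by rw [← hv]; exact Subgroup.orderOf_coe (⟨v, hvc, hvn⟩ : N)
  have hvF : v ∈ fourOf x := (mem_fourOf hd hx3).2
    ⟨orderOf_dvd_iff_pow_eq_one.1 (dvd_of_eq hv2), (mem_cz.1 hvc).symm⟩
  have hvP : v ∈ (P : Subgroup G) := cent_sylow3 hd P fun r hr => by
    by_contra hne
    set c := v * r * v⁻¹ * r⁻¹ with hc
    have h1 : c ∈ (P : Subgroup G) := mul_mem ((mem_normalizer_iff.1 hvn r).1 hr) (inv_mem hr)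
    have h2 : c ∈ fourOf x := by
      rw [show c = v * (r * v⁻¹ * r⁻¹) by rw [hc]; group]
      refine mul_mem hvF (fourOf_inv hd hx3 (Or.inl ?_) (inv_mem hvF))
      rw [mul_inv_eq_iff_eq_mul]; exact sylow3_comm hd P hr hx
    have hc1 : c = 1 := by
      by_contra hne'
      have := sylow3_orderOf hd P h1 hne'
      rw [orderOf_eq_prime ((mem_fourOf hd hx3).1 h2).1 hne'] at this
      omega
    refine hne ?_
    rw [hc, mul_inv_eq_one, mul_inv_eq_iff_eq_mul] at hc1
    exact hc1.symm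
  have := orderOf_dvd_natCard (⟨v, hvP⟩ : (P : Subgroup G))
  rw [← Subgroup.orderOf_coe, hv2, card_sylow3 hd] at this
  omega

theorem card_sylow3_cz {x : G} (hx : orderOf x = 3) : Nat.card (Sylow 3 (cz x)) = 4 := by
  obtain ⟨P, hP⟩ := SmallGroups.exists_mem_sylow (p := 3) hx
  have hx1 : x ≠ 1 := fun e => by simp [e] at hx
  have hle := sylow_le_cz hd P hP
  set Pv := P.subtype hle
  have h1 := (normalizer ((Pv : Subgroup (cz x)) : Set (cz x))).index_mul_card
  have hN : Nat.card (normalizer ((Pv : Subgroup (cz x)) : Set (cz x))) = 9 := by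
    rw [← card_sylow3 hd P, ← Nat.card_congr (subgroupOfEquivOfLe hle).toEquiv]
    refine congrArg (fun K : Subgroup (cz x) => Nat.card K) ?_
    rw [Sylow.coe_subtype, ← subgroupOf_normalizer_eq hle]
    refine le_antisymm (fun w hw => self_norm hd hP hx1 w.2 hw) ?_
    exact comap_mono le_normalizer
  rw [hN, ← nidx, (cz_three hd hx).1] at h1
  omega

theorem card_normalizer (P : Sylow 3 G) :
    Nat.card (normalizer ((P : Subgroup G) : Set G)) = 72 := by
  classical
  have := Fintype.ofFinite G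
  have := Fintype.ofFinite (Sylow 3 G)
  have h1 : ∀ Q : Sylow 3 G, Nat.card {a : G // a ∈ (Q : Subgroup G) ∧ a ≠ 1} = 8 := by
    intro Q
    have e : {a : G // a ∈ (Q : Subgroup G) ∧ a ≠ 1} ≃ {a : (Q : Subgroup G) // a ≠ 1} :=
      { toFun := fun a => ⟨⟨a.1, a.2.1⟩, fun e => a.2.2 (congrArg Subtype.val e :)⟩
        invFun := fun a => ⟨a.1.1, a.1.2, fun e => a.2 (Subtype.ext e)⟩
        left_inv := fun _ => rfl
        right_inv := fun _ => rfl }
    rw [Nat.card_congr e, Nat.card_eq_fintype_card, Fintype.card_subtype_compl,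
      Fintype.card_subtype_eq, ← Nat.card_eq_fintype_card, card_sylow3 hd]
  have h2 : ∀ y : {y : G // orderOf y = 3}, Nat.card {Q : Sylow 3 G // y.1 ∈ (Q : Subgroup G)} = 4 := by
    rintro ⟨y, hy⟩
    rw [← card_sylow3_cz hd hy]
    refine Nat.card_eq_of_bijective (fun Q => Q.1.subtype (sylow_le_cz hd Q.1 Q.2)) ⟨?_, ?_⟩
    · intro Q Q' e
      exact Subtype.ext (Sylow.subtype_injective (hP := sylow_le_cz hd Q.1 Q.2) (hQ := sylow_le_cz hd Q'.1 Q'.2) e)
    · intro T
      have hc : Nat.card ((T : Subgroup (cz y)).map (cz y).subtype) = 9 := by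
        rw [card_map_of_injective (cz y).subtype_injective, T.card_eq_multiplicity, (cz_three hd hy).1,
          show (36 : ℕ) = 3 ^ 2 * 4 from by norm_num, Nat.factorization_mul (by norm_num) (by norm_num),
          Finsupp.add_apply, Nat.Prime.factorization_pow Nat.prime_three, Finsupp.single_eq_same,
          Nat.factorization_eq_zero_of_not_dvd (show ¬ 3 ∣ 4 by norm_num)]
        norm_num
      let T' : Sylow 3 G := Sylow.ofCard ((T : Subgroup (cz y)).map (cz y).subtype) (by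
        rw [hc, ← card_sylow3 hd P, ← P.card_eq_multiplicity])
      have hy' : y ∈ (T' : Subgroup G) := by
        have hle : (T' : Subgroup G) ≤ cz y := map_subtype_le _
        refine cent_sylow3 hd T' fun r hr => mem_cz.1 (hle hr)
      refine ⟨⟨T', hy'⟩, Sylow.ext ?_⟩
      show ((T : Subgroup (cz y)).map (cz y).subtype).subgroupOf (cz y) = T
      exact comap_map_eq_self_of_injective (cz y).subtype_injective _
  have hdc : Nat.card (Σ Q : Sylow 3 G, {a : G // a ∈ (Q : Subgroup G) ∧ a ≠ 1}) =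
      Nat.card (Σ y : {y : G // orderOf y = 3}, {Q : Sylow 3 G // y.1 ∈ (Q : Subgroup G)}) :=
    Nat.card_congr
      { toFun := fun z => ⟨⟨z.2.1, sylow3_orderOf hd z.1 z.2.2.1 z.2.2.2⟩, ⟨z.1, z.2.2.1⟩⟩
        invFun := fun z => ⟨z.2.1, ⟨z.1.1, z.2.2, fun e => by have := z.1.2; simp [e] at this⟩⟩
        left_inv := fun _ => rfl
        right_inv := fun _ => rfl }
  rw [Nat.card_sigma, Nat.card_sigma, Finset.sum_congr rfl (fun Q _ => h1 Q),
    Finset.sum_congr rfl (fun y _ => h2 y), Finset.sum_const, Finset.sum_const, Finset.card_univ,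
    Finset.card_univ, ← Nat.card_eq_fintype_card, ← Nat.card_eq_fintype_card, ← sn, hd.s3,
    smul_eq_mul, smul_eq_mul, nidx P] at hdc
  have h3 := (normalizer ((P : Subgroup G) : Set G)).index_mul_card
  rw [hd.card] at h3
  have : (normalizer ((P : Subgroup G) : Set G)).index = 6160 := by omega
  rw [this] at h3
  omega

theorem cz_two {u : G} (hu : orderOf u = 2) : Nat.card (cz u) = 384 := by
  have h1 := SmallGroups.card_conj_mul_centralizer u
  have h2 := (class_le hd u).trans (le_of_eq (by rw [hu, hd.s2]))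
  rw [hd.card, show Nat.card (centralizer ({u} : Set G)) = Nat.card (cz u) from rfl] at h1
  have h9 : ¬ 9 ∣ Nat.card (cz u) := by
    intro h
    obtain ⟨T⟩ : Nonempty (Sylow 3 (cz u)) := inferInstance
    have hc : Nat.card ((T : Subgroup (cz u)).map (cz u).subtype) = 9 := by
      rw [card_map_of_injective (cz u).subtype_injective]
      have h3 : 3 ^ 2 ∣ Nat.card (T : Subgroup (cz u)) := T.pow_dvd_card_of_pow_dvd_card (by norm_num; exact h)
      obtain ⟨i, hi⟩ := T.2.exists_card_eq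
      have h4 : 3 ^ i ∣ 3 ^ 2 * 49280 := by
        rw [← hi, show (3 : ℕ) ^ 2 * 49280 = Nat.card G by rw [hd.card]; norm_num]
        exact (card_subgroup_dvd_card _).trans (card_subgroup_dvd_card _)
      have h5 : 3 ^ i ∣ 3 ^ 2 := (Nat.Coprime.pow_left i (by norm_num)).dvd_of_dvd_mul_right h4
      rw [hi] at h3 ⊢
      exact (Nat.dvd_antisymm h5 h3).trans (by norm_num)
    let T' : Sylow 3 G := Sylow.ofCard ((T : Subgroup (cz u)).map (cz u).subtype) (by
      obtain ⟨P, -⟩ : ∃ P : Sylow 3 G, True := ⟨default, trivial⟩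
      rw [hc, ← card_sylow3 hd P, ← P.card_eq_multiplicity])
    have hle : (T' : Subgroup G) ≤ cz u := map_subtype_le _
    have huT := cent_sylow3 hd T' fun r hr => mem_cz.1 (hle hr)
    have := sylow3_orderOf hd T' huT fun e => by simp [e] at hu
    omega
  have h384 : Nat.card (cz u) ∣ 2 ^ 7 * 3 := by
    have h := cz_dvd hd (Or.inl hu)
    rw [show 2 ^ 7 * 9 = 2 ^ 7 * 3 * 3 from by norm_num] at h
    by_contra hn
    obtain ⟨a, b, ha, hb, hab⟩ : ∃ a b, a ∣ 2 ^ 7 ∧ b ∣ 3 ^ 2 ∧ Nat.card (cz u) = a * b := by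
      obtain ⟨a, b, ha, hb, e⟩ := exists_dvd_and_dvd_of_dvd_mul
        (show Nat.card (cz u) ∣ 2 ^ 7 * 3 ^ 2 by norm_num at h ⊢; exact h)
      exact ⟨a, b, ha, hb, e⟩
    obtain ⟨j, hj, rfl⟩ := (Nat.dvd_prime_pow Nat.prime_three).1 hb
    interval_cases j
    · exact hn (hab ▸ (mul_one a).symm ▸ dvd_mul_of_dvd_left ha 3)
    · exact hn (hab ▸ Nat.mul_dvd_mul_right ha 3)
    · exact h9 (hab ▸ dvd_mul_left 9 a)
  have := Nat.le_of_dvd (by norm_num) h384
  nlinarith

theorem conj_two {u w : G} (hu : orderOf u = 2) (hw : orderOf w = 2) : ∃ c : G, c * u * c⁻¹ = w := by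
  refine conj_of_class hd hu ?_ hw
  have h1 := SmallGroups.card_conj_mul_centralizer u
  rw [hd.card, show Nat.card (centralizer ({u} : Set G)) = 384 from cz_two hd hu] at h1
  rw [hd.s2]
  omega

/-- No element of order five normalises a nontrivial 3-subgroup. -/
theorem no5_norm {w : G} (hw : orderOf w = 5) (Q : Subgroup G) (hQ : IsPGroup 3 Q) (hQ1 : Q ≠ ⊥)
    (hn : ∀ a ∈ Q, w * a * w⁻¹ ∈ Q) : False := by
  have : Fact (Nat.Prime 5) := ⟨by norm_num⟩
  have h := fix_mod hw (Q : Set G) hn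
  obtain ⟨i, hi⟩ := hQ.exists_card_eq
  have h9 : 3 ^ i ∣ 3 ^ 2 := by
    obtain ⟨P, hP⟩ := hQ.exists_le_sylow
    have := card_dvd_of_le hP
    rw [hi, card_sylow3 hd] at this
    norm_num
    exact this
  have hi2 := (Nat.pow_dvd_pow_iff_le_right (by norm_num : 1 < 3)).1 h9
  have hfix : Nat.card {a : G // a ∈ (Q : Set G) ∧ a ∈ cz w} = 1 := by
    rw [Nat.card_eq_one_iff_unique]
    refine ⟨⟨fun a b => Subtype.ext ?_⟩, ⟨⟨1, Q.one_mem, one_mem _⟩⟩⟩
    have key : ∀ a : {a : G // a ∈ (Q : Set G) ∧ a ∈ cz w}, a.1 = 1 := by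
      rintro ⟨a, haQ, haw⟩
      have h5 := orderOf_dvd_natCard (⟨a, haw⟩ : cz w)
      rw [hd.cprime w (by rw [hw]; simp), hw, ← Subgroup.orderOf_coe] at h5
      have h3 := orderOf_dvd_natCard (⟨a, haQ⟩ : Q)
      rw [hi, ← Subgroup.orderOf_coe] at h3
      exact orderOf_eq_one_iff.1 (Nat.eq_one_of_dvd_coprimes (Nat.Coprime.pow_right i (by norm_num)) h5 h3)
    rw [key a, key b]
  rw [hfix, show Nat.card (Q : Set G) = 3 ^ i from hi, Nat.ModEq] at h
  interval_cases i
  · exact hQ1 (eq_bot_of_card_eq Q (by rw [hi]; rfl))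
  all_goals simp at h

end Cfsg.Agent.M22Nse38
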