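import Cfsg.Agent.M22Nse38.Per
import Cfsg.Agent.M22Nse38.Data
import Cfsg.Agent.Lib.Golay.Simple

/-!
# Kernel checks of the tables
-/

set_option autoImplicit false
set_option maxRecDepth 100000

namespace Cfsg.Agent.M22Nse38

open Cfsg Cfsg.Agent.Golay

/-- The packed products of a prefix. -/
def aPack : ℕ → List ℕ
  | 0 => aPack0
  | 1 => aPack1
  | 2 => aPack2
  | _ => aPack3

/-- The orders of a prefix. -/
def ordList : ℕ → List ℕ
  | 0 => ord0List
  | 1 => ord1List
  | 2 => ord2List
  | _ => ord3List

/-- The table of a product as a function. -/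
def fn (s a c m : ℕ) : ℕ := look ((aPack s).getD a 0) (look (t6Pack.getD c 0) m)

/-- The orders of all products with a prefix. -/
def okOrd (s : ℕ) : Bool :=
  (List.range 60).all fun a => (List.range 16).all fun c =>
    Nat.beq (ordN (fn s a c)) ((ordList s).getD (16 * a + c) 0) &&
      !Nat.beq ((ordList s).getD (16 * a + c) 0) 0

/-- The packed products are the products. -/
def okPack (s : ℕ) : Bool :=
  (List.range 20).all fun i => (List.range 3).all fun j => (List.range 24).all fun m =>
    Nat.beq (look ((aPack s).getD (3 * i + j) 0) m)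
      ((preTab.getD s []).getD ((t4Tab.getD i []).getD ((t5Tab.getD j []).getD m 0) 0) 0)

/-- The packed last transversal. -/
def okSix : Bool :=
  (List.range 16).all fun c => (List.range 24).all fun m =>
    Nat.beq (look (t6Pack.getD c 0) m) ((t6Tab.getD c []).getD m 0)

theorem ord0_ok : okOrd 0 = true := by decide +kernel
theorem ord1_ok : okOrd 1 = true := by decide +kernel
theorem ord2_ok : okOrd 2 = true := by decide +kernel
theorem ord3_ok : okOrd 3 = true := by decide +kernel

theorem pack_ok : (List.range 4).all okPack = true ∧ okSix = true := by decide +kernel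

/-- The transversals are the ones of the straight-line program. -/
theorem tab_ok :
    (reps22.getD 2 []).map (fun xk => (evalSLP [doubleTab, conj22Tab, idTab] prog22).getD xk.2 idTab)
      = t4Tab ∧
    (reps22.getD 3 []).map (fun xk => (evalSLP [doubleTab, conj22Tab, idTab] prog22).getD xk.2 idTab)
      = t5Tab ∧
    (reps22.getD 4 []).map (fun xk => (evalSLP [doubleTab, conj22Tab, idTab] prog22).getD xk.2 idTab)
      = t6Tab := by
  decide +kernel

/-- Fixed base points and images. -/
def okLevel (T : List (List ℕ)) (i : ℕ) : Bool :=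
  decide (T.map (fun l => l.getD (baseN.getD i 0) 0) = orbN.getD i []) &&
    T.all fun l => (List.range i).all fun j => l.getD (baseN.getD j 0) 0 == baseN.getD j 0

theorem level_ok : okLevel t4Tab 4 = true ∧ okLevel t5Tab 5 = true ∧ okLevel t6Tab 6 = true ∧
    (orbN.getD 4 []).Nodup ∧ (orbN.getD 5 []).Nodup ∧ (orbN.getD 6 []).Nodup := by
  decide +kernel

/-- The prefixes: in `M₂₄`, fixing the first two base points, with their images. -/
def okPre (s x y : ℕ) : Bool :=
  let l := preTab.getD s []
  isPermTab l && checkAut l && (l.getD 23 0 == 23) && (l.getD 0 0 == 0) && (l.getD 1 0 == x) &&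
    (l.getD 2 0 == y)

theorem pre_ok : okPre 0 1 2 = true ∧ okPre 1 1 3 = true ∧ okPre 2 2 1 = true ∧ okPre 3 2 3 = true := by
  decide +kernel

/-- The number of products of a given order. -/
def cnt (s n : ℕ) : ℕ := (ordList s).countP (Nat.beq n)

/-- The number of elements of a given order of `M₂₂`. -/
def val (n : ℕ) : ℕ := cnt 0 n + 20 * cnt 1 n + 21 * (cnt 2 n + 20 * cnt 3 n)

theorem val_ok : [1, 2, 3, 4, 5, 6, 7, 8, 11].map val =
    [1, 1155, 12320, 41580, 88704, 36960, 126720, 55440, 80640] ∧
    (List.range 4).all (fun s => (ordList s).length == 960 &&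
      (ordList s).all fun o => [1, 2, 3, 4, 5, 6, 7, 8, 11].contains o) = true := by
  decide +kernel

end Cfsg.Agent.M22Nse38
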