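import Cfsg.Agent.M22Nse38.Arith
import Cfsg.Agent.M22Nse38.Gen

/-!
# Centralisers of elements of order 2 and 3
-/

set_option autoImplicit false

namespace Cfsg.Agent.M22Nse38

open Subgroup

variable {G : Type*} [Group G] [Finite G] (hd : Dat G)
include hd

theorem ord_eq_of_five {g : G} {p : ℕ} (hp : p ∈ ([5, 7, 11] : List ℕ)) (h : p ∣ orderOf g) :
    orderOf g = p := by
  have := hd.spec g
  simp only [List.mem_cons, List.not_mem_nil, or_false] at hp this
  rcases hp with rfl | rfl | rfl <;> omega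

theorem not_dvd_cz {g : G} {p : ℕ} (hp : p ∈ ([5, 7, 11] : List ℕ)) (hg : orderOf g ≠ p)
    (hg1 : g ≠ 1) : ¬ p ∣ Nat.card (cz g) := by
  intro h
  have hpp : p.Prime := by
    simp only [List.mem_cons, List.not_mem_nil, or_false] at hp
    rcases hp with rfl | rfl | rfl <;> norm_num
  have : Fact p.Prime := ⟨hpp⟩
  obtain ⟨w, hw⟩ := exists_prime_orderOf_dvd_card' (G := cz g) p h
  have hw' : orderOf w.1 = p := by rw [Subgroup.orderOf_coe, hw]
  have hmem : g ∈ cz w.1 := mem_cz.2 (mem_cz.1 w.2).symm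
  have hd' := orderOf_dvd_natCard (⟨g, hmem⟩ : cz w.1)
  rw [hd.cprime _ (by rw [hw']; exact hp), hw', ← Subgroup.orderOf_coe] at hd'
  rcases (Nat.dvd_prime hpp).1 hd' with e | e
  · exact hg1 (orderOf_eq_one_iff.1 e)
  · exact hg e

theorem cz_dvd {g : G} (hg : orderOf g = 2 ∨ orderOf g = 3) : Nat.card (cz g) ∣ 2 ^ 7 * 9 := by
  have h : Nat.card (cz g) ∣ 2 ^ 7 * 9 * (5 * 7 * 11) := by
    have := card_subgroup_dvd_card (cz g)
    rw [hd.card] at this
    norm_num
    exact this
  have g1 : g ≠ 1 := by rintro rfl; simp at hg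
  refine Nat.Coprime.dvd_of_dvd_mul_right ?_ h
  refine (Nat.Coprime.mul_right (Nat.Coprime.mul_right ?_ ?_) ?_)
  all_goals
    refine ((Nat.Prime.coprime_iff_not_dvd (by norm_num)).2 (not_dvd_cz hd (by simp) ?_ g1)).symm
    omega

theorem class_le (g : G) : Nat.card {w : G // IsConj g w} ≤ sn G (orderOf g) := by
  refine Nat.card_le_card_of_injective (fun w => ⟨w.1, ?_⟩) fun a b e => ?_
  · obtain ⟨c, hc⟩ := isConj_iff.1 w.2
    rw [← hc, orderOf_conj]
  · exact Subtype.ext (congrArg Subtype.val e :)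

theorem conj_of_class {g : G} {n : ℕ} (hg : orderOf g = n)
    (h : Nat.card {w : G // IsConj g w} = sn G n) {w : G} (hw : orderOf w = n) :
    ∃ c : G, c * g * c⁻¹ = w := by
  let f : {w : G // IsConj g w} → {w : G // orderOf w = n} := fun z => ⟨z.1, by
    obtain ⟨c, hc⟩ := isConj_iff.1 z.2
    rw [← hc, orderOf_conj, hg]⟩
  have hinj : Function.Injective f := fun a b e => Subtype.ext (congrArg Subtype.val e :)
  obtain ⟨z, hz⟩ := ((Nat.bijective_iff_injective_and_card f).2 ⟨hinj, h⟩).2 ⟨w, hw⟩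
  obtain ⟨c, hc⟩ := isConj_iff.1 z.2
  exact ⟨c, hc.trans (congrArg Subtype.val hz)⟩

/-- A 2-element commuting with an element of order 3 squares to one. -/
theorem sq_eq_one {x w : G} (hx : orderOf x = 3) (hc : Commute x w) {k : ℕ}
    (hw : orderOf w ∣ 2 ^ k) : w ^ 2 = 1 := by
  have hco : (orderOf x).Coprime (orderOf w) :=
    Nat.Coprime.coprime_dvd_right hw (by rw [hx]; exact Nat.Coprime.pow_right k (by norm_num))
  have h := hd.spec (x * w)
  rw [hc.orderOf_mul_eq_mul_orderOf_of_coprime hco, hx] at h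
  simp only [List.mem_cons, List.not_mem_nil, or_false] at h
  rw [← orderOf_dvd_iff_pow_eq_one]
  have ho : orderOf w = 1 ∨ orderOf w = 2 := by omega
  rcases ho with ho | ho <;> rw [ho]
  exact one_dvd _

theorem card_nine_dvd {x : G} (hx : orderOf x = 3) :
    9 ∣ Nat.card (cz x) ∧ ∃ P : Sylow 3 G, x ∈ (P : Subgroup G) := by
  have : Fact (Nat.Prime 3) := ⟨Nat.prime_three⟩
  obtain ⟨P, hP⟩ := SmallGroups.exists_mem_sylow hx
  have hc : Nat.card (P : Subgroup G) = 3 ^ 2 := by
    rw [P.card_eq_multiplicity, hd.card,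
      show (443520 : ℕ).factorization 3 = 2 by
        rw [show (443520 : ℕ) = 3 ^ 2 * 49280 from by norm_num,
          Nat.factorization_mul (by norm_num) (by norm_num), Finsupp.add_apply,
          Nat.Prime.factorization_pow Nat.prime_three, Finsupp.single_eq_same,
          Nat.factorization_eq_zero_of_not_dvd (by norm_num)]]
  refine ⟨?_, P, hP⟩
  rw [show (9 : ℕ) = 3 ^ 2 by norm_num, ← hc]
  refine card_dvd_of_le fun w hw => mem_cz.2 ?_
  exact congrArg Subtype.val (IsPGroup.commutative_of_card_eq_prime_sq hc ⟨w, hw⟩ ⟨x, hP⟩)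

/-- The centraliser of an element of order three. -/
theorem cz_three {x : G} (hx : orderOf x = 3) :
    Nat.card (cz x) = 36 ∧ Nat.card {w : G // orderOf w = 2 ∧ Commute x w} = 3 := by
  classical
  have := Fintype.ofFinite G
  have key : ∀ y : G, orderOf y = 3 → ∃ a, 2 ≤ a ∧ Nat.card (cz y) = 9 * 2 ^ a ∧
      2 ^ a ≤ Nat.card {w : G // orderOf w = 2 ∧ Commute y w} + 1 := by
    intro y hy
    have h1 := SmallGroups.card_conj_mul_centralizer y
    have h2 : Nat.card {w : G // IsConj y w} ≤ 12320 := (class_le hd y).trans (by rw [hy, hd.s3])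
    rw [hd.card] at h1
    have h36 : 36 ≤ Nat.card (cz y) := by
      by_contra hlt
      push Not at hlt
      have := Nat.mul_le_mul h2 (Nat.le_of_lt_succ (show Nat.card (cz y) < 35 + 1 by omega))
      change Nat.card {w : G // IsConj y w} * Nat.card (cz y) = _ at h1
      omega
    obtain ⟨m, hm⟩ := (card_nine_dvd hd hy).1
    have hm2 : m ∣ 2 ^ 7 := Nat.dvd_of_mul_dvd_mul_left (by norm_num : 0 < 9)
      (by rw [← hm, mul_comm 9]; exact cz_dvd hd (Or.inr hy))
    obtain ⟨a, -, rfl⟩ := (Nat.dvd_prime_pow Nat.prime_two).1 hm2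
    refine ⟨a, ?_, hm, ?_⟩
    · by_contra ha
      have := Nat.pow_le_pow_right two_pos (show a ≤ 1 by omega)
      omega
    · have : Fact (Nat.Prime 2) := ⟨Nat.prime_two⟩
      obtain ⟨Q⟩ : Nonempty (Sylow 2 (cz y)) := inferInstance
      have hQ : Nat.card (Q : Subgroup (cz y)) = 2 ^ a := by
        rw [Q.card_eq_multiplicity, hm, Nat.factorization_mul (by norm_num) (by positivity),
          Finsupp.add_apply, Nat.Prime.factorization_pow Nat.prime_two, Finsupp.single_eq_same,
          Nat.factorization_eq_zero_of_not_dvd (by norm_num), zero_add]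
      rw [← hQ]
      have hinj : Function.Injective (fun w : (Q : Subgroup (cz y)) =>
          if h : (w.1.1 : G) = 1 then none
          else some (⟨w.1.1, by
            have hsq := sq_eq_one hd hy (mem_cz.1 w.1.2).symm (k := a) (w := w.1.1) (by
              rw [Subgroup.orderOf_coe, Subgroup.orderOf_coe, ← hQ]; exact orderOf_dvd_natCard w)
            exact orderOf_eq_prime hsq h, (mem_cz.1 w.1.2).symm⟩ :
              {w : G // orderOf w = 2 ∧ Commute y w})) := by
        intro u v e
        simp only at e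
        by_cases hu : (u.1.1 : G) = 1 <;> by_cases hv : (v.1.1 : G) = 1
        · exact Subtype.ext (Subtype.ext (hu.trans hv.symm))
        · rw [dif_pos hu, dif_neg hv] at e; exact absurd e.symm (by simp)
        · rw [dif_neg hu, dif_pos hv] at e; exact absurd e (by simp)
        · rw [dif_neg hu, dif_neg hv] at e
          exact Subtype.ext (Subtype.ext (congrArg Subtype.val (Option.some.inj e) :))
      refine (Nat.card_le_card_of_injective _ hinj).trans ?_
      rw [Finite.card_option]
  have hsum : ∑ y : {y : G // orderOf y = 3}, Nat.card {w : G // orderOf w = 2 ∧ Commute y.1 w} =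
      ∑ _y : {y : G // orderOf y = 3}, 3 := by
    rw [← sn_mul (by norm_num), hd.s6, Finset.sum_const, Finset.card_univ,
      ← Nat.card_eq_fintype_card, ← sn, hd.s3]
    rfl
  have hge : ∀ y ∈ (Finset.univ : Finset {y : G // orderOf y = 3}),
      3 ≤ Nat.card {w : G // orderOf w = 2 ∧ Commute y.1 w} := by
    intro y _
    obtain ⟨a, ha, -, h⟩ := key y.1 y.2
    have := Nat.pow_le_pow_right two_pos ha
    omega
  have heq := (Finset.sum_eq_sum_iff_of_le hge).1 hsum.symm ⟨x, hx⟩ (Finset.mem_univ _)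
  refine ⟨?_, heq.symm⟩
  obtain ⟨a, ha, hc, h⟩ := key x hx
  rw [← heq] at h
  have : a = 2 := by
    by_contra hne
    have := Nat.pow_le_pow_right two_pos (show 3 ≤ a by omega)
    omega
  rw [hc, this]
  norm_num

theorem conj_three {x w : G} (hx : orderOf x = 3) (hw : orderOf w = 3) : ∃ c : G, c * x * c⁻¹ = w := by
  refine conj_of_class hd hx ?_ hw
  have h1 := SmallGroups.card_conj_mul_centralizer x
  rw [hd.card, show Nat.card (centralizer ({x} : Set G)) = 36 from (cz_three hd hx).1] at h1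
  rw [hd.s3]
  omega

/-- The involutions commuting with `x`, and one. -/
def fourOf (x : G) : Subgroup G := closure {w : G | w ^ 2 = 1 ∧ Commute x w}

theorem mem_fourOf {x : G} (hx : orderOf x = 3) {w : G} :
    w ∈ fourOf x ↔ w ^ 2 = 1 ∧ Commute x w := by
  classical
  refine ⟨fun h => ?_, fun h => subset_closure h⟩
  have : Fact (Nat.Prime 2) := ⟨Nat.prime_two⟩
  obtain ⟨hc, hi⟩ := cz_three hd hx
  obtain ⟨Q⟩ : Nonempty (Sylow 2 (cz x)) := inferInstance
  have hQ : Nat.card (Q : Subgroup (cz x)) = 4 := by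
    rw [Q.card_eq_multiplicity, hc, show (36 : ℕ) = 2 ^ 2 * 9 by norm_num,
      Nat.factorization_mul (by norm_num) (by norm_num), Finsupp.add_apply,
      Nat.Prime.factorization_pow Nat.prime_two, Finsupp.single_eq_same,
      Nat.factorization_eq_zero_of_not_dvd (by norm_num)]
    norm_num
  set V := (Q : Subgroup (cz x)).map (cz x).subtype with hV
  have hsub : ∀ v ∈ V, v ^ 2 = 1 ∧ Commute x v := by
    rintro _ ⟨q, hq, rfl⟩
    refine ⟨sq_eq_one hd hx (mem_cz.1 q.2).symm (k := 2) ?_, (mem_cz.1 q.2).symm⟩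
    change orderOf (q : G) ∣ _
    rw [Subgroup.orderOf_coe, show (2 : ℕ) ^ 2 = 4 by norm_num, ← hQ]
    rw [show orderOf q = orderOf (⟨q, hq⟩ : (Q : Subgroup (cz x))) from
      (Subgroup.orderOf_coe (⟨q, hq⟩ : (Q : Subgroup (cz x))))]
    exact orderOf_dvd_natCard _
  have hset : {w : G | w ^ 2 = 1 ∧ Commute x w} = (V : Set G) := by
    refine (Set.eq_of_subset_of_ncard_le hsub ?_ (Set.toFinite _)).symm
    rw [show (V : Set G).ncard = 4 by
      rw [← Nat.card_coe_set_eq, SetLike.coe_sort_coe, hV,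
        card_map_of_injective (cz x).subtype_injective, hQ]]
    have hsplit : {w : G | w ^ 2 = 1 ∧ Commute x w} ⊆
        insert 1 {w : G | orderOf w = 2 ∧ Commute x w} := by
      rintro w ⟨h2, hcw⟩
      by_cases h1 : w = 1
      · exact Or.inl h1
      · exact Or.inr ⟨orderOf_eq_prime h2 h1, hcw⟩
    refine (Set.ncard_le_ncard hsplit (Set.toFinite _)).trans ((Set.ncard_insert_le _ _).trans ?_)
    rw [← Nat.card_coe_set_eq]
    exact (Nat.add_le_add_right hi.le 1)
  rw [fourOf, hset, closure_eq] at h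
  exact hsub w h

theorem fourOf_comm {x : G} (hx : orderOf x = 3) {v w : G} (hv : v ∈ fourOf x) (hw : w ∈ fourOf x) :
    v * w = w * v := by
  have h1 := ((mem_fourOf hd hx).1 hv).1
  have h2 := ((mem_fourOf hd hx).1 hw).1
  have h3 := ((mem_fourOf hd hx).1 (mul_mem hv hw)).1
  rw [pow_two] at h1 h2 h3
  calc v * w = (v * w)⁻¹ := eq_inv_of_mul_eq_one_left h3
    _ = w⁻¹ * v⁻¹ := by group
    _ = w * v := by rw [inv_eq_of_mul_eq_one_right h2, inv_eq_of_mul_eq_one_right h1]

theorem card_fourOf {x : G} (hx : orderOf x = 3) : Nat.card (fourOf x) = 4 := by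
  classical
  let f : Option {w : G // orderOf w = 2 ∧ Commute x w} → fourOf x := fun o => match o with
    | none => 1
    | some w => ⟨w.1, (mem_fourOf hd hx).2 ⟨orderOf_dvd_iff_pow_eq_one.1 (dvd_of_eq w.2.1), w.2.2⟩⟩
  have hf : Function.Bijective f := by
    constructor
    · rintro (_ | a) (_ | b) e
      · rfl
      · have := congrArg Subtype.val e; have hb := b.2.1; simp [f] at this; simp [← this] at hb
      · have := congrArg Subtype.val e; have ha := a.2.1; simp [f] at this; simp [this] at ha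
      · exact congrArg some (Subtype.ext (congrArg Subtype.val e :))
    · rintro ⟨w, hw⟩
      obtain ⟨h2, hc⟩ := (mem_fourOf hd hx).1 hw
      by_cases h1 : w = 1
      · exact ⟨none, Subtype.ext h1.symm⟩
      · exact ⟨some ⟨w, orderOf_eq_prime h2 h1, hc⟩, rfl⟩
  rw [← Nat.card_eq_of_bijective f hf, Finite.card_option, (cz_three hd hx).2]

end Cfsg.Agent.M22Nse38
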