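import Cfsg.Agent.M22Nse38.Count

/-!
# The set of numbers of elements of given order of M₂₂
-/

set_option autoImplicit false

namespace Cfsg.Agent.M22Nse38

open Cfsg Cfsg.Agent.Golay Finset

/-- The points moved by `M₂₂` other than the first. -/
def restA : Finset GolayPt := univ \ {bp 0, bp 1, bp 2}

/-- The points moved by `M₂₂` other than the first two. -/
def restB : Finset GolayPt := univ \ {bp 0, bp 1, bp 2, bp 3}

theorem rest_facts : restA.card = 21 ∧ restB.card = 20 ∧ bp 3 ∈ restA ∧ bp 4 ∈ restB ∧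
    (∀ p ∈ restA, idx p ∈ orbN.getD 3 []) ∧ (∀ p ∈ restB, idx p ∈ orbN.getD 4 []) ∧
    pt 1 = bp 2 ∧ pt 2 = bp 3 ∧ pt 3 = bp 4 := by
  decide +kernel

theorem exists_move {i : ℕ} (hi : 3 ≤ i) (hi' : i < 5) {p : GolayPt} (hp : idx p ∈ orbN.getD i []) :
    ∃ k ∈ Spor.M22, (∀ j < i, k (bp j) = bp j) ∧ k (bp i) = p := by
  obtain ⟨k, hk, hkx⟩ := (fixUpTo_le_of_repsCheck (H := Spor.M22) (fun g hg => hg.1.1)
    exists_tab _ _ simple_facts.2.1).2 i (by omega) (by omega) _ hp
  obtain ⟨k1, k2⟩ := mem_fixUpTo.1 hk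
  exact ⟨k, k1, k2, idx_injective hkx⟩

theorem card_conj {n : ℕ} {k : Equiv.Perm GolayPt} (hk : k ∈ Spor.M22) (P Q : Equiv.Perm GolayPt → Prop)
    [DecidablePred P] [DecidablePred Q] (h : ∀ g, P g ↔ Q (k * g * k⁻¹)) :
    ((El n).filter P).card = ((El n).filter Q).card := by
  classical
  refine card_nbij' (fun g => k * g * k⁻¹) (fun g => k⁻¹ * g * k) (fun g hg => ?_) (fun g hg => ?_)
    (fun g _ => by group) (fun g _ => by group)
  · simp only [coe_filter, Set.mem_setOf_eq, mem_El] at hg ⊢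
    refine ⟨⟨mul_mem (mul_mem hk hg.1.1) (inv_mem hk), ?_⟩, (h g).1 hg.2⟩
    rw [← hg.1.2]
    exact orderOf_injective (MulAut.conj k).toMonoidHom (MulAut.conj k).injective g
  · simp only [coe_filter, Set.mem_setOf_eq, mem_El] at hg ⊢
    refine ⟨⟨mul_mem (mul_mem (inv_mem hk) hg.1.1) hk, ?_⟩, (h _).2 ?_⟩
    · rw [← hg.1.2]
      simpa using orderOf_injective (MulAut.conj k⁻¹).toMonoidHom (MulAut.conj k⁻¹).injective g
    · rw [show k * (k⁻¹ * g * k) * k⁻¹ = g by group]
      exact hg.2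

theorem card_El (n : ℕ) : (El n).card = val n := by
  classical
  obtain ⟨cA, cB, m3, m4, oA, oB, e1, e2, e3⟩ := rest_facts
  obtain ⟨p0, p1, p2, p3⟩ := pre_ok
  have C0 : _ = cnt 0 n := card_two (by norm_num) p0 ord0_ok n
  have C1 : _ = cnt 1 n := card_two (by norm_num) p1 ord1_ok n
  have C2 : _ = cnt 2 n := card_two (by norm_num) p2 ord2_ok n
  have C3 : _ = cnt 3 n := card_two (by norm_num) p3 ord3_ok n
  rw [e1, e2] at C0 C2
  rw [e1, e3] at C1
  rw [e2, e3] at C3
  have moved : ∀ {g : Equiv.Perm GolayPt}, g ∈ El n → ∀ j < 2, ∀ i, 2 ≤ i → i < 4 →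
      g (bp i) ≠ bp j := by
    intro g hg j hj i hi hi' e
    have h1 : bp i = bp j := g.injective (e.trans (fixes (mem_El.1 hg).1 hj).symm)
    revert h1
    interval_cases i <;> interval_cases j <;> decide +kernel
  set F : GolayPt → GolayPt → ℕ := fun x y =>
    ((El n).filter fun g => g (bp 2) = x ∧ g (bp 3) = y).card with hF
  set G1 : GolayPt → ℕ := fun x => ((El n).filter fun g => g (bp 2) = x).card with hG1
  -- second image
  have hsum : ∀ x, G1 x = ∑ y, F x y := fun x => by
    rw [hG1]; dsimp only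
    rw [card_eq_sum_card_fiberwise (f := fun g : Equiv.Perm GolayPt => g (bp 3)) (t := univ)
      (fun _ _ => mem_univ _)]
    exact sum_congr rfl fun y _ => by rw [hF, filter_filter]
  have hG1a : ∀ p ∈ restA, G1 p = G1 (bp 3) := fun p hp => by
    obtain ⟨k, hk, kfix, kp⟩ := exists_move le_rfl (by norm_num) (oA p hp)
    refine (card_conj hk _ _ fun g => ?_).symm
    simp only [Equiv.Perm.mul_apply]
    rw [show k⁻¹ (bp 2) = bp 2 from (Equiv.symm_apply_eq k).2 (kfix 2 (by norm_num)).symm, ← kp,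
      k.injective.eq_iff]
  have hFb : ∀ x ∈ ({bp 2, bp 3} : Finset GolayPt), ∀ p ∈ restB, F x p = F x (bp 4) := by
    intro x hx p hp
    obtain ⟨k, hk, kfix, kp⟩ := exists_move (i := 4) (by norm_num) (by norm_num) (oB p hp)
    have kx : k x = x := by
      simp only [mem_insert, mem_singleton] at hx
      rcases hx with rfl | rfl
      exacts [kfix 2 (by norm_num), kfix 3 (by norm_num)]
    refine (card_conj hk _ _ fun g => ?_).symm
    simp only [Equiv.Perm.mul_apply]
    rw [show k⁻¹ (bp 2) = bp 2 from (Equiv.symm_apply_eq k).2 (kfix 2 (by norm_num)).symm,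
      show k⁻¹ (bp 3) = bp 3 from (Equiv.symm_apply_eq k).2 (kfix 3 (by norm_num)).symm, ← kp]
    conv_rhs => rw [← kx, k.injective.eq_iff, k.injective.eq_iff]
  have hzero : ∀ x y, (y = bp 0 ∨ y = bp 1 ∨ y = x) → F x y = 0 := by
    intro x y h
    rw [hF]; dsimp only
    rw [card_eq_zero, filter_eq_empty_iff]
    rintro g hg ⟨g2, g3⟩
    rcases h with rfl | rfl | rfl
    · exact moved hg 0 (by norm_num) 3 (by norm_num) (by norm_num) g3
    · exact moved hg 1 (by norm_num) 3 (by norm_num) (by norm_num) g3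
    · have := g.injective (g2.trans g3.symm)
      revert this; decide +kernel
  have row : ∀ x ∈ ({bp 2, bp 3} : Finset GolayPt), ∀ z, (x = bp 2 ∧ z = bp 3 ∨ x = bp 3 ∧ z = bp 2) →
      G1 x = F x z + 20 * F x (bp 4) := by
    intro x hx z hz
    rw [hsum, ← sum_sdiff (subset_univ {bp 0, bp 1, bp 2, bp 3})]
    have hrest : ∑ y ∈ univ \ ({bp 0, bp 1, bp 2, bp 3} : Finset GolayPt), F x y = 20 * F x (bp 4) := by
      rw [← restB, sum_congr rfl (hFb x hx), sum_const, cB, smul_eq_mul]
    rw [hrest, add_comm]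
    refine congrArg (· + 20 * F x (bp 4)) (sum_eq_single_of_mem z ?_ fun y hy hne => hzero x y ?_)
    · rcases hz with ⟨-, rfl⟩ | ⟨-, rfl⟩ <;> simp
    · simp only [mem_insert, mem_singleton] at hy
      rcases hz with ⟨ex, ez⟩ | ⟨ex, ez⟩ <;> subst ex ez <;>
        rcases hy with h | h | h | h
      exacts [.inl h, .inr (.inl h), .inr (.inr h), absurd h hne,
        .inl h, .inr (.inl h), absurd h hne, .inr (.inr h)]
  have htot : (El n).card = G1 (bp 2) + 21 * G1 (bp 3) := by
    rw [card_eq_sum_card_fiberwise (f := fun g : Equiv.Perm GolayPt => g (bp 2)) (t := univ)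
      (fun _ _ => mem_univ _)]
    show ∑ x, G1 x = _
    rw [← sum_sdiff (subset_univ {bp 0, bp 1, bp 2}), ← restA, sum_congr rfl hG1a, sum_const, cA,
      smul_eq_mul, add_comm]
    refine congrArg (· + 21 * G1 (bp 3)) (sum_eq_single_of_mem (bp 2) (by simp) fun y hy hne => ?_)
    rw [hG1]; dsimp only
    rw [card_eq_zero, filter_eq_empty_iff]
    intro g hg e
    simp only [mem_insert, mem_singleton] at hy
    rcases hy with rfl | rfl | rfl
    exacts [moved hg 0 (by norm_num) 2 le_rfl (by norm_num) e,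
      moved hg 1 (by norm_num) 2 le_rfl (by norm_num) e, hne rfl]
  rw [htot, row (bp 2) (by simp) (bp 3) (Or.inl ⟨rfl, rfl⟩),
    row (bp 3) (by simp) (bp 2) (Or.inr ⟨rfl, rfl⟩), val]
  simp only [hF]
  rw [C0, C1, C2, C3]

/-- The values. -/
def nseList : List ℕ := [1, 1155, 12320, 41580, 88704, 36960, 126720, 55440, 80640]

theorem val_mem {n : ℕ} (h : 0 < val n) : val n ∈ nseList := by
  have key : n ∈ [1, 2, 3, 4, 5, 6, 7, 8, 11] := by
    by_contra hn
    have hz : ∀ s < 4, cnt s n = 0 := by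
      intro s hs
      have := val_ok.2
      simp only [List.all_eq_true, List.mem_range, Bool.and_eq_true, List.contains_iff_mem] at this
      rw [cnt, List.countP_eq_zero]
      intro o ho e
      exact hn (Nat.eq_of_beq_eq_true e ▸ (this s hs).2 o ho)
    simp [val, hz] at h
  have h2 := List.mem_map_of_mem (f := val) key
  rwa [val_ok.1] at h2

theorem card_order (n : ℕ) : Nat.card {g : Spor.M22 // orderOf g = n} = val n := by
  classical
  rw [← card_El, ← Nat.card_eq_finsetCard]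
  refine Nat.card_congr ((Equiv.subtypeEquivRight fun g => ?_).trans ((Equiv.subtypeSubtypeEquivSubtypeInter
    (fun g => g ∈ Spor.M22) fun g : Equiv.Perm GolayPt => orderOf g = n).trans
    (Equiv.subtypeEquivRight fun g => mem_El.symm)))
  rw [Subgroup.orderOf_coe]

/-- The values for `M₂₂`. -/
theorem values_M22 : {c : ℕ | 0 < c ∧ ∃ n : ℕ, c = Nat.card {g : ↥Spor.M22 // orderOf g = n}} =
    {c | c ∈ nseList} := by
  ext c
  simp only [Set.mem_setOf_eq, card_order]
  constructor
  · rintro ⟨hc, n, rfl⟩; exact val_mem hc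
  · intro hc
    refine ⟨?_, ?_⟩
    · simp only [nseList, List.mem_cons, List.not_mem_nil, or_false] at hc
      omega
    · rw [nseList, ← val_ok.1, List.mem_map] at hc
      obtain ⟨n, -, rfl⟩ := hc
      exact ⟨n, rfl⟩

end Cfsg.Agent.M22Nse38
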